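import Mathlib
import Cfsg.Agent.Lib.helper2.Invol

set_option autoImplicit false

namespace Cfsg.Agent.Lib.helper2.Count

open Cfsg.Agent.Lib.helper2

variable {G : Type*} [Group G]

/-- ordered pairs of involutions with product `x` -/
abbrev Pairs (x : G) : Type _ :=
  {p : G × G // orderOf p.1 = 2 ∧ orderOf p.2 = 2 ∧ p.1 * p.2 = x}

theorem card_subtype_ne_add_one {α : Type*} [Finite α] (P : α → Prop) (a : α) (ha : P a) :
    Nat.card {t : α // P t ∧ t ≠ a} + 1 = Nat.card {t : α // P t} := by
  have h1 : Nat.card {t : α // P t ∧ t ≠ a} = ({t : α | P t ∧ t ≠ a}).ncard :=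
    Nat.card_coe_set_eq {t : α | P t ∧ t ≠ a}
  have h2 : Nat.card {t : α // P t} = ({t : α | P t}).ncard :=
    Nat.card_coe_set_eq {t : α | P t}
  have h3 : {t : α | P t} = insert a {t : α | P t ∧ t ≠ a} := by
    ext t
    constructor
    · intro ht
      by_cases h : t = a
      · exact Or.inl h
      · exact Or.inr ⟨ht, h⟩
    · rintro (h | h)
      · rw [h]; exact ha
      · exact h.1
  rw [h1, h2, h3, Set.ncard_insert_of_notMem]
  intro h
  exact h.2 rfl

theorem card_inverting [Finite G] (x : G) (hreal : IsConj x x⁻¹) :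
    Nat.card {g : G // g * x * g⁻¹ = x⁻¹} = Nat.card (Subgroup.centralizer ({x} : Set G)) := by
  obtain ⟨c, hc⟩ := isConj_iff.1 hreal
  symm
  apply Nat.card_congr
  refine ⟨fun h => ⟨c * h, ?_⟩, fun g => ⟨c⁻¹ * g, ?_⟩, ?_, ?_⟩
  · have hh : (h : G) * x = x * h := Subgroup.mem_centralizer_singleton_iff.1 h.2
    calc c * h * x * (c * h)⁻¹ = c * (h * x) * (h : G)⁻¹ * c⁻¹ := by group
      _ = c * (x * h) * (h : G)⁻¹ * c⁻¹ := by rw [hh]
      _ = c * x * c⁻¹ := by group
      _ = x⁻¹ := hc
  · rw [Subgroup.mem_centralizer_singleton_iff]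
    have hg := g.2
    have h1 : (g : G) * x = x⁻¹ * g := mul_inv_eq_iff_eq_mul.1 hg
    have h2 : c⁻¹ * x⁻¹ = x * c⁻¹ := by rw [← hc]; group
    calc c⁻¹ * g * x = c⁻¹ * (g * x) := by group
      _ = c⁻¹ * (x⁻¹ * g) := by rw [h1]
      _ = (c⁻¹ * x⁻¹) * g := by group
      _ = x * c⁻¹ * g := by rw [h2]
      _ = x * (c⁻¹ * g) := by group
  · intro h
    ext
    simp
  · intro g
    ext
    simp

theorem pairs_card_of_sq_ne (x : G) (hx : x ^ 2 ≠ 1) :
    Nat.card (Pairs x) = Nat.card {t : G // orderOf t = 2 ∧ t * x * t⁻¹ = x⁻¹} := by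
  apply Nat.card_congr
  refine ⟨fun p => ⟨p.1.1, p.2.1, ?_⟩, fun t => ⟨(t.1, t.1 * x), t.2.1, ?_, ?_⟩, ?_, ?_⟩
  · obtain ⟨⟨u, v⟩, hu, hv, huv⟩ := p
    simp only at hu hv huv ⊢
    rw [← huv, Invol.inv_of_order_two hu, mul_inv_rev, Invol.inv_of_order_two hu,
      Invol.inv_of_order_two hv, ← mul_assoc, Invol.sq_of_order_two hu, one_mul]
  · have ht := t.2.1
    have hinv := t.2.2
    apply Invol.order_two_of
    · have : (t : G) * x * ((t : G) * x) = ((t : G) * x * (t : G)⁻¹) * x := by
        rw [Invol.inv_of_order_two ht]; group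
      rw [this, hinv, inv_mul_cancel]
    · intro h
      apply hx
      have h1 : x = (t : G)⁻¹ := eq_inv_of_mul_eq_one_right h
      rw [h1, Invol.inv_of_order_two ht, pow_two, Invol.sq_of_order_two ht]
  · show (t : G) * ((t : G) * x) = x
    rw [← mul_assoc, Invol.sq_of_order_two t.2.1, one_mul]
  · rintro ⟨⟨u, v⟩, hu, hv, huv⟩
    apply Subtype.ext
    show ((u, u * x) : G × G) = (u, v)
    simp only at huv hu
    rw [← huv, ← mul_assoc, Invol.sq_of_order_two hu, one_mul]
  · intro t
    rfl

theorem pairs_card_add_one [Finite G] (x : G) (hx : orderOf x = 2) :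
    Nat.card (Pairs x) + 1 = Nat.card {t : G // orderOf t = 2 ∧ Commute t x} := by
  have hx' := Invol.sq_of_order_two hx
  have hP : orderOf x = 2 ∧ Commute x x := ⟨hx, Commute.refl x⟩
  rw [← card_subtype_ne_add_one (fun t : G => orderOf t = 2 ∧ Commute t x) x hP]
  congr 1
  apply Nat.card_congr
  refine ⟨fun p => ⟨p.1.1, ⟨p.2.1, ?_⟩, ?_⟩, fun t => ⟨(t.1, t.1 * x), t.2.1.1, ?_, ?_⟩, ?_, ?_⟩
  · obtain ⟨⟨u, v⟩, hu, hv, huv⟩ := p
    simp only at hu hv huv ⊢
    have hu' := Invol.sq_of_order_two hu
    have hv' := Invol.sq_of_order_two hv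
    show u * x = x * u
    have h1 : u * x = v := by rw [← huv, ← mul_assoc, hu', one_mul]
    have h2 : x * u = v := by
      have h3 : u * v * (u * v) = 1 := by rw [huv]; exact hx'
      have h4 : u * v * u = v⁻¹ := by
        apply eq_inv_of_mul_eq_one_left
        rw [← h3]; group
      rw [← huv, h4, Invol.inv_of_order_two hv]
    rw [h1, h2]
  · obtain ⟨⟨u, v⟩, hu, hv, huv⟩ := p
    simp only at hu hv huv ⊢
    intro h
    rw [h] at huv
    have : v = 1 := by
      have := huv
      nth_rewrite 2 [← mul_one x] at this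
      exact mul_left_cancel this
    exact Invol.ne_one_of_order_two hv this
  · have ht := t.2.1.1
    have hc : (t : G) * x = x * t := t.2.1.2
    have hne := t.2.2
    apply Invol.order_two_of
    · have : (t : G) * x * ((t : G) * x) = (t : G) * (x * t) * x := by group
      rw [this, ← hc, ← mul_assoc, Invol.sq_of_order_two ht, one_mul, hx']
    · intro h
      apply hne
      have h1 : x = (t : G)⁻¹ := eq_inv_of_mul_eq_one_right h
      exact (h1.trans (Invol.inv_of_order_two ht)).symm
  · show (t : G) * ((t : G) * x) = x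
    rw [← mul_assoc, Invol.sq_of_order_two t.2.1.1, one_mul]
  · rintro ⟨⟨u, v⟩, hu, hv, huv⟩
    apply Subtype.ext
    show ((u, u * x) : G × G) = (u, v)
    simp only at huv hu
    rw [← huv, ← mul_assoc, Invol.sq_of_order_two hu, one_mul]
  · intro t
    rfl

theorem pairs_card_eq_zero [Finite G] (x : G) (h : ¬ IsConj x x⁻¹) : Nat.card (Pairs x) = 0 := by
  have : IsEmpty (Pairs x) := by
    constructor
    rintro ⟨⟨u, v⟩, hu, hv, huv⟩
    apply h
    rw [isConj_iff]
    refine ⟨u, ?_⟩
    simp only at hu hv huv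
    rw [← huv, Invol.inv_of_order_two hu, mul_inv_rev, Invol.inv_of_order_two hu,
      Invol.inv_of_order_two hv, ← mul_assoc, Invol.sq_of_order_two hu, one_mul]
  exact Nat.card_of_isEmpty

theorem pairs_card_add_two_le [Finite G] (x : G) (hx : orderOf x = 2) :
    Nat.card (Pairs x) + 2 ≤ Nat.card (Subgroup.centralizer ({x} : Set G)) := by
  have h1 := pairs_card_add_one x hx
  have h2 : Nat.card (Option {t : G // orderOf t = 2 ∧ Commute t x})
      ≤ Nat.card (Subgroup.centralizer ({x} : Set G)) := by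
    apply Nat.card_le_card_of_injective
      (fun o : Option {t : G // orderOf t = 2 ∧ Commute t x} =>
        (match o with
        | none => (1 : Subgroup.centralizer ({x} : Set G))
        | some t => ⟨t.1, Subgroup.mem_centralizer_singleton_iff.2 t.2.2.eq⟩))
    intro a b hab
    match a, b, hab with
    | none, none, _ => rfl
    | none, some t, hab =>
      exfalso
      have : (1 : G) = t.1 := congrArg Subtype.val hab
      exact Invol.ne_one_of_order_two t.2.1 this.symm
    | some t, none, hab =>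
      exfalso
      have : t.1 = (1 : G) := congrArg Subtype.val hab
      exact Invol.ne_one_of_order_two t.2.1 this
    | some t, some t', hab =>
      have h := congrArg Subtype.val hab
      have h' : t = t' := Subtype.ext h
      rw [h']
  rw [Finite.card_option] at h2
  omega

theorem pairs_card_le [Finite G] (x : G) :
    Nat.card (Pairs x) ≤ Nat.card (Subgroup.centralizer ({x} : Set G)) := by
  by_cases hx : x ^ 2 = 1
  · by_cases h1 : x = 1
    · subst h1
      have e : Subgroup.centralizer ({1} : Set G) = ⊤ := by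
        rw [eq_top_iff]
        intro g _
        rw [Subgroup.mem_centralizer_singleton_iff]
        simp
      rw [e, Subgroup.card_top]
      apply Nat.card_le_card_of_injective (fun p : Pairs (1 : G) => p.1.1)
      rintro ⟨⟨u, v⟩, hu, hv, huv⟩ ⟨⟨u', v'⟩, hu', hv', huv'⟩ h
      simp only at h huv huv'
      subst h
      apply Subtype.ext
      show ((u, v) : G × G) = (u, v')
      rw [← huv'] at huv
      rw [mul_left_cancel huv]
    · have h2 : orderOf x = 2 := Invol.order_two_of (by rw [← pow_two]; exact hx) h1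
      have := pairs_card_add_two_le x h2
      omega
  · rw [pairs_card_of_sq_ne x hx]
    by_cases hreal : IsConj x x⁻¹
    · rw [← card_inverting x hreal]
      apply Nat.card_le_card_of_injective
        (fun t : {t : G // orderOf t = 2 ∧ t * x * t⁻¹ = x⁻¹} =>
          (⟨t.1, t.2.2⟩ : {g : G // g * x * g⁻¹ = x⁻¹}))
      intro a b hab
      have h := congrArg Subtype.val hab
      exact Subtype.ext h
    · have : IsEmpty {t : G // orderOf t = 2 ∧ t * x * t⁻¹ = x⁻¹} := by
        constructor
        rintro ⟨t, -, ht⟩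
        exact hreal (isConj_iff.2 ⟨t, ht⟩)
      rw [Nat.card_of_isEmpty]
      exact Nat.zero_le _

end Cfsg.Agent.Lib.helper2.Count
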