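import Mathlib
import Cfsg.Agent.Lib.helper2.Count

set_option autoImplicit false

namespace Cfsg.Agent.Lib.helper2.BF

open Cfsg.Agent.Lib.helper2
open Cfsg.Agent.Lib.helper2.Count

variable {G : Type*} [Group G]

/-- extended centralizer: elements conjugating `g` to `g` or to its inverse -/
def Cstar (g : G) : Subgroup G where
  carrier := {h | h * g * h⁻¹ = g ∨ h * g * h⁻¹ = g⁻¹}
  mul_mem' := by
    intro a b ha hb
    have e : a * b * g * (a * b)⁻¹ = a * (b * g * b⁻¹) * a⁻¹ := by group
    have e' : a * g⁻¹ * a⁻¹ = (a * g * a⁻¹)⁻¹ := by group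
    show a * b * g * (a * b)⁻¹ = g ∨ a * b * g * (a * b)⁻¹ = g⁻¹
    rw [e]
    rcases hb with hb | hb <;> rcases ha with ha | ha
    · left; rw [hb, ha]
    · right; rw [hb, ha]
    · right; rw [hb, e', ha]
    · left; rw [hb, e', ha, inv_inv]
  one_mem' := by left; simp
  inv_mem' := by
    intro a ha
    show a⁻¹ * g * a⁻¹⁻¹ = g ∨ a⁻¹ * g * a⁻¹⁻¹ = g⁻¹
    rcases ha with ha | ha
    · left
      have : a⁻¹ * (a * g * a⁻¹) * a⁻¹⁻¹ = g := by group
      rw [ha] at this
      exact this
    · right
      have : a⁻¹ * (a * g * a⁻¹)⁻¹ * a⁻¹⁻¹ = g⁻¹ := by group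
      rw [ha, inv_inv] at this
      exact this

theorem mem_Cstar (g h : G) : h ∈ Cstar g ↔ h * g * h⁻¹ = g ∨ h * g * h⁻¹ = g⁻¹ := Iff.rfl

theorem card_centralizing [Finite G] (g : G) :
    Nat.card {h : G // h * g * h⁻¹ = g} = Nat.card (Subgroup.centralizer ({g} : Set G)) := by
  apply Nat.card_congr
  refine Equiv.subtypeEquivRight ?_
  intro h
  rw [Subgroup.mem_centralizer_singleton_iff, mul_inv_eq_iff_eq_mul]

theorem card_Cstar [Finite G] (g : G) (hg : g * g ≠ 1) (hreal : IsConj g g⁻¹) :
    Nat.card (Cstar g) = 2 * Nat.card (Subgroup.centralizer ({g} : Set G)) := by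
  have h1 : Nat.card (Cstar g)
      = ({h : G | h * g * h⁻¹ = g} ∪ {h : G | h * g * h⁻¹ = g⁻¹}).ncard := by
    rw [← Nat.card_coe_set_eq]
    rfl
  have hdisj : Disjoint {h : G | h * g * h⁻¹ = g} {h : G | h * g * h⁻¹ = g⁻¹} := by
    rw [Set.disjoint_left]
    intro h h1 h2
    apply hg
    have h3 : g = g⁻¹ := h1.symm.trans h2
    calc g * g = g * g⁻¹ := by rw [← h3]
      _ = 1 := mul_inv_cancel g
  rw [h1, Set.ncard_union_eq hdisj, ← Nat.card_coe_set_eq, ← Nat.card_coe_set_eq]
  have e1 : Nat.card ({h : G | h * g * h⁻¹ = g} : Set G)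
      = Nat.card (Subgroup.centralizer ({g} : Set G)) := card_centralizing g
  have e2 : Nat.card ({h : G | h * g * h⁻¹ = g⁻¹} : Set G)
      = Nat.card (Subgroup.centralizer ({g} : Set G)) := card_inverting g hreal
  rw [e1, e2]
  ring

theorem centralizer_le_Cstar (g : G) : Subgroup.centralizer ({g} : Set G) ≤ Cstar g := by
  intro h hh
  rw [Subgroup.mem_centralizer_singleton_iff] at hh
  left
  rw [mul_inv_eq_iff_eq_mul]
  exact hh

/-- the ordered pairs of involutions, fibred over their product -/
theorem card_sigma_pairs [Finite G] :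
    Nat.card (Σ g : G, Pairs g) = Nat.card {t : G // orderOf t = 2} ^ 2 := by
  rw [pow_two, ← Nat.card_prod]
  apply Nat.card_congr
  refine ⟨fun p => (⟨p.2.1.1, p.2.2.1⟩, ⟨p.2.1.2, p.2.2.2.1⟩),
    fun q => ⟨q.1.1 * q.2.1, ⟨(q.1.1, q.2.1), q.1.2, q.2.2, rfl⟩⟩, ?_, ?_⟩
  · rintro ⟨g, ⟨⟨u, v⟩, hu, hv, huv⟩⟩
    simp only at huv
    subst huv
    rfl
  · rintro ⟨⟨u, hu⟩, ⟨v, hv⟩⟩
    rfl

theorem sum_pairs [Fintype G] :
    ∑ g : G, Nat.card (Pairs g) = Nat.card {t : G // orderOf t = 2} ^ 2 := by
  rw [← card_sigma_pairs, Nat.card_sigma]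

theorem pairs_one [Finite G] : Nat.card (Pairs (1 : G)) = Nat.card {t : G // orderOf t = 2} := by
  apply Nat.card_congr
  refine ⟨fun p => ⟨p.1.1, p.2.1⟩, fun t => ⟨(t.1, t.1), t.2, t.2, Invol.sq_of_order_two t.2⟩, ?_, ?_⟩
  · rintro ⟨⟨u, v⟩, hu, hv, huv⟩
    apply Subtype.ext
    show ((u, u) : G × G) = (u, v)
    simp only at huv hu
    have : v = u := by
      have h1 : v = u⁻¹ := eq_inv_of_mul_eq_one_right huv
      rw [h1, Invol.inv_of_order_two hu]
    rw [this]
  · intro t
    rfl

theorem sum_invol [Fintype G] [DecidableEq G] :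
    ∑ g : G, (if orderOf g = 2 then 1 else 0) = Nat.card {t : G // orderOf t = 2} := by
  rw [Finset.sum_boole, Nat.card_eq_fintype_card, Fintype.card_subtype]
  simp

/-- involutions exist in a group of even order -/
theorem invol_pos [Finite G] (heven : Even (Nat.card G)) :
    0 < Nat.card {t : G // orderOf t = 2} := by
  obtain ⟨t, ht⟩ := exists_prime_orderOf_dvd_card' 2 (even_iff_two_dvd.1 heven)
  exact Nat.card_pos_iff.2 ⟨⟨⟨t, ht⟩⟩, inferInstance⟩

/-- Brauer–Fowler, involution-count form -/
theorem main [Finite G] (heven : Even (Nat.card G)) (hZ : Odd (Nat.card (Subgroup.center G))) :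
    ∃ H : Subgroup G, H ≠ ⊤ ∧ (H.index = 2 ∨
      2 * H.index * (Nat.card {t : G // orderOf t = 2}) ^ 2
        < Nat.card G * (Nat.card G + Nat.card {t : G // orderOf t = 2})) := by
  classical
  by_contra hcon
  have hno : ∀ H : Subgroup G, H ≠ ⊤ → H.index ≠ 2 ∧
      Nat.card G * (Nat.card G + Nat.card {t : G // orderOf t = 2})
        ≤ 2 * H.index * (Nat.card {t : G // orderOf t = 2}) ^ 2 := by
    intro H hH
    constructor
    · intro h2
      exact hcon ⟨H, hH, Or.inl h2⟩
    · by_contra hlt
      exact hcon ⟨H, hH, Or.inr (not_le.1 hlt)⟩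
  set N := Nat.card G with hN
  set n := Nat.card {t : G // orderOf t = 2} with hn
  have hNpos : 0 < N := Nat.card_pos
  have hnpos : 0 < n := invol_pos heven
  let _ : Fintype G := Fintype.ofFinite G
  -- pointwise bound
  have key : ∀ g : G, Nat.card (Pairs g) * (N + n) + (if orderOf g = 2 then 1 else 0) * (2 * (N + n))
      ≤ n ^ 2 + (if orderOf g = 2 then 1 else 0) * n ^ 2 + (if g = 1 then 1 else 0) * (n * N) := by
    intro g
    by_cases h1 : g = 1
    · subst h1
      rw [pairs_one, ← hn]
      simp
      nlinarith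
    by_cases h2 : orderOf g = 2
    · rw [if_pos h2, if_neg h1]
      have hC : Subgroup.centralizer ({g} : Set G) ≠ ⊤ := by
        intro htop
        have hgz : g ∈ Subgroup.center G := by
          rw [Subgroup.mem_center_iff]
          intro k
          have : k ∈ Subgroup.centralizer ({g} : Set G) := by rw [htop]; trivial
          exact Subgroup.mem_centralizer_singleton_iff.1 this
        have hdvd : orderOf g ∣ Nat.card (Subgroup.center G) :=
          Subgroup.orderOf_dvd_natCard _ hgz
        rw [h2] at hdvd
        exact (Nat.not_even_iff_odd.2 hZ) (even_iff_two_dvd.2 hdvd)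
      have hb := (hno _ hC).2
      have hβ := pairs_card_add_two_le g h2
      have hci := Subgroup.card_mul_index (Subgroup.centralizer ({g} : Set G))
      rw [← hN] at hci
      set c := Nat.card (Subgroup.centralizer ({g} : Set G)) with hc
      set i := (Subgroup.centralizer ({g} : Set G)).index with hi
      set β := Nat.card (Pairs g) with hβd
      have h3 : N * ((β + 2) * (N + n)) ≤ N * (2 * n ^ 2) := by
        calc N * ((β + 2) * (N + n)) = (β + 2) * (N * (N + n)) := by ring
          _ ≤ c * (2 * i * n ^ 2) := Nat.mul_le_mul hβ hb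
          _ = (c * i) * (2 * n ^ 2) := by ring
          _ = N * (2 * n ^ 2) := by rw [hci]
      have h4 := Nat.le_of_mul_le_mul_left h3 hNpos
      nlinarith
    · rw [if_neg h2, if_neg h1]
      simp only [zero_mul, add_zero]
      by_cases hreal : IsConj g g⁻¹
      · have hgg : g * g ≠ 1 := fun h => h2 (Invol.order_two_of h h1)
        have hcs := card_Cstar g hgg hreal
        have hβ := pairs_card_le g
        set c := Nat.card (Subgroup.centralizer ({g} : Set G)) with hc
        set β := Nat.card (Pairs g) with hβd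
        have hS : Cstar g ≠ ⊤ := by
          intro htop
          have hct : Nat.card (Cstar g) = N := by rw [htop, Subgroup.card_top]
          have hci := Subgroup.card_mul_index (Subgroup.centralizer ({g} : Set G))
          rw [← hN, ← hc] at hci
          have hi2 : (Subgroup.centralizer ({g} : Set G)).index = 2 := by
            have hcpos : 0 < c := Nat.card_pos
            have : c * (Subgroup.centralizer ({g} : Set G)).index = c * 2 := by
              rw [hci, ← hct, hcs]; ring
            exact Nat.eq_of_mul_eq_mul_left hcpos this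
          have hne : Subgroup.centralizer ({g} : Set G) ≠ ⊤ := by
            intro h
            rw [h, Subgroup.index_top] at hi2
            omega
          exact (hno _ hne).1 hi2
        have hb := (hno _ hS).2
        have hci := Subgroup.card_mul_index (Cstar g)
        rw [← hN, hcs] at hci
        set i := (Cstar g).index with hi
        have h3 : N * (β * (N + n)) ≤ N * (n ^ 2) := by
          calc N * (β * (N + n)) = β * (N * (N + n)) := by ring
            _ ≤ c * (2 * i * n ^ 2) := Nat.mul_le_mul hβ hb
            _ = (2 * c * i) * (n ^ 2) := by ring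
            _ = N * (n ^ 2) := by rw [hci]
        exact Nat.le_of_mul_le_mul_left h3 hNpos
      · rw [pairs_card_eq_zero g hreal]
        simp
  have hsum := Finset.sum_le_sum (fun g (_ : g ∈ (Finset.univ : Finset G)) => key g)
  rw [Finset.sum_add_distrib, Finset.sum_add_distrib, Finset.sum_add_distrib,
    ← Finset.sum_mul, ← Finset.sum_mul, ← Finset.sum_mul, ← Finset.sum_mul,
    sum_pairs, sum_invol, ← hn, Finset.sum_ite_eq' ] at hsum
  simp only [Finset.sum_const, Finset.card_univ, smul_eq_mul, Finset.mem_univ, if_true] at hsum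
  rw [← Nat.card_eq_fintype_card, ← hN] at hsum
  nlinarith


/-- a simple group embeds in the symmetric group on the cosets of a proper subgroup -/
theorem card_le_factorial_index [Finite G] [IsSimpleGroup G] (H : Subgroup G) (hH : H ≠ ⊤) :
    Nat.card G ≤ (H.index).factorial := by
  have hcore : H.normalCore = ⊥ := by
    rcases (H.normalCore_normal).eq_bot_or_eq_top with h | h
    · exact h
    · exfalso
      apply hH
      rw [eq_top_iff, ← h]
      exact H.normalCore_le
  have hinj : Function.Injective (MulAction.toPermHom G (G ⧸ H)) := by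
    rw [← MonoidHom.ker_eq_bot_iff, ← Subgroup.normalCore_eq_ker]
    exact hcore
  have := Nat.card_le_card_of_injective _ hinj
  rw [Nat.card_perm, ← Subgroup.index_eq_card] at this
  exact this

/-- the class of an involution consists of involutions -/
theorem index_centralizer_le_invol [Finite G] (t : G) (ht : orderOf t = 2) :
    (Subgroup.centralizer ({t} : Set G)).index ≤ Nat.card {s : G // orderOf s = 2} := by
  rw [Subgroup.index_eq_card]
  let f : G ⧸ Subgroup.centralizer ({t} : Set G) → {s : G // orderOf s = 2} :=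
    fun q => Quotient.liftOn' q (fun g => (⟨g * t * g⁻¹, Invol.order_two_conj ht g⟩ : {s : G // orderOf s = 2}))
      (by
        intro a b hab
        rw [QuotientGroup.leftRel_apply, Subgroup.mem_centralizer_singleton_iff] at hab
        apply Subtype.ext
        show a * t * a⁻¹ = b * t * b⁻¹
        have h1 : b * t * b⁻¹ = a * (a⁻¹ * b * t) * b⁻¹ := by group
        rw [h1, hab]
        group)
  apply Nat.card_le_card_of_injective f
  intro q1 q2
  refine Quotient.inductionOn₂' q1 q2 ?_
  intro a b hab
  have h : a * t * a⁻¹ = b * t * b⁻¹ := congrArg Subtype.val hab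
  apply Quotient.sound'
  rw [QuotientGroup.leftRel_apply, Subgroup.mem_centralizer_singleton_iff]
  calc a⁻¹ * b * t = a⁻¹ * (b * t * b⁻¹) * b := by group
    _ = a⁻¹ * (a * t * a⁻¹) * b := by rw [h]
    _ = t * (a⁻¹ * b) := by group

theorem card_le_centralizer_mul_invol [Finite G] (t : G) (ht : orderOf t = 2) :
    Nat.card G ≤ Nat.card (Subgroup.centralizer ({t} : Set G))
      * Nat.card {s : G // orderOf s = 2} := by
  rw [← Subgroup.card_mul_index (Subgroup.centralizer ({t} : Set G))]
  exact Nat.mul_le_mul_left _ (index_centralizer_le_invol t ht)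

/-- Brauer–Fowler order bound -/
theorem order_bound [Finite G] [IsSimpleGroup G] (t : G) (ht : orderOf t = 2) :
    Nat.card G ≤ Nat.factorial (2 * (Nat.card (Subgroup.centralizer ({t} : Set G))) ^ 2) := by
  set c := Nat.card (Subgroup.centralizer ({t} : Set G)) with hc
  have hcpos : 0 < c := Nat.card_pos
  by_cases hC : Subgroup.centralizer ({t} : Set G) = ⊤
  · have hcN : c = Nat.card G := by rw [hc, hC, Subgroup.card_top]
    rw [← hcN]
    have h1 : c ≤ 2 * c ^ 2 := by nlinarith
    exact h1.trans (Nat.self_le_factorial _)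
  · have heven : Even (Nat.card G) := by
      rw [even_iff_two_dvd, ← ht]
      exact orderOf_dvd_natCard t
    have hZ : Odd (Nat.card (Subgroup.center G)) := by
      have hbot : Subgroup.center G = ⊥ := by
        rcases (inferInstance : (Subgroup.center G).Normal).eq_bot_or_eq_top with h | h
        · exact h
        · exfalso
          apply hC
          rw [eq_top_iff]
          intro g _
          rw [Subgroup.mem_centralizer_singleton_iff]
          have ht' : t ∈ Subgroup.center G := by rw [h]; trivial
          exact (Subgroup.mem_center_iff.1 ht' g)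
      rw [hbot, Subgroup.card_bot]
      exact odd_one
    obtain ⟨H, hH, hH2⟩ := main heven hZ
    have h1 := card_le_factorial_index H hH
    have hidx : H.index ≤ 2 * c ^ 2 := by
      rcases hH2 with h2 | h2
      · rw [h2]; nlinarith
      · have h3 := card_le_centralizer_mul_invol t ht
        rw [← hc] at h3
        set N := Nat.card G
        set n := Nat.card {s : G // orderOf s = 2}
        set h := H.index
        have hnpos : 0 < n := invol_pos heven
        have h4 : N * (N + n) ≤ (c * n) * (c * n + n) := Nat.mul_le_mul h3 (by omega)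
        have h5 : (2 * h) * n ^ 2 < (c * (c + 1)) * n ^ 2 := by
          calc (2 * h) * n ^ 2 < N * (N + n) := h2
            _ ≤ (c * n) * (c * n + n) := h4
            _ = (c * (c + 1)) * n ^ 2 := by ring
        have h6 : 2 * h < c * (c + 1) := lt_of_mul_lt_mul_right h5 (Nat.zero_le _)
        nlinarith
    exact h1.trans (Nat.factorial_le hidx)

end Cfsg.Agent.Lib.helper2.BF
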