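import Mathlib
import Cfsg.Agent.Lib.helper2.BF

set_option autoImplicit false

namespace Cfsg.Agent.Lib.helper2.BF

open Cfsg.Agent.Lib.helper2
open Cfsg.Agent.Lib.helper2.Count

variable {G : Type*} [Group G]

/-- two non-conjugate involutions commute with a common involution -/
theorem exists_invol_commute_of_not_conj [Finite G] {x y : G} (hx : orderOf x = 2)
    (hy : orderOf y = 2) (hnc : ¬ IsConj x y) :
    ∃ z : G, orderOf z = 2 ∧ z * x = x * z ∧ z * y = y * z := by
  have hx' := Invol.sq_of_order_two hx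
  have hy' := Invol.sq_of_order_two hy
  rcases Nat.even_or_odd (orderOf (x * y)) with heven | hodd
  · obtain ⟨m, hm⟩ := heven
    have hpos : 0 < orderOf (x * y) := orderOf_pos (x * y)
    have hm0 : 0 < m := by omega
    refine ⟨(x * y) ^ m, ?_, ?_, ?_⟩
    · exact Invol.order_two_of (by rw [← pow_add, ← hm, pow_orderOf_eq_one])
        (Invol.half_ne_one hm hm0)
    · exact (Invol.half_comm_x hm hx' hy').symm
    · exact (Invol.half_comm_y hm hx' hy').symm
  · exfalso
    obtain ⟨d, -, hd⟩ := Invol.conj_of_odd hx' hy' hodd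
    exact hnc (isConj_iff.2 ⟨d, hd⟩)

theorem index_centralizer_le_class [Finite G] (t : G) :
    (Subgroup.centralizer ({t} : Set G)).index ≤ Nat.card {u : G // IsConj t u} := by
  rw [Subgroup.index_eq_card]
  let f : G ⧸ Subgroup.centralizer ({t} : Set G) → {u : G // IsConj t u} :=
    fun q => Quotient.liftOn' q
      (fun g => (⟨g * t * g⁻¹, isConj_iff.2 ⟨g, rfl⟩⟩ : {u : G // IsConj t u}))
      (by
        intro a b hab
        rw [QuotientGroup.leftRel_apply, Subgroup.mem_centralizer_singleton_iff] at hab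
        apply Subtype.ext
        show a * t * a⁻¹ = b * t * b⁻¹
        have h1 : b * t * b⁻¹ = a * (a⁻¹ * b * t) * b⁻¹ := by group
        rw [h1, hab]
        group)
  apply Nat.card_le_card_of_injective f
  intro q1 q2
  refine Quotient.inductionOn₂' q1 q2 ?_
  intro a b hab
  have h : a * t * a⁻¹ = b * t * b⁻¹ := congrArg Subtype.val hab
  apply Quotient.sound'
  rw [QuotientGroup.leftRel_apply, Subgroup.mem_centralizer_singleton_iff]
  calc a⁻¹ * b * t = a⁻¹ * (b * t * b⁻¹) * b := by group
    _ = a⁻¹ * (a * t * a⁻¹) * b := by rw [h]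
    _ = t * (a⁻¹ * b) := by group

/-- involutions of the centralizer of `s`: fewer than the order of the centralizer -/
theorem card_invol_centralizer_lt [Finite G] (s : G) :
    Nat.card {z : G // orderOf z = 2 ∧ z * s = s * z}
      < Nat.card (Subgroup.centralizer ({s} : Set G)) := by
  have h1 := card_subtype_ne_add_one (fun g : G => g ∈ Subgroup.centralizer ({s} : Set G)) 1
    (Subgroup.one_mem _)
  have h2 : Nat.card {z : G // orderOf z = 2 ∧ z * s = s * z}
      ≤ Nat.card {g : G // g ∈ Subgroup.centralizer ({s} : Set G) ∧ g ≠ 1} := by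
    apply Nat.card_le_card_of_injective
      (fun z : {z : G // orderOf z = 2 ∧ z * s = s * z} =>
        (⟨z.1, Subgroup.mem_centralizer_singleton_iff.2 z.2.2, Invol.ne_one_of_order_two z.2.1⟩ :
          {g : G // g ∈ Subgroup.centralizer ({s} : Set G) ∧ g ≠ 1}))
    intro a b hab
    have h := congrArg Subtype.val hab
    exact Subtype.ext h
  have h3 : Nat.card {g : G // g ∈ Subgroup.centralizer ({s} : Set G)}
      = Nat.card (Subgroup.centralizer ({s} : Set G)) := rfl
  omega

theorem card_lt_centralizer_cube [Finite G] (s t : G) (hs : orderOf s = 2) (ht : orderOf t = 2)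
    (hnc : ¬ IsConj s t)
    (hmax : ∀ u : G, orderOf u = 2 → Nat.card (Subgroup.centralizer ({u} : Set G))
      ≤ Nat.card (Subgroup.centralizer ({t} : Set G))) :
    Nat.card G < Nat.card (Subgroup.centralizer ({t} : Set G)) ^ 3 := by
  classical
  set c := Nat.card (Subgroup.centralizer ({t} : Set G)) with hc
  have hcpos : 0 < c := Nat.card_pos
  have hα := card_invol_centralizer_lt s
  have hcs : Nat.card (Subgroup.centralizer ({s} : Set G)) ≤ c := hmax s hs
  have hex : ∀ u : {u : G // IsConj t u},
      ∃ z : {z : G // orderOf z = 2 ∧ z * s = s * z}, z.1 * u.1 = u.1 * z.1 := by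
    rintro ⟨u, hu⟩
    have hu2 : orderOf u = 2 := by
      obtain ⟨g, hg⟩ := isConj_iff.1 hu
      rw [← hg]
      exact Invol.order_two_conj ht g
    have hnc' : ¬ IsConj s u := fun h => hnc (h.trans hu.symm)
    obtain ⟨z, hz, hzs, hzu⟩ := exists_invol_commute_of_not_conj hs hu2 hnc'
    exact ⟨⟨z, hz, hzs⟩, hzu⟩
  choose zf hzf using hex
  let φ : {u : G // IsConj t u} →
      Σ z : {z : G // orderOf z = 2 ∧ z * s = s * z}, Subgroup.centralizer ({z.1} : Set G) :=
    fun u => ⟨zf u, ⟨u.1, Subgroup.mem_centralizer_singleton_iff.2 (hzf u).symm⟩⟩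
  have hφ : Function.Injective φ := by
    intro u v h
    have h' := congrArg (fun p : (Σ z : {z : G // orderOf z = 2 ∧ z * s = s * z},
      Subgroup.centralizer ({z.1} : Set G)) => (p.2 : G)) h
    exact Subtype.ext h'
  have h1 := Nat.card_le_card_of_injective φ hφ
  let _ : Fintype {z : G // orderOf z = 2 ∧ z * s = s * z} := Fintype.ofFinite _
  rw [Nat.card_sigma] at h1
  have h2 : ∑ z : {z : G // orderOf z = 2 ∧ z * s = s * z},
      Nat.card (Subgroup.centralizer ({z.1} : Set G))
      ≤ ∑ _z : {z : G // orderOf z = 2 ∧ z * s = s * z}, c :=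
    Finset.sum_le_sum (fun z _ => hmax z.1 z.2.1)
  rw [Finset.sum_const, Finset.card_univ, smul_eq_mul, ← Nat.card_eq_fintype_card] at h2
  have h3 := index_centralizer_le_class t
  have h4 := Subgroup.card_mul_index (Subgroup.centralizer ({t} : Set G))
  rw [← hc] at h4
  set a := Nat.card {z : G // orderOf z = 2 ∧ z * s = s * z} with ha
  set i := (Subgroup.centralizer ({t} : Set G)).index with hi
  have h5 : i ≤ a * c := h3.trans (h1.trans h2)
  have h6 : a + 1 ≤ c := by omega
  rw [← h4]
  have h7 : c * i ≤ c * (a * c) := Nat.mul_le_mul_left _ h5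
  have h8 : (a + 1) * (c * c) ≤ c * (c * c) := Nat.mul_le_mul_right _ h6
  have h9 : 0 < c * c := Nat.mul_pos hcpos hcpos
  nlinarith

end Cfsg.Agent.Lib.helper2.BF
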