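import Mathlib
import Cfsg.Agent.Lib.helper2.BF2
import Cfsg.Agent.Lib.helper2.Idx2

set_option autoImplicit false

namespace Cfsg.Agent.Lib.helper2.BF

open Cfsg.Agent.Lib.helper2
open Cfsg.Agent.Lib.helper2.Count

universe u

theorem centralizer_ne_top_of_odd_center {G : Type*} [Group G] [Finite G]
    (hZ : Odd (Nat.card (Subgroup.center G))) (g : G) (h2 : orderOf g = 2) :
    Subgroup.centralizer ({g} : Set G) ≠ ⊤ := by
  intro htop
  have hgz : g ∈ Subgroup.center G := by
    rw [Subgroup.mem_center_iff]
    intro k
    have : k ∈ Subgroup.centralizer ({g} : Set G) := by rw [htop]; trivial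
    exact Subgroup.mem_centralizer_singleton_iff.1 this
  have hdvd : orderOf g ∣ Nat.card (Subgroup.center G) :=
    Subgroup.orderOf_dvd_natCard _ hgz
  rw [h2] at hdvd
  exact (Nat.not_even_iff_odd.2 hZ) (even_iff_two_dvd.2 hdvd)

theorem of_index_two {G : Type*} [Group G] [Finite G] (H : Subgroup G) (hH : H.index = 2)
    (hgt : 2 < Nat.card G) : H ≠ ⊤ ∧ Nat.card G < Nat.card H ^ 3 := by
  constructor
  · intro h
    rw [h, Subgroup.index_top] at hH
    omega
  · have h1 := Subgroup.card_mul_index H
    rw [hH] at h1
    rw [← h1]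
    set m := Nat.card H
    have hm : 2 ≤ m := by omega
    have h4 : 4 ≤ m * m := Nat.mul_le_mul hm hm
    have : m ^ 3 = m * (m * m) := by ring
    rw [this]
    nlinarith

theorem large_subgroup_aux : ∀ (n : ℕ) (G : Type u) [Group G] [Finite G], Nat.card G = n →
    Even n → 2 < n → ∃ H : Subgroup G, H ≠ ⊤ ∧ Nat.card G < Nat.card H ^ 3 := by
  intro n
  induction n using Nat.strong_induction_on with
  | _ n ih =>
    intro G _ _ hn heven hgt
    have : Fact (Nat.Prime 2) := ⟨Nat.prime_two⟩
    by_cases h2 : ∃ H : Subgroup G, H.index = 2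
    · obtain ⟨H, hH⟩ := h2
      exact ⟨H, of_index_two H hH (hn ▸ hgt)⟩
    have hevenG : Even (Nat.card G) := hn ▸ heven
    by_cases hZ : Odd (Nat.card (Subgroup.center G))
    · obtain ⟨H, hH, hH2⟩ := BF.main hevenG hZ
      rcases hH2 with hH2 | hH2
      · exact absurd ⟨H, hH2⟩ h2
      obtain ⟨u, hu⟩ := exists_prime_orderOf_dvd_card' 2 (even_iff_two_dvd.1 hevenG)
      have hC := centralizer_ne_top_of_odd_center hZ u hu
      by_cases hc : Nat.card G < Nat.card (Subgroup.centralizer ({u} : Set G)) ^ 3
      · exact ⟨_, hC, hc⟩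
      · refine ⟨H, hH, ?_⟩
        have h3 := BF.card_le_centralizer_mul_invol u hu
        have hnpos : 0 < Nat.card {s : G // orderOf s = 2} := invol_pos hevenG
        have hHi := Subgroup.card_mul_index H
        have hipos : 0 < H.index := Nat.pos_of_ne_zero Subgroup.index_ne_zero_of_finite
        have hcpos : 0 < Nat.card (Subgroup.centralizer ({u} : Set G)) := Nat.card_pos
        have hNpos : 0 < Nat.card G := Nat.card_pos
        set N := Nat.card G
        set c := Nat.card (Subgroup.centralizer ({u} : Set G))
        set nn := Nat.card {s : G // orderOf s = 2}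
        set h := H.index
        set m := Nat.card H
        have h4 : N * (N + nn) ≤ (c * nn) * (c * nn + nn) := Nat.mul_le_mul h3 (by omega)
        have h5 : (2 * h) * nn ^ 2 < (c * (c + 1)) * nn ^ 2 := by
          calc (2 * h) * nn ^ 2 < N * (N + nn) := hH2
            _ ≤ (c * nn) * (c * nn + nn) := h4
            _ = (c * (c + 1)) * nn ^ 2 := by ring
        have h6 : 2 * h < c * (c + 1) := lt_of_mul_lt_mul_right h5 (Nat.zero_le _)
        have h7 : h < c * c := by nlinarith
        have h8 : h ^ 3 < (c * c) ^ 3 := Nat.pow_lt_pow_left h7 (by norm_num)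
        have h9 : c ^ 3 ≤ N := not_lt.1 hc
        have h10 : (c * c) ^ 3 ≤ N ^ 2 := by
          calc (c * c) ^ 3 = (c ^ 3) ^ 2 := by ring
            _ ≤ N ^ 2 := Nat.pow_le_pow_left h9 2
        have h11 : N * h ^ 3 < m ^ 3 * h ^ 3 := by
          calc N * h ^ 3 < N * N ^ 2 := Nat.mul_lt_mul_of_pos_left (lt_of_lt_of_le h8 h10) hNpos
            _ = (m * h) ^ 3 := by rw [hHi]; ring
            _ = m ^ 3 * h ^ 3 := by ring
        exact lt_of_mul_lt_mul_right h11 (Nat.zero_le _)
    · have hZe : Even (Nat.card (Subgroup.center G)) := Nat.not_odd_iff_even.1 hZ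
      obtain ⟨z', hz'⟩ := exists_prime_orderOf_dvd_card' 2 (even_iff_two_dvd.1 hZe)
      have hz : orderOf (z' : G) = 2 := by rw [← hz']; exact Subgroup.orderOf_coe z'
      have hzc : (z' : G) ∈ Subgroup.center G := z'.2
      have hZn : (Subgroup.zpowers (z' : G)).Normal := by
        constructor
        intro k hk g
        have hkc : k ∈ Subgroup.center G := (Subgroup.zpowers_le.2 hzc) hk
        have : g * k * g⁻¹ = k := by
          rw [Subgroup.mem_center_iff] at hkc
          rw [hkc g, mul_inv_cancel_right]
        rw [this]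
        exact hk
      have hZcard : Nat.card (Subgroup.zpowers (z' : G)) = 2 := by rw [Nat.card_zpowers, hz]
      have hq : Nat.card (G ⧸ Subgroup.zpowers (z' : G)) * 2 = Nat.card G := by
        have := Subgroup.card_mul_index (Subgroup.zpowers (z' : G))
        rw [hZcard, Subgroup.index_eq_card] at this
        omega
      set Z := Subgroup.zpowers (z' : G)
      set M := Nat.card (G ⧸ Z) with hM
      rcases Nat.even_or_odd M with hMe | hMo
      · by_cases hM2 : 2 < M
        · obtain ⟨Hb, hHb, hlt⟩ := ih M (by omega) (G ⧸ Z) rfl hMe hM2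
          have hi := Subgroup.index_comap_of_surjective Hb (QuotientGroup.mk'_surjective Z)
          refine ⟨Hb.comap (QuotientGroup.mk' Z), ?_, ?_⟩
          · intro htop
            apply hHb
            rw [htop, Subgroup.index_top] at hi
            exact Subgroup.index_eq_one.1 hi.symm
          · have h1 := Subgroup.card_mul_index (Hb.comap (QuotientGroup.mk' Z))
            have h2' := Subgroup.card_mul_index Hb
            rw [hi] at h1
            have hipos : 0 < Hb.index := Nat.pos_of_ne_zero Subgroup.index_ne_zero_of_finite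
            rw [← hM] at hlt h2'
            have h3 : Nat.card (Hb.comap (QuotientGroup.mk' Z)) = 2 * Nat.card Hb := by
              apply Nat.eq_of_mul_eq_mul_right hipos
              rw [h1, ← hq, ← h2']
              ring
            rw [h3, ← hq]
            nlinarith
        · have hM' : M = 2 := by
            obtain ⟨k, hk⟩ := hMe
            have : 0 < M := Nat.card_pos
            omega
          exact absurd (Idx2.exists_index_two_of_card_pow (G := G) (k := 2) (by norm_num)
            (by omega)) h2
      · exfalso
        apply h2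
        obtain ⟨T⟩ : Nonempty (Sylow 2 G) := inferInstance
        have hTcard : Nat.card (T : Subgroup G) = 2 := by
          obtain ⟨k, hk⟩ := T.2.exists_card_eq
          have hdvd : 2 ^ k ∣ Nat.card G := hk ▸ Subgroup.card_subgroup_dvd_card (T : Subgroup G)
          have hd2 : 2 ∣ Nat.card (T : Subgroup G) :=
            T.dvd_card_of_dvd_card (even_iff_two_dvd.1 hevenG)
          rw [hk] at hd2 ⊢
          have hk1 : k = 1 := by
            by_contra hne
            rcases Nat.lt_or_gt_of_ne hne with h0 | h0
            · have : k = 0 := by omega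
              rw [this, pow_zero] at hd2
              omega
            · have h4 : 2 ^ 2 ∣ Nat.card G := (pow_dvd_pow 2 h0).trans hdvd
              rw [← hq] at h4
              obtain ⟨j, hj⟩ := hMo
              omega
          rw [hk1, pow_one]
        have hTcyc : IsCyclic (T : Subgroup G) := isCyclic_of_prime_card hTcard
        exact Idx2.exists_index_two_of_cyclic_sylow hevenG T hTcyc

end Cfsg.Agent.Lib.helper2.BF
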