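import Mathlib
import Cfsg.Agent.Lib.helper2.BF3

set_option autoImplicit false

namespace Cfsg.Agent.Lib.helper2.BF

open Cfsg.Agent.Lib.helper2
open Cfsg.Agent.Lib.helper2.Count

variable {G : Type*} [Group G]

theorem no_index_two [Finite G] [IsSimpleGroup G] (hgt : 2 < Nat.card G) (H : Subgroup G) :
    H.index ≠ 2 := by
  intro h2
  have hn : H.Normal := Subgroup.normal_of_index_eq_two h2
  rcases hn.eq_bot_or_eq_top with h | h
  · rw [h, Subgroup.index_bot] at h2
    omega
  · rw [h, Subgroup.index_top] at h2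
    omega

theorem center_odd [Finite G] [IsSimpleGroup G] (heven : Even (Nat.card G))
    (hgt : 2 < Nat.card G) : Odd (Nat.card (Subgroup.center G)) := by
  have hbot : Subgroup.center G = ⊥ := by
    rcases (inferInstance : (Subgroup.center G).Normal).eq_bot_or_eq_top with h | h
    · exact h
    · exfalso
      obtain ⟨t, ht⟩ := exists_prime_orderOf_dvd_card' 2 (even_iff_two_dvd.1 heven)
      have hn : (Subgroup.zpowers t).Normal := by
        constructor
        intro k hk g
        have hkc : k ∈ Subgroup.center G := by rw [h]; trivial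
        have : g * k * g⁻¹ = k := by
          rw [Subgroup.mem_center_iff] at hkc
          rw [hkc g, mul_inv_cancel_right]
        rw [this]
        exact hk
      have hc : Nat.card (Subgroup.zpowers t) = 2 := by rw [Nat.card_zpowers, ht]
      rcases hn.eq_bot_or_eq_top with h' | h'
      · rw [h', Subgroup.card_bot] at hc
        omega
      · rw [h', Subgroup.card_top] at hc
        omega
  rw [hbot, Subgroup.card_bot]
  exact odd_one

theorem sylow_simple {p : ℕ} [Fact p.Prime] [Finite G] [IsSimpleGroup G] (P : Sylow p G)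
    (h1 : Nat.card (P : Subgroup G) ≠ 1) (h2 : Nat.card (P : Subgroup G) ≠ Nat.card G) :
    Nat.card (Sylow p G) ≠ 1 ∧ Nat.card G ≤ (Nat.card (Sylow p G)).factorial := by
  have hnn : ¬ (P : Subgroup G).Normal := by
    intro hn
    rcases hn.eq_bot_or_eq_top with h | h
    · apply h1
      rw [h, Subgroup.card_bot]
    · apply h2
      rw [h, Subgroup.card_top]
  have hN : Subgroup.normalizer ((P : Subgroup G) : Set G) ≠ ⊤ := by
    intro h
    exact hnn (Subgroup.normalizer_eq_top_iff.1 h)
  constructor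
  · intro h
    rw [Sylow.card_eq_index_normalizer P, Subgroup.index_eq_one] at h
    exact hN h
  · rw [Sylow.card_eq_index_normalizer P]
    exact card_le_factorial_index _ hN

theorem card_orderOf_ge {p : ℕ} [Fact p.Prime] [Finite G]
    (hp : ∀ P : Sylow p G, Nat.card (P : Subgroup G) = p) :
    Nat.card (Sylow p G) * (p - 1) ≤ Nat.card {g : G // orderOf g = p} := by
  classical
  let _ : Fintype (Sylow p G) := Fintype.ofFinite _
  have h1 : ∀ P : Sylow p G, Nat.card {x : G // x ∈ (P : Subgroup G) ∧ x ≠ 1} = p - 1 := by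
    intro P
    have := card_subtype_ne_add_one (fun g : G => g ∈ (P : Subgroup G)) 1 (Subgroup.one_mem _)
    have h3 : Nat.card {g : G // g ∈ (P : Subgroup G)} = p := hp P
    omega
  have h2 : Nat.card (Σ P : Sylow p G, {x : G // x ∈ (P : Subgroup G) ∧ x ≠ 1})
      = Nat.card (Sylow p G) * (p - 1) := by
    rw [Nat.card_sigma, Finset.sum_congr rfl (fun P _ => h1 P), Finset.sum_const,
      Finset.card_univ, smul_eq_mul, Nat.card_eq_fintype_card]
  rw [← h2]
  have hord : ∀ (P : Sylow p G) (x : G), x ∈ (P : Subgroup G) → x ≠ 1 → orderOf x = p := by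
    intro P x hx hx1
    have hd : orderOf x ∣ p := by
      rw [← hp P]
      exact Subgroup.orderOf_dvd_natCard _ hx
    rcases (Nat.dvd_prime (Fact.out)).1 hd with h | h
    · exact absurd (orderOf_eq_one_iff.1 h) hx1
    · exact h
  apply Nat.card_le_card_of_injective
    (fun q : (Σ P : Sylow p G, {x : G // x ∈ (P : Subgroup G) ∧ x ≠ 1}) =>
      (⟨q.2.1, hord q.1 q.2.1 q.2.2.1 q.2.2.2⟩ : {g : G // orderOf g = p}))
  rintro ⟨P, x, hxP, hx1⟩ ⟨Q, y, hyQ, hy1⟩ h
  have hxy : x = y := congrArg Subtype.val h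
  subst hxy
  have hPQ : P = Q := by
    have e1 : Subgroup.zpowers x = P := by
      apply Subgroup.eq_of_le_of_card_ge (Subgroup.zpowers_le.2 hxP)
      rw [Nat.card_zpowers, hord P x hxP hx1, hp P]
    have e2 : Subgroup.zpowers x = Q := by
      apply Subgroup.eq_of_le_of_card_ge (Subgroup.zpowers_le.2 hyQ)
      rw [Nat.card_zpowers, hord Q x hyQ hx1, hp Q]
    exact Sylow.ext (e1.symm.trans e2)
  subst hPQ
  rfl

theorem card_orders_le [Finite G] (a b c : ℕ) (hab : a ≠ b) (hac : a ≠ c) (hbc : b ≠ c)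
    (ha : a ≠ 1) (hb : b ≠ 1) (hc : c ≠ 1) :
    Nat.card {g : G // orderOf g = a} + Nat.card {g : G // orderOf g = b}
      + Nat.card {g : G // orderOf g = c} + 1 ≤ Nat.card G := by
  have e : ∀ k : ℕ, Nat.card {g : G // orderOf g = k} = ({g : G | orderOf g = k}).ncard :=
    fun k => Nat.card_coe_set_eq {g : G | orderOf g = k}
  have hd : ∀ j k : ℕ, j ≠ k → Disjoint {g : G | orderOf g = j} {g : G | orderOf g = k} :=
    fun j k hjk => Set.disjoint_left.2 (fun g hj hk => hjk (hj.symm.trans hk))
  have hd1 : ∀ k : ℕ, k ≠ 1 → Disjoint {g : G | orderOf g = k} ({1} : Set G) := by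
    intro k hk
    rw [Set.disjoint_left]
    intro g hg hg1
    rw [Set.mem_singleton_iff] at hg1
    apply hk
    rw [← hg, hg1, orderOf_one]
  have h1 : ({g : G | orderOf g = a} ∪ {g : G | orderOf g = b} ∪ {g : G | orderOf g = c}
      ∪ ({1} : Set G)).ncard ≤ Nat.card G := by
    rw [← Set.ncard_univ]
    exact Set.ncard_le_ncard (Set.subset_univ _)
  rw [Set.ncard_union_eq, Set.ncard_union_eq, Set.ncard_union_eq (hd a b hab),
    Set.ncard_singleton] at h1
  · rw [e, e, e]
    exact h1
  · exact Set.disjoint_union_left.2 ⟨hd a c hac, hd b c hbc⟩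
  · exact Set.disjoint_union_left.2 ⟨Set.disjoint_union_left.2 ⟨hd1 a ha, hd1 b hb⟩, hd1 c hc⟩

theorem four_dvd [Finite G] (heven : Even (Nat.card G)) (hno : ∀ H : Subgroup G, H.index ≠ 2) :
    4 ∣ Nat.card G := by
  have : Fact (Nat.Prime 2) := ⟨Nat.prime_two⟩
  obtain ⟨T⟩ : Nonempty (Sylow 2 G) := inferInstance
  obtain ⟨k, hk⟩ := T.2.exists_card_eq
  have hdvd : 2 ^ k ∣ Nat.card G := hk ▸ Subgroup.card_subgroup_dvd_card (T : Subgroup G)
  have hd2 : 2 ∣ Nat.card (T : Subgroup G) := T.dvd_card_of_dvd_card (even_iff_two_dvd.1 heven)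
  have hk2 : 2 ≤ k := by
    by_contra hlt
    have hk01 : k = 0 ∨ k = 1 := by omega
    rcases hk01 with h0 | h1
    · rw [hk, h0, pow_zero] at hd2
      omega
    · rw [h1, pow_one] at hk
      have hTcyc : IsCyclic (T : Subgroup G) := isCyclic_of_prime_card hk
      obtain ⟨H, hH⟩ := Idx2.exists_index_two_of_cyclic_sylow heven T hTcyc
      exact hno H hH
  exact (pow_dvd_pow 2 hk2).trans hdvd

theorem card_dvd_sixty [Finite G] [IsSimpleGroup G] (H : Subgroup G) (hH : H ≠ ⊤)
    (hidx : H.index ≤ 5) (hgt : 2 < Nat.card G) : Nat.card G ∣ 60 := by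
  classical
  let _ : Fintype (G ⧸ H) := Fintype.ofFinite _
  have hcore : H.normalCore = ⊥ := by
    rcases (H.normalCore_normal).eq_bot_or_eq_top with h | h
    · exact h
    · exfalso
      apply hH
      rw [eq_top_iff, ← h]
      exact H.normalCore_le
  have hinj : Function.Injective (MulAction.toPermHom G (G ⧸ H)) := by
    rw [← MonoidHom.ker_eq_bot_iff, ← Subgroup.normalCore_eq_ker]
    exact hcore
  set φ := MulAction.toPermHom G (G ⧸ H) with hφ
  have hker : (Equiv.Perm.sign.comp φ).ker = ⊤ := by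
    rcases ((Equiv.Perm.sign.comp φ).normal_ker).eq_bot_or_eq_top with h | h
    · exfalso
      have hinj2 : Function.Injective (Equiv.Perm.sign.comp φ) :=
        (MonoidHom.ker_eq_bot_iff _).1 h
      have := Nat.card_le_card_of_injective _ hinj2
      rw [Nat.card_eq_fintype_card (α := ℤˣ), Fintype.card_units_int] at this
      omega
    · exact h
  have hmem : ∀ g : G, φ g ∈ alternatingGroup (G ⧸ H) := by
    intro g
    rw [Equiv.Perm.mem_alternatingGroup]
    have : g ∈ (Equiv.Perm.sign.comp φ).ker := by rw [hker]; trivial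
    exact this
  have hinj3 : Function.Injective (φ.codRestrict (alternatingGroup (G ⧸ H)) hmem) := by
    intro a b hab
    apply hinj
    exact congrArg Subtype.val hab
  have hdvd := Subgroup.card_dvd_of_injective _ hinj3
  have hnt : Nontrivial (G ⧸ H) := by
    rw [← Fintype.one_lt_card_iff_nontrivial, ← Nat.card_eq_fintype_card, ← Subgroup.index_eq_card]
    have h1 : H.index ≠ 1 := fun h => hH (Subgroup.index_eq_one.1 h)
    have h0 : H.index ≠ 0 := Subgroup.index_ne_zero_of_finite
    omega
  have h2 := two_mul_card_alternatingGroup (α := G ⧸ H)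
  rw [Fintype.card_perm, ← Nat.card_eq_fintype_card, ← Nat.card_eq_fintype_card,
    ← Subgroup.index_eq_card] at h2
  have h1 : H.index ≠ 1 := fun h => hH (Subgroup.index_eq_one.1 h)
  have h0 : H.index ≠ 0 := Subgroup.index_ne_zero_of_finite
  obtain ⟨h, hh⟩ : ∃ h, h = H.index := ⟨_, rfl⟩
  rw [← hh] at h2 h1 h0 hidx
  obtain ⟨A, hA⟩ : ∃ A, A = Nat.card (alternatingGroup (G ⧸ H)) := ⟨_, rfl⟩
  rw [← hA] at h2 hdvd
  have hA60 : A ∣ 60 := by
    interval_cases h
    · omega
    · omega
    · have : A = 1 := by norm_num [Nat.factorial] at h2; omega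
      rw [this]; norm_num
    · have : A = 3 := by norm_num [Nat.factorial] at h2; omega
      rw [this]; norm_num
    · have : A = 12 := by norm_num [Nat.factorial] at h2; omega
      rw [this]; norm_num
    · have : A = 60 := by norm_num [Nat.factorial] at h2; omega
      rw [this]
  exact hdvd.trans hA60

theorem sylow_card_eq {p : ℕ} [Fact p.Prime] [Finite G] (P : Sylow p G) (k : ℕ)
    (hk : (Nat.card G).factorization p = k) : Nat.card (P : Subgroup G) = p ^ k := by
  rw [Sylow.card_eq_multiplicity, hk]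

theorem invol_lt_third [Finite G] [IsSimpleGroup G] (heven : Even (Nat.card G))
    (hgt : 2 < Nat.card G) : 3 * Nat.card {t : G // orderOf t = 2} < Nat.card G := by
  by_contra hcon
  rw [not_lt] at hcon
  have hno2 := no_index_two (G := G) hgt
  have hZ := center_odd heven hgt
  obtain ⟨H, hH, hH2⟩ := main heven hZ
  rcases hH2 with h2 | h2
  · exact hno2 H h2
  have hh : H.index < 6 := by
    have h3 : Nat.card G * (Nat.card G + Nat.card {t : G // orderOf t = 2})
        ≤ (3 * Nat.card {t : G // orderOf t = 2})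
          * (3 * Nat.card {t : G // orderOf t = 2} + Nat.card {t : G // orderOf t = 2}) :=
      Nat.mul_le_mul hcon (by omega)
    have h5 : (2 * H.index) * Nat.card {t : G // orderOf t = 2} ^ 2
        < 12 * Nat.card {t : G // orderOf t = 2} ^ 2 := by
      calc (2 * H.index) * Nat.card {t : G // orderOf t = 2} ^ 2
          < Nat.card G * (Nat.card G + Nat.card {t : G // orderOf t = 2}) := h2
        _ ≤ _ := h3
        _ = 12 * Nat.card {t : G // orderOf t = 2} ^ 2 := by ring
    have := lt_of_mul_lt_mul_right h5 (Nat.zero_le _)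
    omega
  have hd60 : Nat.card G ∣ 60 := card_dvd_sixty H hH (by omega) hgt
  have h4 : 4 ∣ Nat.card G := four_dvd heven hno2
  have hN : Nat.card G = 4 ∨ Nat.card G = 12 ∨ Nat.card G = 20 ∨ Nat.card G = 60 := by
    have hle : Nat.card G ≤ 60 := Nat.le_of_dvd (by norm_num) hd60
    obtain ⟨N, hN⟩ : ∃ N, N = Nat.card G := ⟨_, rfl⟩
    rw [← hN] at hle hd60 h4 ⊢
    interval_cases N <;> omega
  rcases hN with hN | hN | hN | hN
  · obtain ⟨K, hK⟩ := Idx2.exists_index_two_of_card_pow (G := G) (k := 2) (by norm_num)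
      (by rw [hN]; norm_num)
    exact hno2 K hK
  · have : Fact (Nat.Prime 2) := ⟨Nat.prime_two⟩
    obtain ⟨P⟩ : Nonempty (Sylow 2 G) := inferInstance
    have hP : Nat.card (P : Subgroup G) = 2 ^ 2 :=
      sylow_card_eq P 2 (by rw [hN]; decide +kernel)
    obtain ⟨hne1, hfac⟩ := sylow_simple P (by rw [hP]; norm_num) (by rw [hP, hN]; norm_num)
    have hdvd := Sylow.card_dvd_index P
    have hi := Subgroup.card_mul_index (P : Subgroup G)
    rw [hP, hN] at hi
    have hi3 : (P : Subgroup G).index = 3 := by omega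
    rw [hi3] at hdvd
    rw [hN] at hfac
    obtain ⟨np, hnp⟩ : ∃ np, np = Nat.card (Sylow 2 G) := ⟨_, rfl⟩
    rw [← hnp] at hdvd hne1 hfac
    have hle : np ≤ 3 := Nat.le_of_dvd (by norm_num) hdvd
    interval_cases np
    · omega
    · omega
    · omega
    · norm_num [Nat.factorial] at hfac
  · have : Fact (Nat.Prime 5) := ⟨Nat.prime_five⟩
    obtain ⟨P⟩ : Nonempty (Sylow 5 G) := inferInstance
    have hP : Nat.card (P : Subgroup G) = 5 ^ 1 :=
      sylow_card_eq P 1 (by rw [hN]; decide +kernel)
    obtain ⟨hne1, -⟩ := sylow_simple P (by rw [hP]; norm_num) (by rw [hP, hN]; norm_num)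
    have hdvd := Sylow.card_dvd_index P
    have hmod := card_sylow_modEq_one 5 G
    have hi := Subgroup.card_mul_index (P : Subgroup G)
    rw [hP, hN] at hi
    have hi3 : (P : Subgroup G).index = 4 := by omega
    rw [hi3] at hdvd
    obtain ⟨np, hnp⟩ : ∃ np, np = Nat.card (Sylow 5 G) := ⟨_, rfl⟩
    rw [← hnp] at hdvd hne1 hmod
    have hle : np ≤ 4 := Nat.le_of_dvd (by norm_num) hdvd
    unfold Nat.ModEq at hmod
    interval_cases np <;> omega
  · have f5 : Fact (Nat.Prime 5) := ⟨Nat.prime_five⟩
    have f3 : Fact (Nat.Prime 3) := ⟨Nat.prime_three⟩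
    have hP5 : ∀ P : Sylow 5 G, Nat.card (P : Subgroup G) = 5 := by
      intro P
      have := sylow_card_eq P 1 (by rw [hN]; decide +kernel)
      rw [this, pow_one]
    have hP3 : ∀ P : Sylow 3 G, Nat.card (P : Subgroup G) = 3 := by
      intro P
      have := sylow_card_eq P 1 (by rw [hN]; decide +kernel)
      rw [this, pow_one]
    have hn5 : Nat.card (Sylow 5 G) = 6 := by
      obtain ⟨P⟩ : Nonempty (Sylow 5 G) := inferInstance
      obtain ⟨hne1, -⟩ := sylow_simple P (by rw [hP5 P]; norm_num) (by rw [hP5 P, hN]; norm_num)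
      have hdvd := Sylow.card_dvd_index P
      have hmod := card_sylow_modEq_one 5 G
      have hi := Subgroup.card_mul_index (P : Subgroup G)
      rw [hP5 P, hN] at hi
      have hi3 : (P : Subgroup G).index = 12 := by omega
      rw [hi3] at hdvd
      obtain ⟨np, hnp⟩ : ∃ np, np = Nat.card (Sylow 5 G) := ⟨_, rfl⟩
      rw [← hnp] at hdvd hne1 hmod ⊢
      have hle : np ≤ 12 := Nat.le_of_dvd (by norm_num) hdvd
      unfold Nat.ModEq at hmod
      interval_cases np <;> omega
    have hn3 : Nat.card (Sylow 3 G) = 10 := by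
      obtain ⟨P⟩ : Nonempty (Sylow 3 G) := inferInstance
      obtain ⟨hne1, hfac⟩ := sylow_simple P (by rw [hP3 P]; norm_num)
        (by rw [hP3 P, hN]; norm_num)
      have hdvd := Sylow.card_dvd_index P
      have hmod := card_sylow_modEq_one 3 G
      have hi := Subgroup.card_mul_index (P : Subgroup G)
      rw [hP3 P, hN] at hi
      have hi3 : (P : Subgroup G).index = 20 := by omega
      rw [hi3] at hdvd
      rw [hN] at hfac
      obtain ⟨np, hnp⟩ : ∃ np, np = Nat.card (Sylow 3 G) := ⟨_, rfl⟩
      rw [← hnp] at hdvd hne1 hmod hfac ⊢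
      have hle : np ≤ 20 := Nat.le_of_dvd (by norm_num) hdvd
      have hne4 : np ≠ 4 := by
        intro h
        rw [h] at hfac
        norm_num [Nat.factorial] at hfac
      unfold Nat.ModEq at hmod
      interval_cases np <;> omega
    have c5 := card_orderOf_ge hP5
    have c3 := card_orderOf_ge hP3
    rw [hn5] at c5
    rw [hn3] at c3
    have hc := card_orders_le (G := G) 2 3 5 (by norm_num) (by norm_num) (by norm_num)
      (by norm_num) (by norm_num) (by norm_num)
    rw [hN] at hc hcon
    omega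

end Cfsg.Agent.Lib.helper2.BF
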