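import Mathlib
import Cfsg.Agent.Lib.helper2.BF4

set_option autoImplicit false

namespace Cfsg.Agent.Lib.helper2.A5

open Cfsg.Agent.Lib.helper2
open Cfsg.Agent.Lib.helper2.Count
open Cfsg.Agent.Lib.helper2.BF

variable {G : Type*} [Group G]

theorem iso_alt_of_injective {α : Type*} [Finite α] [Finite G] (n : ℕ) (hα : Nat.card α = n)
    (f : G →* Equiv.Perm α) (hf : Function.Injective f)
    (hcard : 2 * Nat.card G = n.factorial) :
    Nonempty (G ≃* alternatingGroup (Fin n)) := by
  classical
  let _ : Fintype α := Fintype.ofFinite _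
  have hrange : f.range.index = 2 := by
    have h1 := Subgroup.card_mul_index f.range
    have h2 : Nat.card f.range = Nat.card G :=
      (Nat.card_congr (MonoidHom.ofInjective hf).toEquiv).symm
    rw [h2, Nat.card_perm, hα, ← hcard] at h1
    have hpos : 0 < Nat.card G := Nat.card_pos
    exact Nat.eq_of_mul_eq_mul_left hpos (by rw [h1, mul_comm])
  have hA := Equiv.Perm.eq_alternatingGroup_of_index_eq_two hrange
  have e1 : G ≃* f.range := MonoidHom.ofInjective hf
  have e2 : f.range ≃* alternatingGroup α := MulEquiv.subgroupCongr hA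
  have e3 : alternatingGroup α ≃* alternatingGroup (Fin n) :=
    Equiv.altCongrHom (Finite.equivFinOfCardEq hα)
  exact ⟨(e1.trans e2).trans e3⟩

theorem iso_alt_of_index [Finite G] [IsSimpleGroup G] (H : Subgroup G) (n : ℕ)
    (hn : H.index = n) (hH : H ≠ ⊤) (hcard : 2 * Nat.card G = n.factorial) :
    Nonempty (G ≃* alternatingGroup (Fin n)) := by
  have hcore : H.normalCore = ⊥ := by
    rcases (H.normalCore_normal).eq_bot_or_eq_top with h | h
    · exact h
    · exfalso
      apply hH
      rw [eq_top_iff, ← h]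
      exact H.normalCore_le
  have hinj : Function.Injective (MulAction.toPermHom G (G ⧸ H)) := by
    rw [← MonoidHom.ker_eq_bot_iff, ← Subgroup.normalCore_eq_ker]
    exact hcore
  exact iso_alt_of_injective n (by rw [← hn]; rfl) _ hinj hcard

theorem card_two_five_le [Finite G] :
    Nat.card {g : G // g ≠ 1 ∧ orderOf g ∣ 4} + Nat.card {g : G // orderOf g = 5} + 1
      ≤ Nat.card G := by
  have e1 : Nat.card {g : G // g ≠ 1 ∧ orderOf g ∣ 4} = ({g : G | g ≠ 1 ∧ orderOf g ∣ 4}).ncard :=
    Nat.card_coe_set_eq {g : G | g ≠ 1 ∧ orderOf g ∣ 4}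
  have e2 : Nat.card {g : G // orderOf g = 5} = ({g : G | orderOf g = 5}).ncard :=
    Nat.card_coe_set_eq {g : G | orderOf g = 5}
  have hd12 : Disjoint {g : G | g ≠ 1 ∧ orderOf g ∣ 4} {g : G | orderOf g = 5} := by
    rw [Set.disjoint_left]
    rintro g ⟨_, h4⟩ h5
    rw [Set.mem_ofPred_eq] at h5
    rw [h5] at h4
    omega
  have hd3 : Disjoint ({g : G | g ≠ 1 ∧ orderOf g ∣ 4} ∪ {g : G | orderOf g = 5})
      ({1} : Set G) := by
    rw [Set.disjoint_left]
    rintro g (⟨h1, _⟩ | h5) hg1
    · exact h1 hg1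
    · rw [Set.mem_singleton_iff] at hg1
      rw [Set.mem_ofPred_eq, hg1, orderOf_one] at h5
      omega
  have h1 : ({g : G | g ≠ 1 ∧ orderOf g ∣ 4} ∪ {g : G | orderOf g = 5}
      ∪ ({1} : Set G)).ncard ≤ Nat.card G := by
    rw [← Set.ncard_univ]
    exact Set.ncard_le_ncard (Set.subset_univ _)
  rw [Set.ncard_union_eq hd3, Set.ncard_union_eq hd12, Set.ncard_singleton] at h1
  rw [e1, e2]
  exact h1

theorem exists_index_five [Finite G] [IsSimpleGroup G] (h60 : Nat.card G = 60) :
    ∃ H : Subgroup G, H.index = 5 := by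
  classical
  have : Fact (Nat.Prime 2) := ⟨Nat.prime_two⟩
  have : Fact (Nat.Prime 5) := ⟨by norm_num⟩
  obtain ⟨P⟩ : Nonempty (Sylow 2 G) := inferInstance
  have hP4 : ∀ P : Sylow 2 G, Nat.card (P : Subgroup G) = 4 := by
    intro P
    have := sylow_card_eq P 2 (by rw [h60]; decide +kernel)
    simpa using this
  have h2 := sylow_simple P (by rw [hP4]; omega) (by rw [hP4, h60]; omega)
  have hdvd : Nat.card (Sylow 2 G) ∣ 15 := by
    have h := Sylow.card_dvd_index P
    have h3 := Subgroup.card_mul_index (P : Subgroup G)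
    rw [hP4, h60] at h3
    have : (P : Subgroup G).index = 15 := by omega
    rwa [this] at h
  have hn2 : Nat.card (Sylow 2 G) = 5 ∨ Nat.card (Sylow 2 G) = 15 := by
    obtain ⟨h2a, h2b⟩ := h2
    rw [h60] at h2b
    have hle : Nat.card (Sylow 2 G) ≤ 15 := Nat.le_of_dvd (by norm_num) hdvd
    generalize Nat.card (Sylow 2 G) = n at *
    interval_cases n <;> first | omega | (exfalso; revert h2b; decide) | (exfalso; revert hdvd; decide)
  rcases hn2 with h5 | h15
  · exact ⟨_, (Sylow.card_eq_index_normalizer P).symm.trans h5⟩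
  by_cases hTI : ∀ P Q : Sylow 2 G, P ≠ Q → ∀ x : G, x ∈ (P : Subgroup G) →
      x ∈ (Q : Subgroup G) → x = 1
  · exfalso
    obtain ⟨R⟩ : Nonempty (Sylow 5 G) := inferInstance
    have hR5 : ∀ R : Sylow 5 G, Nat.card (R : Subgroup G) = 5 := by
      intro R
      have := sylow_card_eq R 1 (by rw [h60]; decide +kernel)
      simpa using this
    have h5 := sylow_simple R (by rw [hR5]; omega) (by rw [hR5, h60]; omega)
    have hn5 : 5 ≤ Nat.card (Sylow 5 G) := by
      obtain ⟨h5a, h5b⟩ := h5
      rw [h60] at h5b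
      by_contra hlt
      rw [not_le] at hlt
      generalize Nat.card (Sylow 5 G) = n at *
      interval_cases n <;> first | omega | (revert h5b; decide)
    have hc5 := card_orderOf_ge (G := G) (p := 5) hR5
    have hc5' : 20 ≤ Nat.card {g : G // orderOf g = 5} := by
      have : 5 * (5 - 1) ≤ Nat.card (Sylow 5 G) * (5 - 1) := Nat.mul_le_mul_right _ hn5
      omega
    let _ : Fintype (Sylow 2 G) := Fintype.ofFinite _
    have h1 : ∀ P : Sylow 2 G, Nat.card {x : G // x ∈ (P : Subgroup G) ∧ x ≠ 1} = 3 := by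
      intro P
      have := card_subtype_ne_add_one (fun g : G => g ∈ (P : Subgroup G)) 1 (Subgroup.one_mem _)
      have h3 : Nat.card {g : G // g ∈ (P : Subgroup G)} = 4 := hP4 P
      omega
    have h2' : Nat.card (Σ P : Sylow 2 G, {x : G // x ∈ (P : Subgroup G) ∧ x ≠ 1}) = 15 * 3 := by
      rw [Nat.card_sigma, Finset.sum_congr rfl (fun P _ => h1 P), Finset.sum_const,
        Finset.card_univ, smul_eq_mul, ← Nat.card_eq_fintype_card, h15]
    have hord : ∀ (P : Sylow 2 G) (x : G), x ∈ (P : Subgroup G) → orderOf x ∣ 4 := by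
      intro P x hx
      rw [← hP4 P]
      exact Subgroup.orderOf_dvd_natCard _ hx
    have hc2 : 15 * 3 ≤ Nat.card {g : G // g ≠ 1 ∧ orderOf g ∣ 4} := by
      rw [← h2']
      apply Nat.card_le_card_of_injective
        (fun q : (Σ P : Sylow 2 G, {x : G // x ∈ (P : Subgroup G) ∧ x ≠ 1}) =>
          (⟨q.2.1, q.2.2.2, hord q.1 q.2.1 q.2.2.1⟩ : {g : G // g ≠ 1 ∧ orderOf g ∣ 4}))
      rintro ⟨P, x, hxP, hx1⟩ ⟨Q, y, hyQ, hy1⟩ h
      have hxy : x = y := congrArg Subtype.val h
      subst hxy
      have hPQ : P = Q := by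
        by_contra hne
        exact hx1 (hTI P Q hne x hxP hyQ)
      subst hPQ
      rfl
    have := card_two_five_le (G := G)
    omega
  · push Not at hTI
    obtain ⟨P, Q, hPQ, x, hxP, hxQ, hx1⟩ := hTI
    have hcomm : ∀ (P : Sylow 2 G) (y : G), y ∈ (P : Subgroup G) → x ∈ (P : Subgroup G) →
        y ∈ Subgroup.centralizer {x} := by
      intro P y hy hx
      rw [Subgroup.mem_centralizer_iff]
      intro z hz
      rw [Set.mem_singleton_iff] at hz
      subst hz
      have hc := IsPGroup.commutative_of_card_eq_prime_sq (p := 2) (G := (P : Subgroup G))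
        (by rw [hP4]; rfl)
      have := hc ⟨z, hx⟩ ⟨y, hy⟩
      exact congrArg Subtype.val this
    have hPC : (P : Subgroup G) ≤ Subgroup.centralizer {x} := fun y hy => hcomm P y hy hxP
    have hQC : (Q : Subgroup G) ≤ Subgroup.centralizer {x} := fun y hy => hcomm Q y hy hxQ
    have h4dvd : 4 ∣ Nat.card (Subgroup.centralizer {x}) := by
      rw [← hP4 P]
      exact Subgroup.card_dvd_of_le hPC
    have hne4 : Nat.card (Subgroup.centralizer {x}) ≠ 4 := by
      intro h4
      have e1 : (P : Subgroup G) = Subgroup.centralizer {x} :=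
        Subgroup.eq_of_le_of_card_ge hPC (by rw [h4, hP4])
      have e2 : (Q : Subgroup G) = Subgroup.centralizer {x} :=
        Subgroup.eq_of_le_of_card_ge hQC (by rw [h4, hP4])
      exact hPQ (Sylow.ext (e1.trans e2.symm))
    have hci := Subgroup.card_mul_index (Subgroup.centralizer {x})
    rw [h60] at hci
    obtain ⟨k, hk⟩ := h4dvd
    have hidx : (Subgroup.centralizer {x}).index = 1 ∨ (Subgroup.centralizer {x}).index = 3
        ∨ (Subgroup.centralizer {x}).index = 5 := by
      rw [hk] at hci hne4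
      generalize (Subgroup.centralizer {x}).index = i at *
      have hki : k * i = 15 := by nlinarith
      have hi : i ∣ 15 := Dvd.intro_left k hki
      have hle : i ≤ 15 := Nat.le_of_dvd (by norm_num) hi
      interval_cases i <;> first | omega | (exfalso; revert hi; decide)
    rcases hidx with h | h | h
    · exfalso
      rw [Subgroup.index_eq_one] at h
      have hxc : x ∈ Subgroup.center G := by
        rw [Subgroup.mem_center_iff]
        intro g
        have hg : g ∈ Subgroup.centralizer {x} := by rw [h]; trivial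
        rw [Subgroup.mem_centralizer_iff] at hg
        exact (hg x rfl).symm
      have hodd := center_odd (G := G) (by rw [h60]; decide) (by rw [h60]; norm_num)
      have hd1 : orderOf x ∣ Nat.card (Subgroup.center G) := Subgroup.orderOf_dvd_natCard _ hxc
      have hd2 : orderOf x ∣ 4 := by
        rw [← hP4 P]
        exact Subgroup.orderOf_dvd_natCard _ hxP
      have hx1' : orderOf x ≠ 1 := fun h => hx1 (orderOf_eq_one_iff.1 h)
      obtain ⟨m, hm⟩ := hodd
      have hle : orderOf x ≤ 4 := Nat.le_of_dvd (by norm_num) hd2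
      have hpos : 0 < orderOf x := orderOf_pos x
      rw [hm] at hd1
      generalize orderOf x = o at *
      interval_cases o
      · omega
      · omega
      · exact absurd hd2 (by decide)
      · obtain ⟨c, hc⟩ := hd1
        omega
    · exfalso
      have hne : Subgroup.centralizer {x} ≠ ⊤ := by
        intro h'
        rw [← Subgroup.index_eq_one] at h'
        omega
      have := card_le_factorial_index _ hne
      rw [h, h60] at this
      revert this
      decide
    · exact ⟨_, h⟩

theorem iso_A5_of_card [Finite G] [IsSimpleGroup G] (h60 : Nat.card G = 60) :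
    Nonempty (G ≃* alternatingGroup (Fin 5)) := by
  obtain ⟨H, hH⟩ := exists_index_five h60
  refine iso_alt_of_index H 5 hH ?_ (by rw [h60]; rfl)
  intro h
  rw [← Subgroup.index_eq_one] at h
  omega

end Cfsg.Agent.Lib.helper2.A5
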