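import Mathlib
import Cfsg.Agent.Lib.helper2.BF4

set_option autoImplicit false

namespace Cfsg.Agent.Lib.helper2.Ord12

open Cfsg.Agent.Lib.helper2

variable {G : Type*} [Group G]

theorem central_invol_of_normal_sylow3 [Finite G] (hG : Nat.card G = 12) (P : Sylow 3 G)
    (hPn : (P : Subgroup G).Normal) : ∃ z : G, orderOf z = 2 ∧ z ∈ Subgroup.center G := by
  have f3 : Fact (Nat.Prime 3) := ⟨Nat.prime_three⟩
  have f2 : Fact (Nat.Prime 2) := ⟨Nat.prime_two⟩
  have hP3 : Nat.card (P : Subgroup G) = 3 := by
    have := BF.sylow_card_eq P 1 (by rw [hG]; decide +kernel)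
    rw [this, pow_one]
  have hcyc : IsCyclic (P : Subgroup G) := isCyclic_of_prime_card hP3
  have key := Subgroup.card_dvd_of_injective _
    (QuotientGroup.kerLift_injective (P : Subgroup G).normalizerMonoidHom)
  rw [Subgroup.normalizerMonoidHom_ker, ← Subgroup.index, ← Subgroup.relIndex] at key
  rw [IsCyclic.card_mulAut, hP3, Nat.totient_prime Nat.prime_three] at key
  have hN : Subgroup.normalizer ((P : Subgroup G) : Set G) = ⊤ :=
    Subgroup.normalizer_eq_top_iff.2 hPn
  rw [hN, Subgroup.relIndex_top_right] at key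
  have hCi := Subgroup.card_mul_index (Subgroup.centralizer ((P : Subgroup G) : Set G))
  rw [hG] at hCi
  have hCeven : 2 ∣ Nat.card (Subgroup.centralizer ((P : Subgroup G) : Set G)) := by
    have hle : (Subgroup.centralizer ((P : Subgroup G) : Set G)).index ≤ 2 :=
      Nat.le_of_dvd (by norm_num) key
    obtain ⟨i, hi⟩ : ∃ i, i = (Subgroup.centralizer ((P : Subgroup G) : Set G)).index := ⟨_, rfl⟩
    rw [← hi] at hCi hle
    interval_cases i <;> omega
  obtain ⟨t', ht'⟩ := exists_prime_orderOf_dvd_card' 2 hCeven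
  have ht : orderOf (t' : G) = 2 := by rw [← ht']; exact Subgroup.orderOf_coe t'
  have htP : ∀ x ∈ (P : Subgroup G), x * (t' : G) = (t' : G) * x :=
    fun x hx => Subgroup.mem_centralizer_iff.1 t'.2 x hx
  have htp : IsPGroup 2 (Subgroup.zpowers (t' : G)) :=
    IsPGroup.of_card (n := 1) (by rw [Nat.card_zpowers, ht, pow_one])
  obtain ⟨T, hT⟩ := htp.exists_le_sylow
  have hT4 : Nat.card (T : Subgroup G) = 2 ^ 2 :=
    BF.sylow_card_eq T 2 (by rw [hG]; decide +kernel)
  have hTcomm := IsPGroup.isMulCommutative_of_card_eq_prime_sq hT4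
  have htT : (t' : G) ∈ (T : Subgroup G) := hT (Subgroup.mem_zpowers _)
  have h1 : (P : Subgroup G) ≤ Subgroup.centralizer ({(t' : G)} : Set G) :=
    fun x hx => Subgroup.mem_centralizer_singleton_iff.2 (htP x hx)
  have h2 : (T : Subgroup G) ≤ Subgroup.centralizer ({(t' : G)} : Set G) := by
    intro x hx
    rw [Subgroup.mem_centralizer_singleton_iff]
    have := hTcomm.is_comm.comm (⟨x, hx⟩ : (T : Subgroup G)) ⟨(t' : G), htT⟩
    exact congrArg Subtype.val this
  have d1 : 3 ∣ Nat.card (Subgroup.centralizer ({(t' : G)} : Set G)) := by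
    have := Subgroup.card_dvd_of_le h1
    rw [hP3] at this
    exact this
  have d2 : 4 ∣ Nat.card (Subgroup.centralizer ({(t' : G)} : Set G)) := by
    have := Subgroup.card_dvd_of_le h2
    rw [hT4] at this
    exact this
  have d3 := Subgroup.card_subgroup_dvd_card (Subgroup.centralizer ({(t' : G)} : Set G))
  rw [hG] at d3
  have hc12 : Nat.card (Subgroup.centralizer ({(t' : G)} : Set G)) = 12 := by
    have hle := Nat.le_of_dvd (by norm_num) d3
    have hpos : 0 < Nat.card (Subgroup.centralizer ({(t' : G)} : Set G)) := Nat.card_pos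
    omega
  have htop : Subgroup.centralizer ({(t' : G)} : Set G) = ⊤ :=
    Subgroup.eq_top_of_card_eq _ (by rw [hc12, hG])
  refine ⟨t', ht, ?_⟩
  rw [Subgroup.mem_center_iff]
  intro g
  have : g ∈ Subgroup.centralizer ({(t' : G)} : Set G) := by rw [htop]; trivial
  exact Subgroup.mem_centralizer_singleton_iff.1 this

theorem iso_A4 [Finite G] (hG : Nat.card G = 12)
    (hz : ∀ z : G, orderOf z = 2 → z ∉ Subgroup.center G) :
    Nonempty (G ≃* alternatingGroup (Fin 4)) := by
  classical
  have f3 : Fact (Nat.Prime 3) := ⟨Nat.prime_three⟩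
  have hP3 : ∀ P : Sylow 3 G, Nat.card (P : Subgroup G) = 3 := by
    intro P
    have := BF.sylow_card_eq P 1 (by rw [hG]; decide +kernel)
    rw [this, pow_one]
  have hn3 : Nat.card (Sylow 3 G) = 4 := by
    obtain ⟨P⟩ : Nonempty (Sylow 3 G) := inferInstance
    have hdvd := Sylow.card_dvd_index P
    have hmod := card_sylow_modEq_one 3 G
    have hi := Subgroup.card_mul_index (P : Subgroup G)
    rw [hP3 P, hG] at hi
    have hi4 : (P : Subgroup G).index = 4 := by omega
    rw [hi4] at hdvd
    have hne1 : Nat.card (Sylow 3 G) ≠ 1 := by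
      intro h1
      have hs : Subsingleton (Sylow 3 G) := (Nat.card_eq_one_iff_unique.1 h1).1
      obtain ⟨z, hz2, hzc⟩ := central_invol_of_normal_sylow3 hG P (Sylow.normal_of_subsingleton P)
      exact hz z hz2 hzc
    obtain ⟨np, hnp⟩ : ∃ np, np = Nat.card (Sylow 3 G) := ⟨_, rfl⟩
    rw [← hnp] at hdvd hne1 hmod ⊢
    have hle : np ≤ 4 := Nat.le_of_dvd (by norm_num) hdvd
    unfold Nat.ModEq at hmod
    interval_cases np <;> omega
  let _ : Fintype (Sylow 3 G) := Fintype.ofFinite _
  have hinj : Function.Injective (MulAction.toPermHom G (Sylow 3 G)) := by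
    rw [← MonoidHom.ker_eq_bot_iff, eq_bot_iff]
    intro g hg
    rw [Subgroup.mem_bot]
    have hfix : ∀ P : Sylow 3 G, g • P = P := by
      intro P
      have h1 : MulAction.toPermHom G (Sylow 3 G) g = 1 := hg
      have h2 := congrArg (fun σ : Equiv.Perm (Sylow 3 G) => σ P) h1
      exact h2
    have hmem : ∀ P : Sylow 3 G, g ∈ (P : Subgroup G) := by
      intro P
      have h1 : g ∈ Subgroup.normalizer ((P : Subgroup G) : Set G) :=
        Sylow.smul_eq_iff_mem_normalizer.1 (hfix P)
      have h2 : (P : Subgroup G) = Subgroup.normalizer ((P : Subgroup G) : Set G) := by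
        apply Subgroup.eq_of_le_of_card_ge Subgroup.le_normalizer
        have := Subgroup.card_mul_index (Subgroup.normalizer ((P : Subgroup G) : Set G))
        have hidx : (Subgroup.normalizer ((P : Subgroup G) : Set G)).index = 4 := by
          rw [← hn3]
          exact (Sylow.card_eq_index_normalizer P).symm
        rw [hidx, hG] at this
        rw [hP3 P]
        omega
      rw [h2]
      exact h1
    by_contra hg1
    have hall : ∀ P : Sylow 3 G, (P : Subgroup G) = Subgroup.zpowers g := by
      intro P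
      symm
      apply Subgroup.eq_of_le_of_card_ge (Subgroup.zpowers_le.2 (hmem P))
      rw [Nat.card_zpowers, hP3 P]
      have hd : orderOf g ∣ 3 := by
        rw [← hP3 P]
        exact Subgroup.orderOf_dvd_natCard _ (hmem P)
      rcases (Nat.dvd_prime Nat.prime_three).1 hd with h | h
      · exact absurd (orderOf_eq_one_iff.1 h) hg1
      · rw [h]
    have hsub : Subsingleton (Sylow 3 G) :=
      ⟨fun P Q => Sylow.ext ((hall P).trans (hall Q).symm)⟩
    have : Nat.card (Sylow 3 G) ≤ 1 := Finite.card_le_one_iff_subsingleton.2 hsub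
    omega
  have hrange : (MulAction.toPermHom G (Sylow 3 G)).range.index = 2 := by
    have h1 := Subgroup.card_mul_index (MulAction.toPermHom G (Sylow 3 G)).range
    have h2 : Nat.card (MulAction.toPermHom G (Sylow 3 G)).range = 12 := by
      rw [← hG]
      exact (Nat.card_congr (MonoidHom.ofInjective hinj).toEquiv).symm
    rw [h2, Nat.card_perm, hn3] at h1
    norm_num [Nat.factorial] at h1
    omega
  have hA := Equiv.Perm.eq_alternatingGroup_of_index_eq_two hrange
  have e1 : G ≃* (MulAction.toPermHom G (Sylow 3 G)).range := MonoidHom.ofInjective hinj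
  have e2 : (MulAction.toPermHom G (Sylow 3 G)).range ≃* alternatingGroup (Sylow 3 G) :=
    MulEquiv.subgroupCongr hA
  have e3 : alternatingGroup (Sylow 3 G) ≃* alternatingGroup (Fin 4) :=
    Equiv.altCongrHom (Finite.equivFinOfCardEq hn3)
  exact ⟨(e1.trans e2).trans e3⟩

end Cfsg.Agent.Lib.helper2.Ord12
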