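import Mathlib
import Cfsg.Agent.Lib.helper2.SLCard

set_option autoImplicit false

namespace Cfsg.Agent.Lib.helper2.PSL2Small

open Matrix
open scoped LinearAlgebra.Projectivization

variable {F : Type*} [Field F] [Fintype F]

theorem card_proj : Nat.card (ℙ F (Fin 2 → F)) = Fintype.card F + 1 := by
  rw [Projectivization.card_of_finrank_two F (Fin 2 → F) (by simp), Nat.card_eq_fintype_card]

theorem card_PSL2 : Nat.gcd 2 (Fintype.card F - 1) * ((Fintype.card F - 1)
      * Nat.card (ProjectiveSpecialLinearGroup (Fin 2) F))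
      = (Fintype.card F ^ 2 - 1) * (Fintype.card F ^ 2 - Fintype.card F) := by
  have h := SLCard.card_PSL F 2 (by norm_num)
  rw [Fin.prod_univ_two] at h
  simpa using h

theorem SL2_two_iso (hF : Fintype.card F = 2) :
    Nonempty (SpecialLinearGroup (Fin 2) F ≃* Equiv.Perm (Fin 3)) := by
  classical
  have hcard := card_PSL2 (F := F)
  rw [hF] at hcard
  have h6 : Nat.card (ProjectiveSpecialLinearGroup (Fin 2) F) = 6 := by
    have e1 : Nat.gcd 2 (2 - 1) = 1 := by decide
    have e2 : (2 ^ 2 - 1) * (2 ^ 2 - 2) = 6 := by norm_num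
    rw [e1, e2] at hcard
    omega
  have h3 : Nat.card (ℙ F (Fin 2 → F)) = 3 := by rw [card_proj, hF]
  have hfin : Finite (ℙ F (Fin 2 → F)) := Nat.finite_of_card_ne_zero (by omega)
  have hinj := Matrix.ProjectiveSpecialLinearGroup.toPermHom_injective (K := F) (ι := Fin 2)
  have hbij : Function.Bijective (Projectivization.PSLAction.toPermHom (K := F) (ι := Fin 2)) := by
    have hfinP : Finite (ProjectiveSpecialLinearGroup (Fin 2) F) :=
      Nat.finite_of_card_ne_zero (by omega)
    rw [Nat.bijective_iff_injective_and_card]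
    refine ⟨hinj, ?_⟩
    rw [h6, Nat.card_perm, h3]
    rfl
  have e1 : ProjectiveSpecialLinearGroup (Fin 2) F ≃* Equiv.Perm (ℙ F (Fin 2 → F)) :=
    MulEquiv.ofBijective _ hbij
  have e2 : Equiv.Perm (ℙ F (Fin 2 → F)) ≃* Equiv.Perm (Fin 3) :=
    Equiv.permCongrHom (Finite.equivFinOfCardEq h3)
  have hc := SLCard.card_center_SL F 2 (by norm_num)
  rw [hF] at hc
  have hbot : Subgroup.center (SpecialLinearGroup (Fin 2) F) = ⊥ :=
    Subgroup.eq_bot_of_card_eq _ (by rw [hc]; rfl)
  have e0 : ProjectiveSpecialLinearGroup (Fin 2) F ≃* SpecialLinearGroup (Fin 2) F :=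
    (QuotientGroup.quotientMulEquivOfEq hbot).trans QuotientGroup.quotientBot
  exact ⟨(e0.symm.trans e1).trans e2⟩

theorem PSL2_three_iso (hF : Fintype.card F = 3) :
    Nonempty (ProjectiveSpecialLinearGroup (Fin 2) F ≃* alternatingGroup (Fin 4)) := by
  classical
  have hcard := card_PSL2 (F := F)
  rw [hF] at hcard
  have h12 : Nat.card (ProjectiveSpecialLinearGroup (Fin 2) F) = 12 := by
    have e1 : Nat.gcd 2 (3 - 1) = 2 := by decide
    have e2 : (3 ^ 2 - 1) * (3 ^ 2 - 3) = 48 := by norm_num
    rw [e1, e2] at hcard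
    omega
  have h4 : Nat.card (ℙ F (Fin 2 → F)) = 4 := by rw [card_proj, hF]
  have hfin : Finite (ℙ F (Fin 2 → F)) := Nat.finite_of_card_ne_zero (by omega)
  let _ : Fintype (ℙ F (Fin 2 → F)) := Fintype.ofFinite _
  have hinj := Matrix.ProjectiveSpecialLinearGroup.toPermHom_injective (K := F) (ι := Fin 2)
  have hrange : (Projectivization.PSLAction.toPermHom (K := F) (ι := Fin 2)).range.index = 2 := by
    have h1 := Subgroup.card_mul_index
      (Projectivization.PSLAction.toPermHom (K := F) (ι := Fin 2)).range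
    have h2 : Nat.card (Projectivization.PSLAction.toPermHom (K := F) (ι := Fin 2)).range = 12 := by
      rw [← h12]
      exact (Nat.card_congr (MonoidHom.ofInjective hinj).toEquiv).symm
    rw [h2, Nat.card_perm, h4] at h1
    norm_num [Nat.factorial] at h1
    omega
  have hA := Equiv.Perm.eq_alternatingGroup_of_index_eq_two hrange
  have e1 : ProjectiveSpecialLinearGroup (Fin 2) F
      ≃* (Projectivization.PSLAction.toPermHom (K := F) (ι := Fin 2)).range :=
    MonoidHom.ofInjective hinj
  have e2 : (Projectivization.PSLAction.toPermHom (K := F) (ι := Fin 2)).range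
      ≃* alternatingGroup (ℙ F (Fin 2 → F)) := MulEquiv.subgroupCongr hA
  have e3 : alternatingGroup (ℙ F (Fin 2 → F)) ≃* alternatingGroup (Fin 4) :=
    Equiv.altCongrHom (Finite.equivFinOfCardEq h4)
  exact ⟨(e1.trans e2).trans e3⟩

end Cfsg.Agent.Lib.helper2.PSL2Small
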