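import Cfsg.Agent.Lib.helper2.ZassClass

set_option autoImplicit false

namespace Cfsg.Agent.Lib.helper2.FreeAut

open Cfsg.Agent.Lib.helper2.ZassCount

section fin

variable {H A : Type*} [Group H] [Fintype H] [Group A] [Fintype A] (φ : A →* MulAut H)

omit [Fintype H] [Fintype A] in
theorem inj_of_free (hfree : ∀ a : A, a ≠ 1 → ∀ x : H, x ≠ 1 → φ a x ≠ x) {x : H} (hx1 : x ≠ 1) :
    Function.Injective (fun a : A => φ a x) := by
  intro a b hab
  have hab' : φ a x = φ b x := hab
  have h2 : φ (b⁻¹ * a) x = x := by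
    rw [map_mul, MulAut.mul_apply, hab', ← MulAut.mul_apply, ← map_mul, inv_mul_cancel, map_one,
      MulAut.one_apply]
  by_contra hne
  exact hfree (b⁻¹ * a) (fun h => hne (by rw [inv_mul_eq_one] at h; exact h.symm)) x hx1 h2

open Classical in
/-- A free action by automorphisms: invariant sets of non-identity elements have cardinality
divisible by the order of the acting group. -/
theorem orbit_dvd (hfree : ∀ a : A, a ≠ 1 → ∀ x : H, x ≠ 1 → φ a x ≠ x) :
    ∀ (k : ℕ) (T : Finset H), T.card = k → (∀ a : A, ∀ x ∈ T, φ a x ∈ T) → (1 : H) ∉ T →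
      Fintype.card A ∣ T.card := by
  intro k
  induction k using Nat.strong_induction_on with
  | _ k ih =>
    intro T hTk hinv h1
    rcases T.eq_empty_or_nonempty with hT | ⟨x, hx⟩
    · rw [hT, Finset.card_empty]; exact dvd_zero _
    · have hx1 : x ≠ 1 := fun h => h1 (h ▸ hx)
      have hinj := inj_of_free φ hfree hx1
      obtain ⟨O, hO⟩ : ∃ O : Finset H, O = Finset.univ.image (fun a : A => φ a x) := ⟨_, rfl⟩
      have hOcard : O.card = Fintype.card A := by
        rw [hO, Finset.card_image_of_injective _ hinj, Finset.card_univ]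
      have hOsub : O ⊆ T := by
        intro y hy
        rw [hO, Finset.mem_image] at hy
        obtain ⟨a, -, rfl⟩ := hy
        exact hinv a x hx
      have hinv' : ∀ a : A, ∀ y ∈ T \ O, φ a y ∈ T \ O := by
        intro a y hy
        rw [Finset.mem_sdiff] at hy ⊢
        refine ⟨hinv a y hy.1, fun h => hy.2 ?_⟩
        rw [hO, Finset.mem_image] at h ⊢
        obtain ⟨b, -, hb⟩ := h
        refine ⟨a⁻¹ * b, Finset.mem_univ _, ?_⟩
        show φ (a⁻¹ * b) x = y
        have hb' : φ b x = φ a y := hb
        rw [map_mul, MulAut.mul_apply, hb', ← MulAut.mul_apply, ← map_mul, inv_mul_cancel, map_one,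
          MulAut.one_apply]
      have hcard : (T \ O).card = T.card - O.card := Finset.card_sdiff_of_subset hOsub
      have hpos : 0 < Fintype.card A := Fintype.card_pos
      have hle := Finset.card_le_card hOsub
      have hlt : (T \ O).card < k := by
        rw [hcard, hTk, hOcard]
        rw [hOcard, hTk] at hle
        omega
      have h3 := ih _ hlt (T \ O) rfl hinv' (fun h => h1 (Finset.mem_sdiff.mp h).1)
      rw [hcard, hOcard] at h3
      rw [hOcard] at hle
      obtain ⟨c, hc⟩ := h3
      exact ⟨c + 1, by rw [Nat.mul_succ]; omega⟩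

open Classical in
theorem cent_card_aut (α : MulAut H) (y : H) :
    (Finset.univ.filter (fun c : H => c * α y = α y * c)).card
      = (Finset.univ.filter (fun c : H => c * y = y * c)).card := by
  symm
  apply Finset.card_equiv α.toEquiv
  intro c
  simp only [Finset.mem_filter, Finset.mem_univ, true_and]
  constructor
  · intro h
    show α c * α y = α y * α c
    rw [← map_mul, ← map_mul, h]
  · intro h
    have h' : α c * α y = α y * α c := h
    rw [← map_mul, ← map_mul] at h'
    exact α.injective h'

open Classical in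
/-- A group admitting a free group of automorphisms with at most two orbits on the non-identity
elements is commutative. -/
theorem comm_of_free (hfree : ∀ a : A, a ≠ 1 → ∀ x : H, x ≠ 1 → φ a x ≠ x)
    (hle : Fintype.card H - 1 ≤ 2 * Fintype.card A) : ∀ x y : H, y * x = x * y := by
  intro x
  by_cases hx1 : x = 1
  · intro y; rw [hx1, mul_one, one_mul]
  obtain ⟨e, he⟩ : ∃ e, e = Fintype.card A := ⟨_, rfl⟩
  obtain ⟨m, hm⟩ : ∃ m, m = Fintype.card H := ⟨_, rfl⟩
  rw [← he, ← hm] at hle
  obtain ⟨c0, hc0⟩ : ∃ c0, c0 = (Finset.univ.filter (fun c : H => c * x = x * c)).card := ⟨_, rfl⟩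
  by_cases hcm : c0 = m
  · intro y
    have h1 : Finset.univ.filter (fun c : H => c * x = x * c) = Finset.univ := by
      apply Finset.eq_univ_of_card; rw [← hc0, hcm, hm]
    have hy : y ∈ Finset.univ.filter (fun c : H => c * x = x * c) := by
      rw [h1]; exact Finset.mem_univ _
    exact (Finset.mem_filter.mp hy).2
  exfalso
  obtain ⟨T, hT⟩ : ∃ T : Finset H, T = Finset.univ.filter
      (fun y : H => (Finset.univ.filter (fun c : H => c * y = y * c)).card = c0) := ⟨_, rfl⟩
  have hxT : x ∈ T := by rw [hT, Finset.mem_filter]; exact ⟨Finset.mem_univ _, hc0.symm⟩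
  have h1T : (1:H) ∉ T := by
    rw [hT, Finset.mem_filter]
    rintro ⟨-, h⟩
    apply hcm
    rw [← h, hm, ← Finset.card_univ]
    congr 1
    ext c; simp
  have hTaut : ∀ α : MulAut H, ∀ y ∈ T, α y ∈ T := by
    intro α y hy
    rw [hT, Finset.mem_filter] at hy ⊢
    exact ⟨Finset.mem_univ _, (cent_card_aut α y).trans hy.2⟩
  have hTdvd : e ∣ T.card := by
    rw [he]
    exact orbit_dvd φ hfree _ T rfl (fun a y hy => hTaut (φ a) y hy) h1T
  have hHdvd : e ∣ m - 1 := by
    have h5 := orbit_dvd φ hfree _ (Finset.univ.erase (1:H)) rfl (fun a y hy => by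
      rw [Finset.mem_erase] at hy ⊢
      refine ⟨fun h => hy.1 ?_, Finset.mem_univ _⟩
      exact (φ a).injective (h.trans (map_one _).symm)) (Finset.notMem_erase _ _)
    rwa [Finset.card_erase_of_mem (Finset.mem_univ _), Finset.card_univ, ← he, ← hm] at h5
  have hTle : T.card ≤ m - 1 := by
    have h5 : T ⊆ Finset.univ.erase (1:H) := by
      intro y hy
      rw [Finset.mem_erase]
      exact ⟨fun h => h1T (h ▸ hy), Finset.mem_univ _⟩
    have h6 := Finset.card_le_card h5
    rwa [Finset.card_erase_of_mem (Finset.mem_univ _), Finset.card_univ, ← hm] at h6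
  have hTpos : 0 < T.card := Finset.card_pos.mpr ⟨x, hxT⟩
  have hpart : ∃ N, T.card * c0 = N * m := by
    have h1 := Finset.card_eq_sum_card_fiberwise (s := T)
      (t := T.image (ConjClasses.mk : H → ConjClasses H)) (f := ConjClasses.mk)
      (fun y hy => Finset.mem_image_of_mem _ hy)
    have h2 : ∀ C ∈ T.image (ConjClasses.mk : H → ConjClasses H),
        (T.filter (fun y => ConjClasses.mk y = C)).card * c0 = m := by
      intro C hC
      rw [Finset.mem_image] at hC
      obtain ⟨y₀, hy₀, rfl⟩ := hC
      have h3 : T.filter (fun y => ConjClasses.mk y = ConjClasses.mk y₀)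
          = Finset.univ.filter (fun w' : H => IsConj y₀ w') := by
        ext y
        rw [Finset.mem_filter, Finset.mem_filter, ConjClasses.mk_eq_mk_iff_isConj]
        constructor
        · rintro ⟨-, h⟩; exact ⟨Finset.mem_univ _, h.symm⟩
        · rintro ⟨-, h⟩
          refine ⟨?_, h.symm⟩
          obtain ⟨u, hu⟩ := isConj_iff.mp h
          rw [← hu]
          exact hTaut (MulAut.conj u) y₀ hy₀
      rw [h3]
      have h4 := card_class_mul_card_cent y₀
      have h5 : (Finset.univ.filter (fun c : H => c * y₀ = y₀ * c)).card = c0 := by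
        rw [hT, Finset.mem_filter] at hy₀; exact hy₀.2
      rw [h5, ← hm] at h4
      exact h4
    refine ⟨(T.image (ConjClasses.mk : H → ConjClasses H)).card, ?_⟩
    rw [h1, Finset.sum_mul, Finset.sum_congr rfl h2, Finset.sum_const, smul_eq_mul]
  obtain ⟨N, hN⟩ := hpart
  have hcl := card_class_mul_card_cent x
  rw [← hc0, ← hm] at hcl
  obtain ⟨k, hk⟩ : ∃ k, k = (Finset.univ.filter (fun w' : H => IsConj x w')).card := ⟨_, rfl⟩
  rw [← hk] at hcl
  have hmpos : 0 < m := by rw [hm]; exact Fintype.card_pos
  have hepos : 0 < e := by rw [he]; exact Fintype.card_pos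
  have hc0pos : 0 < c0 := by
    rcases Nat.eq_zero_or_pos c0 with h | h
    · rw [h, Nat.mul_zero] at hcl; omega
    · exact h
  have hk1 : k ≠ 1 := by
    intro h
    rw [h, one_mul] at hcl
    exact hcm hcl
  have hkt : k ∣ T.card := by
    refine ⟨N, ?_⟩
    have h7 : T.card * c0 = (k * N) * c0 := by rw [hN, ← hcl]; ring
    exact Nat.eq_of_mul_eq_mul_right hc0pos h7
  have hkm : k ∣ m := ⟨c0, hcl.symm⟩
  have htm : T.card ∣ m - 1 := by
    obtain ⟨i, hi⟩ := hTdvd
    obtain ⟨j, hj⟩ := hHdvd
    have hij : i ≤ j := by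
      rw [hi, hj] at hTle
      exact Nat.le_of_mul_le_mul_left hTle hepos
    have hj2 : j ≤ 2 := by
      rw [hj] at hle
      exact Nat.le_of_mul_le_mul_left (by rw [Nat.mul_comm e 2]; exact hle) hepos
    have hi1 : 1 ≤ i := by
      rcases Nat.eq_zero_or_pos i with h | h
      · rw [h, Nat.mul_zero] at hi; omega
      · exact h
    rw [hi, hj]
    apply Nat.mul_dvd_mul_left
    have h8 : (i = 1) ∨ (i = 2 ∧ j = 2) := by omega
    rcases h8 with h8 | ⟨h8, h9⟩
    · rw [h8]; exact one_dvd _
    · rw [h8, h9]
  have hk1' : k ∣ 1 := by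
    have h9 : k ∣ m - 1 := hkt.trans htm
    have h10 : m = (m - 1) + 1 := by omega
    rw [h10] at hkm
    exact (Nat.dvd_add_right h9).mp hkm
  exact hk1 (Nat.dvd_one.mp hk1')

end fin

/-- A finite group admitting a free group of automorphisms with at most two orbits on the
non-identity elements is elementary abelian. -/
theorem elem_abelian_of_free {H A : Type*} [Group H] [Finite H] [Group A] [Finite A]
    (φ : A →* MulAut H) (hfree : ∀ a : A, a ≠ 1 → ∀ x : H, x ≠ 1 → φ a x ≠ x)
    (hle : Nat.card H - 1 ≤ 2 * Nat.card A) :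
    (∀ x y : H, x * y = y * x) ∧ ∃ p f : ℕ, p.Prime ∧ (∀ u : H, u ^ p = 1) ∧ Nat.card H = p ^ f := by
  classical
  haveI : Fintype H := Fintype.ofFinite H
  haveI : Fintype A := Fintype.ofFinite A
  rw [Nat.card_eq_fintype_card, Nat.card_eq_fintype_card] at hle
  have hcomm : ∀ x y : H, x * y = y * x := fun x y => comm_of_free φ hfree hle y x
  refine ⟨hcomm, ?_⟩
  by_cases hm1 : Fintype.card H = 1
  · refine ⟨2, 0, Nat.prime_two, ?_, ?_⟩
    · intro u
      have hsub : Subsingleton H := Fintype.card_le_one_iff_subsingleton.mp hm1.le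
      rw [Subsingleton.elim u 1, one_pow]
    · rw [Nat.card_eq_fintype_card, hm1, pow_zero]
  obtain ⟨p, hp⟩ : ∃ p, p = (Fintype.card H).minFac := ⟨_, rfl⟩
  have hpp : p.Prime := by rw [hp]; exact Nat.minFac_prime hm1
  haveI : Fact p.Prime := ⟨hpp⟩
  obtain ⟨x, hx⟩ := exists_prime_orderOf_dvd_card p (by rw [hp]; exact Nat.minFac_dvd _)
  have hx1 : x ≠ 1 := by
    intro h
    rw [h, orderOf_one] at hx
    exact hpp.one_lt.ne hx
  let S : Subgroup H :=
    { carrier := {u | u ^ p = 1}
      mul_mem' := by
        intro u v hu hv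
        show (u * v) ^ p = 1
        have hu' : u ^ p = 1 := hu
        have hv' : v ^ p = 1 := hv
        have hc : Commute u v := hcomm u v
        rw [hc.mul_pow, hu', hv', one_mul]
      one_mem' := one_pow p
      inv_mem' := by
        intro u hu
        show (u⁻¹) ^ p = 1
        have hu' : u ^ p = 1 := hu
        rw [inv_pow, hu', inv_one] }
  have hSmem : ∀ u : H, u ∈ S ↔ u ^ p = 1 := fun u => Iff.rfl
  have hxS : x ∈ S := by rw [hSmem, ← hx, pow_orderOf_eq_one]
  have hStop : S = ⊤ := by
    by_contra hne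
    have hidx : 2 ≤ S.index := by
      have h1 : S.index ≠ 1 := fun h => hne (Subgroup.index_eq_one.mp h)
      have h0 : S.index ≠ 0 := Subgroup.index_ne_zero_of_finite
      omega
    have hcardS : Fintype.card A + 1 ≤ Nat.card S := by
      have hinj := inj_of_free φ hfree hx1
      have h1 : (insert (1:H) (Finset.univ.image (fun a : A => φ a x))).card = Fintype.card A + 1 := by
        rw [Finset.card_insert_of_notMem, Finset.card_image_of_injective _ hinj, Finset.card_univ]
        intro h
        rw [Finset.mem_image] at h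
        obtain ⟨a, -, ha⟩ := h
        have ha' : φ a x = 1 := ha
        exact hx1 ((φ a).injective (ha'.trans (map_one _).symm))
      have h2 : insert (1:H) (Finset.univ.image (fun a : A => φ a x))
          ⊆ Finset.univ.filter (fun u : H => u ∈ S) := by
        intro y hy
        rw [Finset.mem_insert, Finset.mem_image] at hy
        rw [Finset.mem_filter]
        refine ⟨Finset.mem_univ _, ?_⟩
        rcases hy with rfl | ⟨a, -, rfl⟩
        · exact S.one_mem
        · rw [hSmem]
          show (φ a x) ^ p = 1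
          rw [← map_pow, (hSmem x).mp hxS, map_one]
      have h3 := Finset.card_le_card h2
      rw [h1] at h3
      rw [Nat.card_eq_fintype_card, Fintype.card_subtype]
      exact h3
    have hmul := Subgroup.card_mul_index S
    rw [Nat.card_eq_fintype_card (α := H)] at hmul
    have h4 : (Fintype.card A + 1) * 2 ≤ Fintype.card H := by
      rw [← hmul]
      exact Nat.mul_le_mul hcardS hidx
    omega
  have hexp : ∀ u : H, u ^ p = 1 := by
    intro u
    rw [← hSmem, hStop]
    exact Subgroup.mem_top u
  have hpg : IsPGroup p H := fun u => ⟨1, by rw [pow_one]; exact hexp u⟩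
  obtain ⟨f, hf⟩ := IsPGroup.iff_card.mp hpg
  exact ⟨p, f, hpp, hexp, hf⟩

end Cfsg.Agent.Lib.helper2.FreeAut
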