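import Mathlib

set_option autoImplicit false

/-!
Groups with a nilpotent minimal cover: each proper subgroup contains at most one member of the
cover; consequences for abelian Sylow subgroups.
(`pow_central_aux`, `commute_of_coprime_nilp` follow the proofs in `Cfsg.Agent.S4155`;
`qpart` follows the proof in `Cfsg.Agent.S4138`.)
-/

namespace Cfsg.Agent.Lib.helper2.NilCover

open scoped Pointwise

theorem pow_central_aux {M : Type*} [Group M] (a c z : M) (hz : z * a = a * z)
    (h : a * c * a⁻¹ = z * c) : z ^ orderOf a = 1 := by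
  have h2 : ∀ k : ℕ, a ^ k * c * (a ^ k)⁻¹ = z ^ k * c := by
    intro k
    induction k with
    | zero => simp
    | succ k ih =>
      have hzk : z ^ k * a = a * z ^ k := Commute.pow_left (show Commute z a from hz) k
      calc a ^ (k + 1) * c * (a ^ (k + 1))⁻¹ = a * (a ^ k * c * (a ^ k)⁻¹) * a⁻¹ := by
            rw [pow_succ']; group
        _ = a * (z ^ k * c) * a⁻¹ := by rw [ih]
        _ = z ^ k * (a * c * a⁻¹) := by
            rw [← mul_assoc a, ← hzk]; group
        _ = z ^ (k + 1) * c := by rw [h, pow_succ]; group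
  have h3 := h2 (orderOf a)
  rw [pow_orderOf_eq_one] at h3
  simpa using h3.symm

/-- elements of coprime order commute in a nilpotent group -/
theorem commute_of_coprime_nilp (M : Type*) [Group M] [Group.IsNilpotent M] :
    ∀ a c : M, (orderOf a).Coprime (orderOf c) → a * c = c * a := by
  refine Group.nilpotent_center_quotient_ind
    (P := fun M _ _ => ∀ a c : M, (orderOf a).Coprime (orderOf c) → a * c = c * a) M ?_ ?_
  · intro M _ _ a c _
    exact Subsingleton.elim _ _
  · intro M _ _ ih a c hco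
    have h1 := ih (QuotientGroup.mk' (Subgroup.center M) a) (QuotientGroup.mk' (Subgroup.center M) c)
      (Nat.Coprime.coprime_dvd_left (orderOf_map_dvd (QuotientGroup.mk' _) a)
        (Nat.Coprime.coprime_dvd_right (orderOf_map_dvd (QuotientGroup.mk' _) c) hco))
    have hz : a * c * a⁻¹ * c⁻¹ ∈ Subgroup.center M := by
      rw [← QuotientGroup.eq_one_iff]
      change QuotientGroup.mk' (Subgroup.center M) (a * c * a⁻¹ * c⁻¹) = 1
      rw [map_mul, map_mul, map_mul, map_inv, map_inv, h1]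
      group
    obtain ⟨z, hzdef⟩ : ∃ z, z = a * c * a⁻¹ * c⁻¹ := ⟨_, rfl⟩
    rw [← hzdef] at hz
    have hzc : ∀ g : M, z * g = g * z := fun g => (Subgroup.mem_center_iff.mp hz g).symm
    have hzc' : ∀ g : M, z⁻¹ * g = g * z⁻¹ := by
      intro g
      have := hzc g
      calc z⁻¹ * g = z⁻¹ * (g * z) * z⁻¹ := by group
        _ = z⁻¹ * (z * g) * z⁻¹ := by rw [this]
        _ = g * z⁻¹ := by group
    have h3 : z ^ orderOf a = 1 := pow_central_aux a c z (hzc a) (by rw [hzdef]; group)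
    have h5 : z⁻¹ ^ orderOf c = 1 := pow_central_aux c a z⁻¹ (hzc' c) (by rw [hzdef]; group)
    have h5' : z ^ orderOf c = 1 := by
      rw [inv_pow, inv_eq_one] at h5
      exact h5
    have h6 : orderOf z = 1 :=
      Nat.eq_one_of_dvd_coprimes hco (orderOf_dvd_of_pow_eq_one h3) (orderOf_dvd_of_pow_eq_one h5')
    have h7 : z = 1 := orderOf_eq_one_iff.mp h6
    have : a * c = z * c * a := by rw [hzdef]; group
    rw [this, h7, one_mul]

theorem qpart {G : Type*} [Group G] [Finite G] (q : ℕ) (hq : q.Prime) (g : G) :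
    ∃ g₁ g₂ : G, g₁ ∈ Subgroup.zpowers g ∧ g₂ ∈ Subgroup.zpowers g ∧ g = g₁ * g₂ ∧
      (∃ e : ℕ, g₁ ^ (q ^ e) = 1) ∧ (orderOf g₂).Coprime q := by
  have ho : orderOf g ≠ 0 := (orderOf_pos g).ne'
  obtain ⟨e, r, hr, hor⟩ := Nat.exists_eq_pow_mul_and_not_dvd ho q hq.ne_one
  have hqr : Nat.Coprime q r := (Nat.Prime.coprime_iff_not_dvd hq).mpr hr
  have hc : Nat.Coprime (q ^ e) r := Nat.Coprime.pow_left e hqr
  have hb : ((q ^ e : ℕ) : ℤ) * Nat.gcdA (q ^ e) r + (r : ℤ) * Nat.gcdB (q ^ e) r = 1 := by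
    have h := Nat.gcd_eq_gcd_ab (q ^ e) r
    rw [Nat.Coprime.gcd_eq_one hc] at h
    rw [← h]
    simp
  have hpow : ∀ k : ℤ, g ^ (((q ^ e * r : ℕ) : ℤ) * k) = 1 := by
    intro k
    rw [zpow_mul, zpow_natCast, ← hor, pow_orderOf_eq_one, one_zpow]
  refine ⟨g ^ ((r : ℤ) * Nat.gcdB (q ^ e) r), g ^ (((q ^ e : ℕ) : ℤ) * Nat.gcdA (q ^ e) r),
    Subgroup.zpow_mem_zpowers g _, Subgroup.zpow_mem_zpowers g _, ?_, ⟨e, ?_⟩, ?_⟩
  · rw [← zpow_add, add_comm, hb, zpow_one]
  · rw [← zpow_natCast, ← zpow_mul]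
    have e1 : (r : ℤ) * Nat.gcdB (q ^ e) r * ((q ^ e : ℕ) : ℤ) =
        ((q ^ e * r : ℕ) : ℤ) * Nat.gcdB (q ^ e) r := by
      push_cast
      ring
    rw [e1]
    exact hpow _
  · have h1 : (g ^ (((q ^ e : ℕ) : ℤ) * Nat.gcdA (q ^ e) r)) ^ r = 1 := by
      rw [← zpow_natCast, ← zpow_mul]
      have e1 : ((q ^ e : ℕ) : ℤ) * Nat.gcdA (q ^ e) r * (r : ℤ) =
          ((q ^ e * r : ℕ) : ℤ) * Nat.gcdA (q ^ e) r := by
        push_cast
        ring
      rw [e1]
      exact hpow _
    exact Nat.Coprime.coprime_dvd_left (orderOf_dvd_of_pow_eq_one h1) hqr.symm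

section

variable {G : Type*} [Group G] [Finite G]

omit [Finite G] in
theorem mem_conj_smul (g x : G) (H : Subgroup G) :
    x ∈ MulAut.conj g • H ↔ g⁻¹ * x * g ∈ H := by
  rw [Subgroup.mem_pointwise_smul_iff_inv_smul_mem, ← map_inv, MulAut.smul_def,
    MulAut.conj_apply, inv_inv]

/-- A minimal cover by proper subgroups, all of them nilpotent. -/
structure Cov (𝓐 : Finset (Subgroup G)) : Prop where
  proper : ∀ A ∈ 𝓐, A ≠ ⊤
  cover : ∀ g : G, ∃ A ∈ 𝓐, g ∈ A
  minimal : ∀ 𝓑 : Finset (Subgroup G),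
    (∀ A ∈ 𝓑, A ≠ ⊤) ∧ (∀ g : G, ∃ A ∈ 𝓑, g ∈ A) → 𝓐.card ≤ 𝓑.card
  nil : ∀ A ∈ 𝓐, Group.IsNilpotent ↥A

omit [Finite G] in
/-- A proper subgroup contains at most one member of a minimal cover. -/
theorem uniq {𝓐 : Finset (Subgroup G)} (h : Cov 𝓐) {H : Subgroup G} (hH : H ≠ ⊤)
    {A B : Subgroup G} (hA : A ∈ 𝓐) (hB : B ∈ 𝓐) (hAH : A ≤ H) (hBH : B ≤ H) : A = B := by
  classical
  by_contra hne
  have hB' : B ∈ 𝓐.erase A := Finset.mem_erase.mpr ⟨fun e => hne e.symm, hB⟩
  have h1 : ((𝓐.erase A).erase B).card = 𝓐.card - 1 - 1 := by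
    rw [Finset.card_erase_of_mem hB', Finset.card_erase_of_mem hA]
  have h2 : (insert H ((𝓐.erase A).erase B)).card ≤ ((𝓐.erase A).erase B).card + 1 :=
    Finset.card_insert_le _ _
  have h3 : 2 ≤ 𝓐.card := by
    have hs : ({A, B} : Finset (Subgroup G)) ⊆ 𝓐 := by
      intro C hC
      simp only [Finset.mem_insert, Finset.mem_singleton] at hC
      rcases hC with rfl | rfl <;> assumption
    have := Finset.card_le_card hs
    rwa [Finset.card_pair hne] at this
  have h4 := h.minimal (insert H ((𝓐.erase A).erase B)) ⟨?_, ?_⟩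
  · omega
  · intro C hC
    rcases Finset.mem_insert.mp hC with rfl | hC
    · exact hH
    · exact h.proper C (Finset.mem_of_mem_erase (Finset.mem_of_mem_erase hC))
  · intro g
    obtain ⟨C, hC, hgC⟩ := h.cover g
    by_cases h1 : C = A
    · exact ⟨H, Finset.mem_insert_self _ _, hAH (h1 ▸ hgC)⟩
    by_cases h2 : C = B
    · exact ⟨H, Finset.mem_insert_self _ _, hBH (h2 ▸ hgC)⟩
    exact ⟨C, Finset.mem_insert_of_mem
      (Finset.mem_erase.mpr ⟨h2, Finset.mem_erase.mpr ⟨h1, hC⟩⟩), hgC⟩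

variable {p : ℕ} [Fact p.Prime]

/-- If the Sylow `p`-subgroups are abelian, elements of a `p`-subgroup commute. -/
theorem pcomm (P : Sylow p G) (hab : IsMulCommutative ↥(P : Subgroup G))
    {Q : Subgroup G} (hQ : IsPGroup p Q) {x y : G} (hx : x ∈ Q) (hy : y ∈ Q) :
    x * y = y * x := by
  obtain ⟨R, hR⟩ := hQ.exists_le_sylow
  obtain ⟨g, hg⟩ := MulAction.exists_smul_eq G P R
  have hx' : x ∈ (R : Subgroup G) := hR hx
  have hy' : y ∈ (R : Subgroup G) := hR hy
  rw [← hg, Sylow.coe_subgroup_smul, mem_conj_smul] at hx' hy'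
  have hc : (g⁻¹ * x * g) * (g⁻¹ * y * g) = (g⁻¹ * y * g) * (g⁻¹ * x * g) := by
    exact congrArg Subtype.val
      (hab.is_comm.comm (⟨_, hx'⟩ : (P : Subgroup G)) ⟨_, hy'⟩)
  calc x * y = g * ((g⁻¹ * x * g) * (g⁻¹ * y * g)) * g⁻¹ := by group
    _ = g * ((g⁻¹ * y * g) * (g⁻¹ * x * g)) * g⁻¹ := by rw [hc]
    _ = y * x := by group

/-- A `p`-element. -/
def PEl (p : ℕ) (x : G) : Prop := ∃ k : ℕ, x ^ p ^ k = 1

omit [Finite G] in
theorem PEl.isPGroup {x : G} (hx : PEl p x) : IsPGroup p (Subgroup.zpowers x) := by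
  obtain ⟨k, hk⟩ := hx
  obtain ⟨j, -, hj⟩ := (Nat.dvd_prime_pow (Fact.out : p.Prime)).mp (orderOf_dvd_of_pow_eq_one hk)
  apply IsPGroup.of_card (n := j)
  rw [Nat.card_zpowers, hj]

/-- In a nilpotent subgroup, all `p`-elements lie in one `p`-subgroup. -/
theorem exists_pgroup_of_nil (A : Subgroup G) (hA : Group.IsNilpotent ↥A) :
    ∃ Q : Subgroup G, IsPGroup p Q ∧ Q ≤ A ∧ ∀ x ∈ A, PEl p x → x ∈ Q := by
  obtain ⟨S⟩ : Nonempty (Sylow p ↥A) := inferInstance
  refine ⟨(S : Subgroup ↥A).map A.subtype, S.isPGroup'.map _, ?_, ?_⟩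
  · rintro _ ⟨y, -, rfl⟩
    exact y.2
  · intro x hxA hx
    have hx' : IsPGroup p (Subgroup.zpowers (⟨x, hxA⟩ : ↥A)) := by
      obtain ⟨k, hk⟩ := hx
      obtain ⟨j, -, hj⟩ := (Nat.dvd_prime_pow (Fact.out : p.Prime)).mp
        (orderOf_dvd_of_pow_eq_one hk)
      apply IsPGroup.of_card (n := j)
      rw [Nat.card_zpowers, Subgroup.orderOf_mk, hj]
    obtain ⟨R, hR⟩ := hx'.exists_le_sylow
    obtain ⟨a, ha⟩ := MulAction.exists_smul_eq ↥A S R
    have hS : a • S = S := Sylow.smul_eq_of_normal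
    rw [hS] at ha
    rw [← ha] at hR
    exact ⟨⟨x, hxA⟩, hR (Subgroup.mem_zpowers _), rfl⟩

end

section main

variable {G : Type*} [Group G] [Finite G] {p : ℕ} [Fact p.Prime] {𝓐 : Finset (Subgroup G)}

omit [Finite G] [Fact p.Prime] in
theorem PEl.pow {x : G} (hx : PEl p x) (n : ℕ) : PEl p (x ^ n) := by
  obtain ⟨k, hk⟩ := hx
  exact ⟨k, by rw [pow_right_comm, hk, one_pow]⟩

omit [Finite G] [Fact p.Prime] in
theorem pel_of_mem (Q : Sylow p G) {u : G} (hu : u ∈ Q) : PEl p u := by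
  obtain ⟨k, hk⟩ := Q.isPGroup' ⟨u, hu⟩
  exact ⟨k, by simpa using congrArg Subtype.val hk⟩

omit [Finite G] in
theorem PEl.orderOf {x : G} (hx : PEl p x) : ∃ j : ℕ, orderOf x = p ^ j := by
  obtain ⟨k, hk⟩ := hx
  obtain ⟨j, -, hj⟩ := (Nat.dvd_prime_pow (Fact.out : p.Prime)).mp (orderOf_dvd_of_pow_eq_one hk)
  exact ⟨j, hj⟩

/-- A member of the cover containing a `p`-element centralizes it. -/
theorem le_centralizer (h : Cov 𝓐) (P : Sylow p G) (hab : IsMulCommutative ↥(P : Subgroup G))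
    {A : Subgroup G} (hA : A ∈ 𝓐) {x : G} (hxA : x ∈ A) (hx : PEl p x) :
    ∀ a ∈ A, a * x = x * a := by
  intro a haA
  obtain ⟨Q, hQ, -, hQall⟩ := exists_pgroup_of_nil (p := p) A (h.nil A hA)
  obtain ⟨a₁, a₂, h1, h2, hprod, ⟨e, he⟩, hco⟩ := qpart p Fact.out a
  have hz : Subgroup.zpowers a ≤ A := (Subgroup.zpowers_le).mpr haA
  have e1 : a₁ * x = x * a₁ := pcomm P hab hQ (hQall a₁ (hz h1) ⟨e, he⟩) (hQall x hxA hx)
  have e2 : a₂ * x = x * a₂ := by
    have := h.nil A hA
    obtain ⟨j, hj⟩ := hx.orderOf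
    have := commute_of_coprime_nilp ↥A ⟨a₂, hz h2⟩ ⟨x, hxA⟩ (by
      rw [Subgroup.orderOf_mk, Subgroup.orderOf_mk, hj]
      exact Nat.Coprime.pow_right j hco)
    exact congrArg Subtype.val this
  rw [hprod, mul_assoc, e2, ← mul_assoc, e1, mul_assoc]

/-- A nontrivial `p`-element lies in exactly one member of the cover. -/
theorem uniq_mem (h : Cov 𝓐) (hZ : Subgroup.center G = ⊥) (P : Sylow p G)
    (hab : IsMulCommutative ↥(P : Subgroup G)) {A B : Subgroup G} (hA : A ∈ 𝓐) (hB : B ∈ 𝓐)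
    {x : G} (hx : PEl p x) (hx1 : x ≠ 1) (hxA : x ∈ A) (hxB : x ∈ B) : A = B := by
  have hH : Subgroup.centralizer ({x} : Set G) ≠ ⊤ := by
    intro htop
    apply hx1
    have : x ∈ Subgroup.center G := by
      rw [Subgroup.mem_center_iff]
      intro g
      have hg : g ∈ Subgroup.centralizer ({x} : Set G) := by rw [htop]; trivial
      exact (Subgroup.mem_centralizer_iff.mp hg x rfl).symm
    rw [hZ] at this
    exact Subgroup.mem_bot.mp this
  refine uniq h hH hA hB ?_ ?_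
  · intro a ha
    rw [Subgroup.mem_centralizer_iff]
    intro y hy
    rw [Set.mem_singleton_iff.mp hy]
    exact (le_centralizer h P hab hA hxA hx a ha).symm
  · intro a ha
    rw [Subgroup.mem_centralizer_iff]
    intro y hy
    rw [Set.mem_singleton_iff.mp hy]
    exact (le_centralizer h P hab hB hxB hx a ha).symm

/-- Elements of order prime to `p` centralizing a nontrivial `p`-element lie in its member. -/
theorem pprime_mem (h : Cov 𝓐) (hZ : Subgroup.center G = ⊥) (P : Sylow p G)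
    (hab : IsMulCommutative ↥(P : Subgroup G)) {A : Subgroup G} (hA : A ∈ 𝓐)
    {x : G} (hx : PEl p x) (hx1 : x ≠ 1) (hxA : x ∈ A) {g : G} (hg : g * x = x * g)
    (hco : (orderOf g).Coprime p) : g ∈ A := by
  obtain ⟨B, hB, hxg⟩ := h.cover (x * g)
  have hc : Commute x g := hg.symm
  have h1 : (x * g) ^ orderOf g = x ^ orderOf g := by
    rw [hc.mul_pow, pow_orderOf_eq_one, mul_one]
  obtain ⟨j, hj⟩ := hx.orderOf
  have hco' : (orderOf g).Coprime (orderOf x) := by
    rw [hj]; exact Nat.Coprime.pow_right j hco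
  obtain ⟨m, hm⟩ := exists_pow_eq_self_of_coprime hco'
  have hxB : x ∈ B := by
    rw [← hm, ← h1]
    exact B.pow_mem (B.pow_mem hxg _) _
  have hAB := uniq_mem h hZ P hab hA hB hx hx1 hxA hxB
  rw [hAB]
  have : g = x⁻¹ * (x * g) := by group
  rw [this]
  exact B.mul_mem (B.inv_mem hxB) hxg

/-- The Sylow subgroup has an element of order at least `p ^ 2`, or is cyclic. -/
def Good (Q : Subgroup G) (p : ℕ) : Prop :=
  (∃ x ∈ Q, x ^ p ≠ 1) ∨ (∃ x ∈ Q, ∀ y ∈ Q, y ∈ Subgroup.zpowers x)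

omit [Finite G] [Fact p.Prime] in
theorem good_conj {Q : Subgroup G} (hg : Good Q p) (g : G) : Good (MulAut.conj g • Q) p := by
  rcases hg with ⟨x, hx, hxp⟩ | ⟨x, hx, hgen⟩
  · refine Or.inl ⟨g * x * g⁻¹, ?_, ?_⟩
    · rw [mem_conj_smul]
      have : g⁻¹ * (g * x * g⁻¹) * g = x := by group
      rw [this]; exact hx
    · rw [conj_pow]
      intro hh
      apply hxp
      have : x ^ p = g⁻¹ * (g * x ^ p * g⁻¹) * g := by group
      rw [this, hh]; group
  · refine Or.inr ⟨g * x * g⁻¹, ?_, ?_⟩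
    · rw [mem_conj_smul]
      have : g⁻¹ * (g * x * g⁻¹) * g = x := by group
      rw [this]; exact hx
    · intro y hy
      rw [mem_conj_smul] at hy
      obtain ⟨k, hk⟩ := Subgroup.mem_zpowers_iff.mp (hgen _ hy)
      refine Subgroup.mem_zpowers_iff.mpr ⟨k, ?_⟩
      rw [conj_zpow, hk]; group

/-- A good Sylow `p`-subgroup lies in a member of the cover. -/
theorem exists_member (h : Cov 𝓐) (hZ : Subgroup.center G = ⊥) (P : Sylow p G)
    (hab : IsMulCommutative ↥(P : Subgroup G)) (Q : Sylow p G)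
    (hgood : Good (Q : Subgroup G) p) : ∃ A ∈ 𝓐, (Q : Subgroup G) ≤ A := by
  rcases hgood with ⟨x, hx, hxp⟩ | ⟨x, hx, hgen⟩
  · obtain ⟨A, hA, hxA⟩ := h.cover x
    refine ⟨A, hA, ?_⟩
    have hxpA : x ^ p ∈ A := A.pow_mem hxA p
    have hxpel : PEl p (x ^ p) := (pel_of_mem Q hx).pow p
    have key : ∀ k : ℕ, ∀ u ∈ (Q : Subgroup G), u ^ p ^ k = 1 → u ∈ A := by
      intro k
      induction k with
      | zero =>
        intro u _ hu1
        rw [pow_zero, pow_one] at hu1
        rw [hu1]; exact A.one_mem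
      | succ k ih =>
        intro u hu huk
        have hv : (u ^ p) ^ p ^ k = 1 := by
          rw [← pow_mul, ← pow_succ']; exact huk
        have hvQ : u ^ p ∈ (Q : Subgroup G) := (Q : Subgroup G).pow_mem hu p
        have hvA : u ^ p ∈ A := ih _ hvQ hv
        by_cases hv1 : u ^ p = 1
        · obtain ⟨B, hB, huxB⟩ := h.cover (u * x)
          have hc : Commute u x := pcomm P hab Q.isPGroup' hu hx
          have e : (u * x) ^ p = x ^ p := by rw [hc.mul_pow, hv1, one_mul]
          have hxpB : x ^ p ∈ B := by rw [← e]; exact B.pow_mem huxB p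
          have hAB := uniq_mem h hZ P hab hA hB hxpel hxp hxpA hxpB
          rw [hAB]
          have : u = (u * x) * x⁻¹ := by group
          rw [this]
          exact B.mul_mem huxB (B.inv_mem (hAB ▸ hxA))
        · obtain ⟨B, hB, huB⟩ := h.cover u
          have hAB := uniq_mem h hZ P hab hA hB ((pel_of_mem Q hu).pow p) hv1 hvA
            (B.pow_mem huB p)
          rw [hAB]; exact huB
    intro u hu
    obtain ⟨k, hk⟩ := pel_of_mem Q hu
    exact key k u hu hk
  · obtain ⟨A, hA, hxA⟩ := h.cover x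
    exact ⟨A, hA, fun y hy => (Subgroup.zpowers_le.mpr hxA) (hgen y hy)⟩

/-- Two Sylow `p`-subgroups inside one member coincide. -/
theorem sylow_eq_of_le (h : Cov 𝓐) {A : Subgroup G} (hA : A ∈ 𝓐) (Q R : Sylow p G)
    (hQ : (Q : Subgroup G) ≤ A) (hR : (R : Subgroup G) ≤ A) : Q = R := by
  obtain ⟨S, hS, -, hall⟩ := exists_pgroup_of_nil (p := p) A (h.nil A hA)
  have h1 : S = (Q : Subgroup G) :=
    Q.is_maximal' hS (fun u hu => hall u (hQ hu) (pel_of_mem Q hu))
  have h2 : S = (R : Subgroup G) :=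
    R.is_maximal' hS (fun u hu => hall u (hR hu) (pel_of_mem R hu))
  exact Sylow.ext (h1.symm.trans h2)

/-- The centralizer of a nontrivial element of a Sylow `p`-subgroup is its member. -/
theorem cent_eq (h : Cov 𝓐) (hZ : Subgroup.center G = ⊥) (P : Sylow p G)
    (hab : IsMulCommutative ↥(P : Subgroup G))
    (hall : ∀ Q : Sylow p G, ∃ A ∈ 𝓐, (Q : Subgroup G) ≤ A)
    (Q : Sylow p G) {A : Subgroup G} (hA : A ∈ 𝓐) (hQA : (Q : Subgroup G) ≤ A) {u : G}
    (hu : u ∈ Q) (hu1 : u ≠ 1) : Subgroup.centralizer ({u} : Set G) = A := by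
  have hup : PEl p u := pel_of_mem Q hu
  apply le_antisymm
  · intro g hg
    obtain ⟨g₁, g₂, h1, h2, hprod, ⟨e, he⟩, hco⟩ := qpart p Fact.out g
    have hz : Subgroup.zpowers g ≤ Subgroup.centralizer ({u} : Set G) :=
      (Subgroup.zpowers_le).mpr hg
    have c1 : u * g₁ = g₁ * u := Subgroup.mem_centralizer_iff.mp (hz h1) u rfl
    have c2 : u * g₂ = g₂ * u := Subgroup.mem_centralizer_iff.mp (hz h2) u rfl
    have m2 : g₂ ∈ A := pprime_mem h hZ P hab hA hup hu1 (hQA hu) c2.symm hco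
    have m1 : g₁ ∈ A := by
      have hK : IsPGroup p (Subgroup.zpowers u ⊔ Subgroup.zpowers g₁ : Subgroup G) := by
        apply IsPGroup.to_sup_of_normal_right' hup.isPGroup (PEl.isPGroup ⟨e, he⟩)
        rw [Subgroup.zpowers_le, Subgroup.mem_normalizer_iff]
        intro y
        constructor
        · intro hy
          obtain ⟨k, rfl⟩ := Subgroup.mem_zpowers_iff.mp hy
          have hc : Commute u (g₁ ^ k) := (show Commute u g₁ from c1).zpow_right k
          have : u * g₁ ^ k * u⁻¹ = g₁ ^ k := by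
            rw [hc.eq, mul_inv_cancel_right]
          rw [this]; exact hy
        · intro hy
          obtain ⟨k, hk⟩ := Subgroup.mem_zpowers_iff.mp hy
          have hc : Commute u (g₁ ^ k) := (show Commute u g₁ from c1).zpow_right k
          have : y = g₁ ^ k := by
            have h' : y = u⁻¹ * (u * y * u⁻¹) * u := by group
            rw [h', ← hk, mul_assoc, ← hc.eq, inv_mul_cancel_left]
          rw [this]; exact Subgroup.zpow_mem_zpowers g₁ k
      obtain ⟨R, hR⟩ := hK.exists_le_sylow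
      obtain ⟨B, hB, hRB⟩ := hall R
      have huR : u ∈ (R : Subgroup G) := hR (Subgroup.mem_sup_left (Subgroup.mem_zpowers u))
      have hgR : g₁ ∈ (R : Subgroup G) := hR (Subgroup.mem_sup_right (Subgroup.mem_zpowers g₁))
      have hAB := uniq_mem h hZ P hab hA hB hup hu1 (hQA hu) (hRB huR)
      rw [hAB]; exact hRB hgR
    rw [hprod]; exact A.mul_mem m1 m2
  · intro a ha
    rw [Subgroup.mem_centralizer_iff]
    intro y hy
    rw [Set.mem_singleton_iff.mp hy]
    exact (le_centralizer h P hab hA (hQA hu) hup a ha).symm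

/-- The centralizer of a nontrivial Sylow `p`-subgroup inside a member is that member. -/
theorem centP_eq (h : Cov 𝓐) (hZ : Subgroup.center G = ⊥) (P : Sylow p G)
    (hab : IsMulCommutative ↥(P : Subgroup G))
    (hall : ∀ Q : Sylow p G, ∃ A ∈ 𝓐, (Q : Subgroup G) ≤ A)
    (Q : Sylow p G) {A : Subgroup G} (hA : A ∈ 𝓐) (hQA : (Q : Subgroup G) ≤ A)
    (hQ1 : (Q : Subgroup G) ≠ ⊥) :
    Subgroup.centralizer ((Q : Subgroup G) : Set G) = A := by
  apply le_antisymm
  · obtain ⟨⟨u, hu⟩, hu1⟩ := Subgroup.ne_bot_iff_exists_ne_one.mp hQ1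
    rw [← cent_eq h hZ P hab hall Q hA hQA hu (fun e => hu1 (Subtype.ext e))]
    apply Subgroup.centralizer_le
    intro y hy
    rw [Set.mem_singleton_iff.mp hy]; exact hu
  · intro a ha
    rw [Subgroup.mem_centralizer_iff]
    intro y hy
    exact (le_centralizer h P hab hA (hQA hy) (pel_of_mem Q hy) a ha).symm

/-- Main structure theorem: a good non-normal abelian Sylow `p`-subgroup. -/
theorem main (h : Cov 𝓐) (hZ : Subgroup.center G = ⊥) (P : Sylow p G)
    (hab : IsMulCommutative ↥(P : Subgroup G)) (hnn : ¬ (P : Subgroup G).Normal)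
    (hgood : Good (P : Subgroup G) p) :
    ∃ A ∈ 𝓐, (P : Subgroup G) ≤ A ∧ Subgroup.centralizer ((P : Subgroup G) : Set G) = A ∧
      IsCoatom (Subgroup.normalizer ((P : Subgroup G) : Set G)) ∧
      (∀ M : Subgroup G, M ≠ ⊤ → A ≤ M →
        M ≤ Subgroup.normalizer ((P : Subgroup G) : Set G)) ∧
      (∀ g : G, g ∉ Subgroup.normalizer ((P : Subgroup G) : Set G) →
        ¬ p ∣ Nat.card ↥(Subgroup.normalizer ((P : Subgroup G) : Set G) ⊓
          (Subgroup.normalizer ((P : Subgroup G) : Set G)).map (MulAut.conj g).toMonoidHom)) := by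
  have hall : ∀ Q : Sylow p G, ∃ A ∈ 𝓐, (Q : Subgroup G) ≤ A := by
    intro Q
    obtain ⟨g, hg⟩ := MulAction.exists_smul_eq G P Q
    apply exists_member h hZ P hab Q
    rw [← hg, Sylow.coe_subgroup_smul]
    exact good_conj hgood g
  have hP1 : (P : Subgroup G) ≠ ⊥ := by
    intro e
    apply hnn
    rw [e]
    infer_instance
  obtain ⟨A, hA, hPA⟩ := hall P
  have hcent := centP_eq h hZ P hab hall P hA hPA hP1
  have hle : ∀ M : Subgroup G, M ≠ ⊤ → A ≤ M →
      M ≤ Subgroup.normalizer ((P : Subgroup G) : Set G) := by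
    intro M hM hAM g hg
    obtain ⟨B, hB, hQB⟩ := hall (g • P)
    have hQ1 : ((g • P : Sylow p G) : Subgroup G) ≠ ⊥ := by
      obtain ⟨⟨u, hu⟩, hu1⟩ := Subgroup.ne_bot_iff_exists_ne_one.mp hP1
      intro e
      have hm : g * u * g⁻¹ ∈ ((g • P : Sylow p G) : Subgroup G) := by
        rw [Sylow.coe_subgroup_smul, mem_conj_smul]
        have : g⁻¹ * (g * u * g⁻¹) * g = u := by group
        rw [this]; exact hu
      rw [e, Subgroup.mem_bot] at hm
      apply hu1
      apply Subtype.ext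
      change u = 1
      have : u = g⁻¹ * (g * u * g⁻¹) * g := by group
      rw [this, hm]; group
    have hcentQ := centP_eq h hZ P hab hall (g • P) hB hQB hQ1
    have hBM : B ≤ M := by
      intro b hb
      rw [← hcentQ] at hb
      have hb' : g⁻¹ * b * g ∈ Subgroup.centralizer ((P : Subgroup G) : Set G) := by
        rw [Subgroup.mem_centralizer_iff]
        intro z hz
        have hz' : g * z * g⁻¹ ∈ ((g • P : Sylow p G) : Subgroup G) := by
          rw [Sylow.coe_subgroup_smul, mem_conj_smul]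
          have : g⁻¹ * (g * z * g⁻¹) * g = z := by group
          rw [this]; exact hz
        have hc := Subgroup.mem_centralizer_iff.mp hb _ hz'
        calc z * (g⁻¹ * b * g) = g⁻¹ * ((g * z * g⁻¹) * b) * g := by group
          _ = g⁻¹ * (b * (g * z * g⁻¹)) * g := by rw [hc]
          _ = g⁻¹ * b * g * z := by group
      rw [hcent] at hb'
      have hm := M.mul_mem (M.mul_mem hg (hAM hb')) (M.inv_mem hg)
      have : g * (g⁻¹ * b * g) * g⁻¹ = b := by group
      rw [this] at hm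
      exact hm
    have hBA : B = A := uniq h hM hB hA hBM hAM
    have hQP : g • P = P := sylow_eq_of_le h hA (g • P) P (hBA ▸ hQB) hPA
    exact Sylow.smul_eq_iff_mem_normalizer.mp hQP
  have hN : Subgroup.normalizer ((P : Subgroup G) : Set G) ≠ ⊤ :=
    fun e => hnn (Subgroup.normalizer_eq_top_iff.mp e)
  have hAN : A ≤ Subgroup.normalizer ((P : Subgroup G) : Set G) := by
    rw [← hcent]
    exact Subgroup.centralizer_le_normalizer _
  refine ⟨A, hA, hPA, hcent, ⟨hN, fun M hlt => ?_⟩, hle, ?_⟩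
  · by_contra hM
    exact absurd (hle M hM (hAN.trans hlt.le)) (not_le_of_gt hlt)
  · intro g hg hdvd
    obtain ⟨⟨u, huK⟩, hu⟩ := exists_prime_orderOf_dvd_card'
      (G := ↥(Subgroup.normalizer ((P : Subgroup G) : Set G) ⊓
          (Subgroup.normalizer ((P : Subgroup G) : Set G)).map (MulAut.conj g).toMonoidHom))
      p hdvd
    have huo : orderOf u = p := by
      rw [← hu, Subgroup.orderOf_mk]
    have hpp : p.Prime := Fact.out
    have hu1 : u ≠ 1 := by
      intro e
      rw [e, orderOf_one] at huo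
      exact hpp.one_lt.ne huo
    have hup : IsPGroup p (Subgroup.zpowers u) :=
      IsPGroup.of_card (n := 1) (by rw [Nat.card_zpowers, huo, pow_one])
    have huP : u ∈ (P : Subgroup G) := by
      have h1 : u ∈ Subgroup.zpowers u ⊓ Subgroup.normalizer ((P : Subgroup G) : Set G) :=
        ⟨Subgroup.mem_zpowers u, huK.1⟩
      have h2 := hup.inf_normalizer_sylow P
      have h3 : u ∈ Subgroup.zpowers u ⊓ (P : Subgroup G) := by
        rw [← h2]; exact h1
      exact h3.2
    obtain ⟨n, hn, hnu⟩ := huK.2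
    have hn' : n = g⁻¹ * u * g := by
      rw [← hnu]
      simp only [MulEquiv.coe_toMonoidHom, MulAut.conj_apply]
      group
    have hnp : n ^ p = 1 := by
      have e1 : n = g⁻¹ * u * g⁻¹⁻¹ := by rw [hn', inv_inv]
      rw [e1, conj_pow, ← huo, pow_orderOf_eq_one]; group
    have hnpg : IsPGroup p (Subgroup.zpowers n) := PEl.isPGroup ⟨1, by rw [pow_one]; exact hnp⟩
    have hnP : n ∈ (P : Subgroup G) := by
      have h1 : n ∈ Subgroup.zpowers n ⊓ Subgroup.normalizer ((P : Subgroup G) : Set G) :=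
        ⟨Subgroup.mem_zpowers n, hn⟩
      have h2 := hnpg.inf_normalizer_sylow P
      have h3 : n ∈ Subgroup.zpowers n ⊓ (P : Subgroup G) := by
        rw [← h2]; exact h1
      exact h3.2
    have huQ : u ∈ ((g • P : Sylow p G) : Subgroup G) := by
      rw [Sylow.coe_subgroup_smul, mem_conj_smul, ← hn']; exact hnP
    obtain ⟨B, hB, hQB⟩ := hall (g • P)
    have hBA : B = A :=
      uniq_mem h hZ P hab hB hA (pel_of_mem P huP) hu1 (hQB huQ) (hPA huP)
    have hQP : g • P = P := sylow_eq_of_le h hA (g • P) P (hBA ▸ hQB) hPA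
    exact hg (Sylow.smul_eq_iff_mem_normalizer.mp hQP)

end main

end Cfsg.Agent.Lib.helper2.NilCover
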