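import Mathlib
import Cfsg.Agent.Lib.helper2.NilCover

set_option autoImplicit false

/-!
Alternating and symmetric groups have no nilpotent minimal cover.
-/

namespace Cfsg.Agent.Lib.helper2.NilCover

open Equiv

/-- Core criterion: a Sylow subgroup of prime order whose centralizer lies in a proper subgroup
not normalizing it. -/
theorem no_cover_core {G : Type*} [Group G] [Finite G] (hZ : Subgroup.center G = ⊥)
    {p : ℕ} [Fact p.Prime] (hS : ∀ P : Sylow p G, Nat.card (P : Subgroup G) = p)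
    (x : G) (hx : orderOf x = p) (M : Subgroup G) (hM : M ≠ ⊤)
    (hC : Subgroup.centralizer ({x} : Set G) ≤ M) (γ : G) (hγ : γ ∈ M)
    (hγx : γ * x * γ⁻¹ ∉ Subgroup.zpowers x) (𝓐 : Finset (Subgroup G)) : ¬ Cov 𝓐 := by
  intro hcov
  have hxp : IsPGroup p (Subgroup.zpowers x) :=
    IsPGroup.of_card (n := 1) (by rw [Nat.card_zpowers, hx, pow_one])
  obtain ⟨P, hP⟩ := hxp.exists_le_sylow
  have hPx : Subgroup.zpowers x = (P : Subgroup G) := by
    apply Subgroup.eq_of_le_of_card_ge hP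
    rw [hS P, Nat.card_zpowers, hx]
  have hxP : x ∈ (P : Subgroup G) := hP (Subgroup.mem_zpowers x)
  have hab : IsMulCommutative ↥(P : Subgroup G) := by
    refine ⟨⟨fun a b => ?_⟩⟩
    have ha : (a : G) ∈ Subgroup.zpowers x := by rw [hPx]; exact a.2
    have hb : (b : G) ∈ Subgroup.zpowers x := by rw [hPx]; exact b.2
    obtain ⟨m, hm⟩ := Subgroup.mem_zpowers_iff.mp ha
    obtain ⟨n, hn⟩ := Subgroup.mem_zpowers_iff.mp hb
    apply Subtype.ext
    change (a : G) * b = b * a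
    rw [← hm, ← hn, ← zpow_add, ← zpow_add, add_comm]
  have hgood : Good (P : Subgroup G) p := Or.inr ⟨x, hxP, fun y hy => by rw [hPx]; exact hy⟩
  have hnn : ¬ (P : Subgroup G).Normal := by
    intro hn
    apply hγx
    rw [hPx]
    exact hn.conj_mem x hxP γ
  obtain ⟨A, hA, hPA, hcent, hco, hle, -⟩ := main hcov hZ P hab hnn hgood
  have hAM : A ≤ M := by
    rw [← hcent]
    refine le_trans (Subgroup.centralizer_le ?_) hC
    intro y hy
    rw [Set.mem_singleton_iff.mp hy]; exact hxP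
  have h1 := hle M hM hAM hγ
  rw [Subgroup.mem_normalizer_iff] at h1
  apply hγx
  rw [hPx]
  exact (h1 x).mp hxP

theorem exists_notMem' {α : Type*} [Fintype α] (S : Finset α) (h : S.card < Fintype.card α) :
    ∃ x, x ∉ S := by
  by_contra hcon
  push Not at hcon
  have : S = Finset.univ := Finset.eq_univ_iff_forall.mpr hcon
  rw [this, Finset.card_univ] at h
  exact lt_irrefl _ h

/-- A group between `A_n` and `S_n` (`n ≥ 4`) has trivial centre. -/
theorem center_bot_of_alt {G : Type*} [Group G] {n : ℕ} (hn : 4 ≤ n) (φ : G →* Perm (Fin n))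
    (hφ : Function.Injective φ) (hA : alternatingGroup (Fin n) ≤ φ.range) :
    Subgroup.center G = ⊥ := by
  rw [eq_bot_iff]
  intro z hz
  rw [Subgroup.mem_bot]
  apply hφ
  rw [map_one]
  ext a
  by_contra hne
  have hba : φ z a ≠ a := fun e => hne (by rw [e]; rfl)
  obtain ⟨c, hc⟩ : ∃ c, c ∉ ({a, φ z a} : Finset (Fin n)) := by
    apply exists_notMem'
    have := Finset.card_le_two (a := a) (b := φ z a)
    rw [Fintype.card_fin]; omega
  obtain ⟨d, hd⟩ : ∃ d, d ∉ ({a, φ z a, c} : Finset (Fin n)) := by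
    apply exists_notMem'
    have := Finset.card_le_three (a := a) (b := φ z a) (c := c)
    rw [Fintype.card_fin]; omega
  simp only [Finset.mem_insert, Finset.mem_singleton, not_or] at hc hd
  have hτ : swap (φ z a) c * swap c d ∈ alternatingGroup (Fin n) := by
    rw [Equiv.Perm.mem_alternatingGroup, Equiv.Perm.sign_mul,
      Equiv.Perm.sign_swap (Ne.symm hc.2), Equiv.Perm.sign_swap (Ne.symm hd.2.2)]
    rfl
  obtain ⟨t, ht⟩ := hA hτ
  have hcomm : t * z = z * t := Subgroup.mem_center_iff.mp hz t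
  have h1 := congrArg (fun σ : Perm (Fin n) => σ a) (congrArg φ hcomm)
  simp only [map_mul, Perm.mul_apply, ht] at h1
  have ha' : swap c d a = a := swap_apply_of_ne_of_ne (Ne.symm hc.1) (Ne.symm hd.1)
  have hb1 : swap c d (φ z a) = φ z a := swap_apply_of_ne_of_ne (Ne.symm hc.2) (Ne.symm hd.2.1)
  have hb' : swap (φ z a) c (φ z a) = c := swap_apply_left _ _
  have ha'' : swap (φ z a) c a = a := swap_apply_of_ne_of_ne (Ne.symm hba) (Ne.symm hc.1)
  rw [hb1, hb', ha', ha''] at h1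
  exact hc.2 h1

/-- Sylow `p`-subgroups have order `p` when `p ≤ n < 2p` and the group embeds in `S_n`. -/
theorem sylow_card_of_le {G : Type*} [Group G] [Finite G] {n p : ℕ} [Fact p.Prime]
    (hdvd : Nat.card G ∣ n.factorial) (hpn : p ≤ n) (hn2 : n < 2 * p) (hpG : p ∣ Nat.card G)
    (P : Sylow p G) : Nat.card (P : Subgroup G) = p := by
  have hp : p.Prime := Fact.out
  have hlog : Nat.log p n < 2 := by
    apply Nat.log_lt_of_lt_pow (by have := hp.pos; omega)
    have := hp.two_le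
    nlinarith
  have h1 : (n.factorial).factorization p = 1 := by
    rw [Nat.factorization_factorial hp hlog]
    have : n / p = 1 := Nat.div_eq_of_lt_le (by omega) (by omega)
    simp [this]
  have h2 : (Nat.card G).factorization p ≤ 1 := by
    rw [← h1]
    exact (Nat.factorization_le_iff_dvd Nat.card_pos.ne' (Nat.factorial_ne_zero n)).mpr hdvd p
  have h3 : 0 < (Nat.card G).factorization p := hp.factorization_pos_of_dvd Nat.card_pos.ne' hpG
  rw [Sylow.card_eq_multiplicity, show (Nat.card G).factorization p = 1 by omega, pow_one]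

theorem card_dvd_factorial {G : Type*} [Group G] [Finite G] {n : ℕ} (φ : G →* Perm (Fin n))
    (hφ : Function.Injective φ) : Nat.card G ∣ n.factorial := by
  have h := Subgroup.card_dvd_of_injective φ hφ
  rwa [Nat.card_perm, Nat.card_fin] at h

theorem swap_mem_iff {α : Type*} [DecidableEq α] (S : Finset α) {u v : α} (hu : u ∈ S)
    (hv : v ∈ S) (i : α) : swap u v i ∈ S ↔ i ∈ S := by
  by_cases h1 : i = u
  · subst h1; rw [swap_apply_left]; exact ⟨fun _ => hu, fun _ => hv⟩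
  by_cases h2 : i = v
  · subst h2; rw [swap_apply_right]; exact ⟨fun _ => hv, fun _ => hu⟩
  rw [swap_apply_of_ne_of_ne h1 h2]

theorem fix_pow {α : Type*} (σ : Perm α) (b : α) (h : σ b = b) (m : ℕ) : (σ ^ m) b = b := by
  induction m with
  | zero => rfl
  | succ m ih => rw [pow_succ, Perm.mul_apply, h, ih]

/-- Elements preserving a set of points. -/
def setStab {G : Type*} [Group G] {n : ℕ} (φ : G →* Perm (Fin n)) (S : Finset (Fin n)) :
    Subgroup G where
  carrier := {γ | ∀ i, φ γ i ∈ S ↔ i ∈ S}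
  one_mem' := by intro i; simp
  mul_mem' := by
    intro u v hu hv i
    rw [map_mul, Perm.mul_apply, hu, hv]
  inv_mem' := by
    intro u hu i
    have := hu (φ u⁻¹ i)
    rw [← Perm.mul_apply, ← map_mul, mul_inv_cancel, map_one, Perm.one_apply] at this
    exact this.symm

theorem mem_setStab {G : Type*} [Group G] {n : ℕ} (φ : G →* Perm (Fin n)) (S : Finset (Fin n))
    (γ : G) : γ ∈ setStab φ S ↔ ∀ i, φ γ i ∈ S ↔ i ∈ S := Iff.rfl

/-- Groups between `A_n` and `S_n`, `n ≥ 6`, have no nilpotent minimal cover. -/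
theorem no_cover_big {G : Type*} [Group G] [Finite G] {n : ℕ} (hn : 6 ≤ n)
    (φ : G →* Perm (Fin n)) (hφ : Function.Injective φ)
    (hA : alternatingGroup (Fin n) ≤ φ.range) (𝓐 : Finset (Subgroup G)) : ¬ Cov 𝓐 := by
  obtain ⟨p, hp, hlt, hle⟩ := Nat.exists_prime_lt_and_le_two_mul (n / 2) (by omega)
  have hp5 : 5 ≤ p := by
    have h4 : 4 ≤ p := by omega
    rcases Nat.lt_or_ge 4 p with h | h
    · omega
    · have h4' : p = 4 := by omega
      rw [h4'] at hp
      exact absurd hp (by decide)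
  have hpn : p < n := by
    by_contra hcon
    have hpe : p = n := by omega
    have h2 : 2 ∣ p := by omega
    have := (Nat.prime_dvd_prime_iff_eq Nat.prime_two hp).mp h2
    omega
  have hn2 : n < 2 * p := by omega
  have : Fact p.Prime := ⟨hp⟩
  obtain ⟨x₀, hx₀⟩ := (Equiv.Perm.exists_with_cycleType_iff (α := Fin n) (m := {p})).mpr
    ⟨by rw [Multiset.sum_singleton, Fintype.card_fin]; omega, by
      intro a ha; rw [Multiset.mem_singleton] at ha; omega⟩
  have hord : orderOf x₀ = p := by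
    rw [← Equiv.Perm.lcm_cycleType, hx₀, Multiset.lcm_singleton]; simp
  have hsign : Equiv.Perm.sign x₀ = 1 := by
    rw [Equiv.Perm.sign_of_cycleType, hx₀, Multiset.sum_singleton, Multiset.card_singleton]
    have hodd : Odd p := hp.odd_of_ne_two (by omega)
    exact Even.neg_one_pow hodd.add_one
  have hsupp : x₀.support.card = p := by
    rw [← Equiv.Perm.sum_cycleType, hx₀, Multiset.sum_singleton]
  obtain ⟨x, hx⟩ := hA (Equiv.Perm.mem_alternatingGroup.mpr hsign)
  have hxo : orderOf x = p := by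
    rw [← hord, ← hx, orderOf_injective φ hφ x]
  have hx₀1 : x₀ ≠ 1 := by
    intro e; rw [e, orderOf_one] at hord; omega
  obtain ⟨a, ha⟩ : ∃ a, x₀ a ≠ a := by
    by_contra hcon
    push Not at hcon
    exact hx₀1 (Equiv.Perm.ext hcon)
  have hfix : ∀ b : Fin n, x₀ b ≠ b → ∀ j : ℕ, (x₀ ^ j) b = b → p ∣ j := by
    intro b hb j hj
    by_contra hnd
    have hco : Nat.Coprime j (orderOf x₀) := by
      rw [hord]; exact ((Nat.Prime.coprime_iff_not_dvd hp).mpr hnd).symm
    obtain ⟨m, hm⟩ := exists_pow_eq_self_of_coprime hco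
    apply hb
    have := fix_pow (x₀ ^ j) b hj m
    rwa [hm] at this
  have hmove : ∀ i : ℕ, x₀ ((x₀ ^ i) a) ≠ (x₀ ^ i) a := by
    intro i h
    apply ha
    have : (x₀ ^ i) (x₀ a) = (x₀ ^ i) a := by
      rw [← Perm.mul_apply, ← pow_succ, pow_succ', Perm.mul_apply]; exact h
    exact (x₀ ^ i).injective this
  have hdist : ∀ i j : ℕ, i < j → j < p → (x₀ ^ i) a ≠ (x₀ ^ j) a := by
    intro i j hij hjp h
    have h' : (x₀ ^ (j - i)) a = a := by
      have : (x₀ ^ j) a = (x₀ ^ i) ((x₀ ^ (j - i)) a) := by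
        rw [← Perm.mul_apply, ← pow_add]; congr 2; omega
      rw [this] at h
      exact ((x₀ ^ i).injective h).symm
    have := Nat.le_of_dvd (by omega) (hfix a ha (j - i) h')
    omega
  have hstep : ∀ i : ℕ, x₀ ((x₀ ^ i) a) = (x₀ ^ (i + 1)) a := by
    intro i; rw [pow_succ', Perm.mul_apply]
  obtain ⟨a₁, ha₁⟩ : ∃ a₁, a₁ = (x₀ ^ 1) a := ⟨_, rfl⟩
  obtain ⟨a₂, ha₂⟩ : ∃ a₂, a₂ = (x₀ ^ 2) a := ⟨_, rfl⟩
  obtain ⟨a₃, ha₃⟩ : ∃ a₃, a₃ = (x₀ ^ 3) a := ⟨_, rfl⟩
  obtain ⟨a₄, ha₄⟩ : ∃ a₄, a₄ = (x₀ ^ 4) a := ⟨_, rfl⟩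
  have h0 : a = (x₀ ^ 0) a := rfl
  have h01 : a ≠ a₁ := by rw [ha₁]; exact hdist 0 1 (by omega) (by omega)
  have h02 : a ≠ a₂ := by rw [ha₂]; exact hdist 0 2 (by omega) (by omega)
  have h03 : a ≠ a₃ := by rw [ha₃]; exact hdist 0 3 (by omega) (by omega)
  have h04 : a ≠ a₄ := by rw [ha₄]; exact hdist 0 4 (by omega) (by omega)
  have h12 : a₁ ≠ a₂ := by rw [ha₁, ha₂]; exact hdist 1 2 (by omega) (by omega)
  have h13 : a₁ ≠ a₃ := by rw [ha₁, ha₃]; exact hdist 1 3 (by omega) (by omega)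
  have h14 : a₁ ≠ a₄ := by rw [ha₁, ha₄]; exact hdist 1 4 (by omega) (by omega)
  have h23 : a₂ ≠ a₃ := by rw [ha₂, ha₃]; exact hdist 2 3 (by omega) (by omega)
  have h24 : a₂ ≠ a₄ := by rw [ha₂, ha₄]; exact hdist 2 4 (by omega) (by omega)
  have h34 : a₃ ≠ a₄ := by rw [ha₃, ha₄]; exact hdist 3 4 (by omega) (by omega)
  have s2 : x₀ a₂ = a₃ := by rw [ha₂, ha₃]; exact hstep 2
  have s3 : x₀ a₃ = a₄ := by rw [ha₃, ha₄]; exact hstep 3
  have s0 : x₀ a = a₁ := by rw [ha₁, pow_one]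
  have m0 : a ∈ x₀.support := Equiv.Perm.mem_support.mpr ha
  have m1 : a₁ ∈ x₀.support := by rw [ha₁]; exact Equiv.Perm.mem_support.mpr (hmove 1)
  have m2 : a₂ ∈ x₀.support := by rw [ha₂]; exact Equiv.Perm.mem_support.mpr (hmove 2)
  have m3 : x₀ a₃ ≠ a₃ := by rw [ha₃]; exact hmove 3
  -- the 3-cycle
  have hgA : swap a a₁ * swap a₁ a₂ ∈ alternatingGroup (Fin n) := by
    rw [Equiv.Perm.mem_alternatingGroup, Equiv.Perm.sign_mul, Equiv.Perm.sign_swap h01,
      Equiv.Perm.sign_swap h12]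
    rfl
  obtain ⟨γ, hγ⟩ := hA hgA
  have g2 : (swap a a₁ * swap a₁ a₂) a₂ = a := by
    rw [Perm.mul_apply, swap_apply_right, swap_apply_right]
  have g3 : (swap a a₁ * swap a₁ a₂) a₃ = a₃ := by
    rw [Perm.mul_apply, swap_apply_of_ne_of_ne (Ne.symm h13) (Ne.symm h23),
      swap_apply_of_ne_of_ne (Ne.symm h03) (Ne.symm h13)]
  have g4 : (swap a a₁ * swap a₁ a₂) a₄ = a₄ := by
    rw [Perm.mul_apply, swap_apply_of_ne_of_ne (Ne.symm h14) (Ne.symm h24),
      swap_apply_of_ne_of_ne (Ne.symm h04) (Ne.symm h14)]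
  have gi3 : (swap a a₁ * swap a₁ a₂)⁻¹ a₃ = a₃ := by
    rw [Perm.inv_eq_iff_eq, g3]
  have gi0 : (swap a a₁ * swap a₁ a₂)⁻¹ a = a₂ := by
    rw [Perm.inv_eq_iff_eq, g2]
  -- the point outside the support
  obtain ⟨b, hb⟩ : ∃ b, b ∉ x₀.support :=
    exists_notMem' _ (by rw [hsupp, Fintype.card_fin]; exact hpn)
  have hab : a ≠ b := fun e => hb (e ▸ m0)
  have htA : swap a b * swap a₁ a₂ ∈ alternatingGroup (Fin n) := by
    rw [Equiv.Perm.mem_alternatingGroup, Equiv.Perm.sign_mul, Equiv.Perm.sign_swap hab,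
      Equiv.Perm.sign_swap h12]
    rfl
  obtain ⟨t, ht⟩ := hA htA
  have t0 : (swap a b * swap a₁ a₂) a = b := by
    rw [Perm.mul_apply, swap_apply_of_ne_of_ne h01 h02, swap_apply_left]
  have hS : ∀ P : Sylow p G, Nat.card (P : Subgroup G) = p := by
    intro P
    refine sylow_card_of_le (card_dvd_factorial φ hφ) hpn.le hn2 ?_ P
    rw [← hxo]; exact orderOf_dvd_natCard x
  refine no_cover_core (center_bot_of_alt (by omega) φ hφ hA) hS x hxo
    (setStab φ x₀.support) ?_ ?_ γ ?_ ?_ 𝓐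
  · intro e
    have hm : t ∈ setStab φ x₀.support := by rw [e]; trivial
    have := (hm a).mpr m0
    rw [ht, t0] at this
    exact hb this
  · intro c hc i
    have hc1 : x * c = c * x := Subgroup.mem_centralizer_iff.mp hc x rfl
    have hc' : x₀ * φ c = φ c * x₀ := by rw [← hx, ← map_mul, ← map_mul, hc1]
    rw [Equiv.Perm.mem_support, Equiv.Perm.mem_support]
    have : x₀ (φ c i) = φ c (x₀ i) := by rw [← Perm.mul_apply, hc', Perm.mul_apply]
    rw [this]
    exact (φ c).injective.ne_iff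
  · intro i
    rw [hγ, Perm.mul_apply, swap_mem_iff _ m0 m1, swap_mem_iff _ m1 m2]
  · intro hmem
    obtain ⟨g, hg⟩ : ∃ g : Perm (Fin n), g = swap a a₁ * swap a₁ a₂ := ⟨_, rfl⟩
    rw [← hg] at g2 g3 g4 gi3 gi0 hγ
    have hmem' : g * x₀ * g⁻¹ ∈ Subgroup.zpowers x₀ := by
      obtain ⟨k, hk⟩ := Subgroup.mem_zpowers_iff.mp hmem
      refine Subgroup.mem_zpowers_iff.mpr ⟨k, ?_⟩
      rw [← hγ, ← hx, ← map_inv, ← map_mul, ← map_mul, ← hk, map_zpow]
    obtain ⟨k, hk⟩ := (Submonoid.mem_powers_iff _ _).mp (mem_powers_iff_mem_zpowers.mpr hmem')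
    have r3 : (g * x₀ * g⁻¹) a₃ = a₄ := by
      rw [Perm.mul_apply, Perm.mul_apply, gi3, s3, g4]
    have r0 : (g * x₀ * g⁻¹) a = a₃ := by
      rw [Perm.mul_apply, Perm.mul_apply, gi0, s2, g3]
    have e3 : (x₀ ^ k) a₃ = a₄ := by rw [hk, r3]
    have hxk : x₀ ^ k = x₀ := by
      cases k with
      | zero =>
        rw [pow_zero, Perm.one_apply] at e3
        exact absurd e3 h34
      | succ j =>
        rw [pow_succ', Perm.mul_apply] at e3
        have e4 : (x₀ ^ j) a₃ = a₃ := x₀.injective (e3.trans s3.symm)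
        have hpj := hfix a₃ m3 j e4
        have : x₀ ^ j = 1 := by
          rw [← hord] at hpj
          exact orderOf_dvd_iff_pow_eq_one.mp hpj
        rw [pow_succ', this, mul_one]
    rw [hxk] at hk
    have e0 : x₀ a = a₃ := by rw [hk, r0]
    rw [s0] at e0
    exact h13 e0

set_option maxRecDepth 100000 in
theorem dec_S5 : ∀ σ : Perm (Fin 5), (finRotate 5) * σ = σ * (finRotate 5) →
    Equiv.Perm.sign σ = 1 := by
  decide

set_option maxRecDepth 100000 in
theorem dec_A5 : ∀ σ : Perm (Fin 5), Equiv.Perm.sign σ = 1 →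
    (swap 0 1 * swap 1 2) * σ = σ * (swap 0 1 * swap 1 2) → σ 3 = 3 := by
  decide

set_option maxRecDepth 100000 in
theorem dec_S4 : ∀ σ : Perm (Fin 4), (swap 0 1 * swap 1 2) * σ = σ * (swap 0 1 * swap 1 2) →
    Equiv.Perm.sign σ = 1 := by
  decide

theorem no_cover_S4 (𝓐 : Finset (Subgroup (Perm (Fin 4)))) : ¬ Cov 𝓐 := by
  have : Fact (Nat.Prime 3) := ⟨by norm_num⟩
  have hid : Function.Injective (MonoidHom.id (Perm (Fin 4))) := fun _ _ h => h
  have hx : orderOf (swap 0 1 * swap 1 2 : Perm (Fin 4)) = 3 :=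
    orderOf_eq_prime (by decide) (by decide)
  have hS : ∀ P : Sylow 3 (Perm (Fin 4)), Nat.card (P : Subgroup (Perm (Fin 4))) = 3 := by
    intro P
    refine sylow_card_of_le (n := 4) (card_dvd_factorial (MonoidHom.id (Perm (Fin 4))) hid) (by norm_num)
      (by norm_num) ?_ P
    rw [← hx]; exact orderOf_dvd_natCard _
  refine no_cover_core (center_bot_of_alt (n := 4) le_rfl (MonoidHom.id (Perm (Fin 4))) hid
    (fun σ _ => ⟨σ, rfl⟩)) hS
    (swap 0 1 * swap 1 2) hx (alternatingGroup (Fin 4)) ?_ ?_ (swap 0 1 * swap 1 3) ?_ ?_ 𝓐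
  · intro e
    have hm : (swap 0 1 : Perm (Fin 4)) ∈ alternatingGroup (Fin 4) := by rw [e]; trivial
    exact absurd (Equiv.Perm.mem_alternatingGroup.mp hm) (by decide)
  · intro c hc
    rw [Equiv.Perm.mem_alternatingGroup]
    exact dec_S4 c (Subgroup.mem_centralizer_iff.mp hc _ rfl)
  · exact Equiv.Perm.mem_alternatingGroup.mpr (by decide)
  · rw [mem_zpowers_iff_mem_range_orderOf, hx]
    decide

theorem no_cover_S5 (𝓐 : Finset (Subgroup (Perm (Fin 5)))) : ¬ Cov 𝓐 := by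
  have : Fact (Nat.Prime 5) := ⟨by norm_num⟩
  have hid : Function.Injective (MonoidHom.id (Perm (Fin 5))) := fun _ _ h => h
  have hx : orderOf (finRotate 5 : Perm (Fin 5)) = 5 :=
    orderOf_eq_prime (by decide) (by decide)
  have hS : ∀ P : Sylow 5 (Perm (Fin 5)), Nat.card (P : Subgroup (Perm (Fin 5))) = 5 := by
    intro P
    refine sylow_card_of_le (n := 5) (card_dvd_factorial (MonoidHom.id (Perm (Fin 5))) hid) (by norm_num)
      (by norm_num) ?_ P
    have h := orderOf_dvd_natCard (finRotate 5 : Perm (Fin 5))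
    rw [hx] at h
    exact h
  refine no_cover_core (center_bot_of_alt (n := 5) (by norm_num) (MonoidHom.id (Perm (Fin 5)))
    hid (fun σ _ => ⟨σ, rfl⟩)) hS (finRotate 5) hx (alternatingGroup (Fin 5)) ?_ ?_ (swap 0 1 * swap 1 2) ?_ ?_ 𝓐
  · intro e
    have hm : (swap 0 1 : Perm (Fin 5)) ∈ alternatingGroup (Fin 5) := by rw [e]; trivial
    exact absurd (Equiv.Perm.mem_alternatingGroup.mp hm) (by decide)
  · intro c hc
    rw [Equiv.Perm.mem_alternatingGroup]
    exact dec_S5 c (Subgroup.mem_centralizer_iff.mp hc _ rfl)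
  · exact Equiv.Perm.mem_alternatingGroup.mpr (by decide)
  · rw [mem_zpowers_iff_mem_range_orderOf, hx]
    decide

theorem no_cover_A5 (𝓐 : Finset (Subgroup ↥(alternatingGroup (Fin 5)))) : ¬ Cov 𝓐 := by
  have : Fact (Nat.Prime 3) := ⟨by norm_num⟩
  have hinj : Function.Injective (alternatingGroup (Fin 5)).subtype := Subtype.val_injective
  have hx0 : orderOf (swap 0 1 * swap 1 2 : Perm (Fin 5)) = 3 :=
    orderOf_eq_prime (by decide) (by decide)
  have hxm : (swap 0 1 * swap 1 2 : Perm (Fin 5)) ∈ alternatingGroup (Fin 5) :=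
    Equiv.Perm.mem_alternatingGroup.mpr (by decide)
  have hgm : (swap 0 1 * swap 1 4 : Perm (Fin 5)) ∈ alternatingGroup (Fin 5) :=
    Equiv.Perm.mem_alternatingGroup.mpr (by decide)
  have htm : (swap 0 1 * swap 3 4 : Perm (Fin 5)) ∈ alternatingGroup (Fin 5) :=
    Equiv.Perm.mem_alternatingGroup.mpr (by decide)
  have hx : orderOf (⟨_, hxm⟩ : ↥(alternatingGroup (Fin 5))) = 3 := by
    rw [Subgroup.orderOf_mk]; exact hx0
  have hS : ∀ P : Sylow 3 ↥(alternatingGroup (Fin 5)),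
      Nat.card (P : Subgroup ↥(alternatingGroup (Fin 5))) = 3 := by
    intro P
    refine sylow_card_of_le (n := 5) (card_dvd_factorial _ hinj) (by norm_num)
      (by norm_num) ?_ P
    rw [← hx]; exact orderOf_dvd_natCard _
  refine no_cover_core (center_bot_of_alt (n := 5) (by norm_num) _ hinj
    (by rw [Subgroup.range_subtype])) hS ⟨_, hxm⟩ hx
    (setStab (alternatingGroup (Fin 5)).subtype ({3} : Finset (Fin 5))) ?_ ?_ ⟨_, hgm⟩ ?_ ?_ 𝓐
  · intro e
    have hm : (⟨_, htm⟩ : ↥(alternatingGroup (Fin 5))) ∈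
        setStab (alternatingGroup (Fin 5)).subtype ({3} : Finset (Fin 5)) := by rw [e]; trivial
    have h3 := (hm 3).mpr (by simp)
    revert h3
    change ¬ ((swap 0 1 * swap 3 4 : Perm (Fin 5)) 3 ∈ ({3} : Finset (Fin 5)))
    decide
  · intro c hc i
    have hc1 := Subgroup.mem_centralizer_iff.mp hc _ rfl
    have hc2 : (swap 0 1 * swap 1 2 : Perm (Fin 5)) * (c : Perm (Fin 5))
        = (c : Perm (Fin 5)) * (swap 0 1 * swap 1 2) := congrArg Subtype.val hc1
    have h3 : (c : Perm (Fin 5)) 3 = 3 :=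
      dec_A5 c (Equiv.Perm.mem_alternatingGroup.mp c.2) hc2
    change (c : Perm (Fin 5)) i ∈ ({3} : Finset (Fin 5)) ↔ i ∈ ({3} : Finset (Fin 5))
    rw [Finset.mem_singleton, Finset.mem_singleton]
    constructor
    · intro h
      exact (c : Perm (Fin 5)).injective (h.trans h3.symm)
    · intro h
      rw [h]; exact h3
  · intro i
    change (swap 0 1 * swap 1 4 : Perm (Fin 5)) i ∈ ({3} : Finset (Fin 5))
      ↔ i ∈ ({3} : Finset (Fin 5))
    revert i
    decide
  · intro hmem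
    have hmem' : (swap 0 1 * swap 1 4 : Perm (Fin 5)) * (swap 0 1 * swap 1 2)
        * (swap 0 1 * swap 1 4 : Perm (Fin 5))⁻¹ ∈ Subgroup.zpowers
          (swap 0 1 * swap 1 2 : Perm (Fin 5)) := by
      obtain ⟨k, hk⟩ := Subgroup.mem_zpowers_iff.mp hmem
      refine Subgroup.mem_zpowers_iff.mpr ⟨k, ?_⟩
      have := congrArg Subtype.val hk
      simpa using this
    rw [mem_zpowers_iff_mem_range_orderOf, hx0] at hmem'
    revert hmem'
    decide

end Cfsg.Agent.Lib.helper2.NilCover
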