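import Mathlib
import Cfsg.Prelude.Def_LieExceptional

set_option autoImplicit false

namespace Cfsg.Agent.Lib.helper2.Ovoid

section alg

variable {F : Type*} [Field F] (s : ℕ)

/-- The Tits form `N(x, y) = x y + x^(σ+2) + y^σ`. -/
def N (x y : F) : F := x * y + x ^ (s + 2) + y ^ s

variable {s}
variable (h2 : (2 : F) = 0) (hs2 : ∀ x : F, (x ^ s) ^ s = x ^ 2)
  (hadd : ∀ x y : F, (x + y) ^ s = x ^ s + y ^ s)

include h2 hs2 hadd

theorem aniso {x y : F} (h : N s x y = 0) : x = 0 ∧ y = 0 := by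
  have hs0 : s ≠ 0 := by
    rintro rfl
    have h3 := hadd 1 1
    simp only [pow_zero] at h3
    have : (1 : F) = 0 := by linear_combination h3 + h2
    exact one_ne_zero this
  by_cases hx : x = 0
  · subst hx
    simp only [N, zero_mul, zero_add] at h
    rw [zero_pow (by omega), zero_add] at h
    exact ⟨rfl, pow_eq_zero_iff hs0 |>.1 h⟩
  · exfalso
    have hxs : x ^ (s + 1) ≠ 0 := pow_ne_zero _ hx
    have ht : ∃ t : F, y = t * x ^ (s + 1) := ⟨y / x ^ (s + 1), by field_simp⟩
    obtain ⟨t, rfl⟩ := ht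
    have h1 : N s x (t * x ^ (s + 1)) = x ^ (s + 2) * (t + 1 + t ^ s) := by
      have e1 : (x ^ (s + 1)) ^ s = x ^ 2 * x ^ s := by
        rw [← pow_mul, add_mul, one_mul, pow_add, pow_mul, hs2]
      simp only [N, mul_pow, e1]
      ring
    rw [h1] at h
    have h3 : t + 1 + t ^ s = 0 := by
      rcases mul_eq_zero.1 h with h | h
      · exact absurd (pow_eq_zero_iff (by omega) |>.1 h) hx
      · exact h
    have h4 : t ^ s = t + 1 := by linear_combination h3 - (t + 1) * h2
    have h5 : t ^ 2 = t := by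
      rw [← hs2 t, h4, hadd, h4, one_pow]
      linear_combination h2
    have h6 : t = 0 ∨ t = 1 := by
      have : t * (t - 1) = 0 := by linear_combination h5
      rcases mul_eq_zero.1 this with h | h
      · left; exact h
      · right; linear_combination h
    rcases h6 with rfl | rfl
    · rw [zero_pow hs0] at h4
      simp at h4
    · rw [one_pow] at h4
      have : (1 : F) = 0 := by linear_combination -h4
      exact one_ne_zero this

theorem N_pow (x y : F) : (N s x y) ^ s = x ^ s * y ^ s + (x ^ s) ^ 2 * x ^ 2 + y ^ 2 := by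
  rw [N, hadd, hadd, mul_pow, hs2 y]
  have : (x ^ (s + 2)) ^ s = (x ^ s) ^ 2 * x ^ 2 := by
    rw [← pow_mul, add_mul, pow_add, pow_mul, hs2, mul_comm 2 s, pow_mul]
    ring
  rw [this]

theorem inv_id (x y : F) :
    x * y * (N s x y) ^ s + y ^ (s + 2) + x ^ s * (N s x y) ^ 2 = (N s x y) ^ s * N s x y := by
  rw [N_pow h2 hs2 hadd]
  simp only [N]
  linear_combination ((x ^ s) ^ 2 * x ^ 3 * y + x ^ s * y ^ s * x * y) * h2

theorem inv_N {x y u : F} (hu : u * N s x y = 1) : N s (y * u) (x * u) = u := by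
  have B := inv_id h2 hs2 hadd x y
  have hs : u ^ s * (N s x y) ^ s = 1 := by rw [← mul_pow, hu, one_pow]
  generalize N s x y = n at *
  simp only [N]
  linear_combination (u ^ s * u ^ 2) * B + (u * n * u - x * y * u ^ 2) * hs
    + (u - x ^ s * u ^ s * (n * u + 1)) * hu

theorem scale_eq_one {x y l : F} (hxy : ¬ (x = 0 ∧ y = 0)) (hl : l ≠ 0)
    (h : N s (l * x) (l * y) = l * N s x y) : l = 1 := by
  have hn : N s x y ≠ 0 := fun h0 => hxy (aniso h2 hs2 hadd h0)
  have h1 := inv_N h2 hs2 hadd (x := x) (y := y) (u := (N s x y)⁻¹) (inv_mul_cancel₀ hn)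
  have h2' := inv_N h2 hs2 hadd (x := l * x) (y := l * y) (u := l⁻¹ * (N s x y)⁻¹)
    (by rw [h]; field_simp)
  have e1 : l * y * (l⁻¹ * (N s x y)⁻¹) = y * (N s x y)⁻¹ := by field_simp
  have e2 : l * x * (l⁻¹ * (N s x y)⁻¹) = x * (N s x y)⁻¹ := by field_simp
  rw [e1, e2, h1] at h2'
  have h3 : (N s x y)⁻¹ ≠ 0 := inv_ne_zero hn
  have h4 : l⁻¹ = 1 := by
    have : (N s x y)⁻¹ * (1 - l⁻¹) = 0 := by linear_combination h2'
    rcases mul_eq_zero.1 this with h | h
    · exact absurd h h3
    · linear_combination -h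
  rw [inv_eq_one] at h4
  exact h4

theorem trans_N (x y a b : F) :
    N s (x + a) (y + b) = N s x y + N s a (b + x ^ s * a) + x * b + a * y := by
  simp only [N]
  rw [hadd, hadd, mul_pow, hs2, pow_add, pow_add, pow_add, hadd]
  linear_combination (x * a * (x ^ s + a ^ s)) * h2

omit hs2 hadd in
theorem two_indep {b c x2 y2 x3 y3 : F} (e3 : b + c = 0) (e2 : b * x2 + c * x3 = 0)
    (e1 : b * y2 + c * y3 = 0) (hne : ¬ (x2 = x3 ∧ y2 = y3)) : b = 0 ∧ c = 0 := by
  have hc : c = -b := by linear_combination e3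
  subst hc
  by_cases hb : b = 0
  · subst hb
    simp
  · exfalso
    apply hne
    constructor
    · have : b * (x2 - x3) = 0 := by linear_combination e2
      rcases mul_eq_zero.1 this with h | h
      · exact absurd h hb
      · linear_combination h
    · have : b * (y2 - y3) = 0 := by linear_combination e1
      rcases mul_eq_zero.1 this with h | h
      · exact absurd h hb
      · linear_combination h

theorem three_indep {a b c x1 y1 x2 y2 x3 y3 : F}
    (e3 : a + b + c = 0) (e2 : a * x1 + b * x2 + c * x3 = 0)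
    (e1 : a * y1 + b * y2 + c * y3 = 0)
    (e0 : a * N s x1 y1 + b * N s x2 y2 + c * N s x3 y3 = 0)
    (h12 : ¬ (x1 = x2 ∧ y1 = y2)) (h13 : ¬ (x1 = x3 ∧ y1 = y3)) (h23 : ¬ (x2 = x3 ∧ y2 = y3)) :
    a = 0 ∧ b = 0 ∧ c = 0 := by
  by_cases ha : a = 0
  · subst ha
    simp only [zero_mul, zero_add] at e3 e2 e1
    obtain ⟨hb, hc⟩ := two_indep h2 e3 e2 e1 h23
    exact ⟨rfl, hb, hc⟩
  by_cases hb : b = 0
  · subst hb
    simp only [zero_mul, add_zero] at e3 e2 e1
    obtain ⟨ha', hc⟩ := two_indep h2 e3 e2 e1 h13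
    exact ⟨ha', rfl, hc⟩
  by_cases hc : c = 0
  · subst hc
    simp only [zero_mul, add_zero] at e3 e2 e1
    obtain ⟨ha', hb'⟩ := two_indep h2 e3 e2 e1 h12
    exact ⟨ha', hb', rfl⟩
  exfalso
  have hcab : c = a + b := by linear_combination e3 - (a + b) * h2
  subst hcab
  have hx1 : x1 = x3 + (x1 + x3) := by linear_combination -x3 * h2
  have hy1 : y1 = y3 + (y1 + y3) := by linear_combination -y3 * h2
  have hx2 : x2 = x3 + (x2 + x3) := by linear_combination -x3 * h2
  have hy2 : y2 = y3 + (y2 + y3) := by linear_combination -y3 * h2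
  have T1 := trans_N h2 hs2 hadd x3 y3 (x1 + x3) (y1 + y3)
  have T2 := trans_N h2 hs2 hadd x3 y3 (x2 + x3) (y2 + y3)
  rw [← hx1, ← hy1] at T1
  rw [← hx2, ← hy2] at T2
  set α1 := x1 + x3 with hα1
  set α2 := x2 + x3 with hα2
  set γ1 := (y1 + y3) + x3 ^ s * α1 with hγ1
  set γ2 := (y2 + y3) + x3 ^ s * α2 with hγ2
  have eα : a * α1 + b * α2 = 0 := by rw [hα1, hα2]; linear_combination e2
  have eβ : a * (y1 + y3) + b * (y2 + y3) = 0 := by linear_combination e1
  have eγ : a * γ1 + b * γ2 = 0 := by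
    rw [hγ1, hγ2]
    linear_combination eβ + x3 ^ s * eα
  have eN : a * N s α1 γ1 + b * N s α2 γ2 = 0 := by
    linear_combination e0 - a * T1 - b * T2 - x3 * eβ - y3 * eα - (a + b) * N s x3 y3 * h2
  -- scaling
  have hα2' : α2 = (a / b) * α1 := by
    field_simp
    linear_combination eα - a * α1 * h2
  have hγ2' : γ2 = (a / b) * γ1 := by
    field_simp
    linear_combination eγ - a * γ1 * h2
  have hN' : N s ((a / b) * α1) ((a / b) * γ1) = (a / b) * N s α1 γ1 := by
    rw [← hα2', ← hγ2']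
    field_simp
    linear_combination eN - a * N s α1 γ1 * h2
  have hne1 : ¬ (α1 = 0 ∧ γ1 = 0) := by
    rintro ⟨h1, h1'⟩
    apply h13
    have hx : x1 = x3 := by linear_combination h1 - x3 * h2
    refine ⟨hx, ?_⟩
    rw [hγ1, h1, mul_zero, add_zero] at h1'
    linear_combination h1' - y3 * h2
  have hl := scale_eq_one h2 hs2 hadd hne1 (div_ne_zero ha hb) hN'
  rw [hl, one_mul] at hα2' hγ2'
  apply h12
  have hx : x1 = x2 := by
    have : x2 + x3 = x1 + x3 := hα2'
    linear_combination -this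
  refine ⟨hx, ?_⟩
  rw [hγ1, hγ2, hα2'] at hγ2'
  linear_combination -hγ2'

end alg

section field

variable {F : Type*} [Field F] [Fintype F] {m : ℕ}

theorem two_eq_zero (hF : Fintype.card F = 2 ^ (2 * m + 1)) : (2 : F) = 0 := by
  have h := Nat.cast_card_eq_zero F
  rw [hF] at h
  push_cast at h
  exact pow_eq_zero_iff (by omega) |>.1 h

theorem add_pow_two_pow (h2 : (2 : F) = 0) (k : ℕ) (x y : F) :
    (x + y) ^ (2 ^ k) = x ^ (2 ^ k) + y ^ (2 ^ k) := by
  induction k with
  | zero => simp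
  | succ k ih =>
    rw [pow_succ, pow_mul, ih, pow_mul, pow_mul]
    linear_combination (x ^ 2 ^ k * y ^ 2 ^ k) * h2

theorem pow_sigma_sq (hF : Fintype.card F = 2 ^ (2 * m + 1)) (x : F) :
    (x ^ (2 ^ (m + 1))) ^ (2 ^ (m + 1)) = x ^ 2 := by
  rw [← pow_mul, ← pow_add]
  have : m + 1 + (m + 1) = (2 * m + 1) + 1 := by ring
  rw [this, pow_succ, pow_mul, ← hF, FiniteField.pow_card]

theorem aff_ne {x1 y1 x2 y2 : F}
    (h : (![x1 * y1 + x1 ^ (2 ^ (m + 1) + 2) + y1 ^ (2 ^ (m + 1)), y1, x1, 1] : Fin 4 → F)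
      ≠ ![x2 * y2 + x2 ^ (2 ^ (m + 1) + 2) + y2 ^ (2 ^ (m + 1)), y2, x2, 1]) :
    ¬ (x1 = x2 ∧ y1 = y2) := by
  rintro ⟨rfl, rfl⟩
  exact h rfl

theorem independent (hF : Fintype.card F = 2 ^ (2 * m + 1))
    (p : Fin 3 ↪ Cfsg.suzukiOvoid F m) :
    Projectivization.Independent (fun i => (p i : Projectivization F (Fin 4 → F))) := by
  have h2 := two_eq_zero hF
  have hs2 := pow_sigma_sq hF
  have hadd := add_pow_two_pow h2 (m + 1)
  choose v hv hp hform using fun i => (p i).2
  have hfun : (fun i => (p i : Projectivization F (Fin 4 → F)))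
      = fun i => Projectivization.mk F (v i) (hv i) := funext hp
  rw [hfun]
  apply Projectivization.Independent.mk
  have hdist : ∀ i j, i ≠ j → v i ≠ v j := by
    intro i j hij h
    apply hij
    apply p.injective
    apply Subtype.ext
    rw [hp i, hp j]
    exact (Projectivization.mk_eq_mk_iff F _ _ _ _).2 ⟨1, by rw [one_smul, h]⟩
  rw [Fintype.linearIndependent_iff]
  intro g hg
  rw [Fin.sum_univ_three] at hg
  have c0 := congrFun hg 0
  have c1 := congrFun hg 1
  have c2 := congrFun hg 2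
  have c3 := congrFun hg 3
  simp only [Pi.add_apply, Pi.smul_apply, smul_eq_mul, Pi.zero_apply] at c0 c1 c2 c3
  have d01 := hdist 0 1 (by decide)
  have d02 := hdist 0 2 (by decide)
  have d12 := hdist 1 2 (by decide)
  have hfin : g 0 = 0 ∧ g 1 = 0 ∧ g 2 = 0 := by
    rcases hform 0 with h0 | ⟨x0, y0, h0⟩ <;> rcases hform 1 with h1 | ⟨x1, y1, h1⟩ <;>
      rcases hform 2 with h2' | ⟨x2, y2, h2'⟩
    · exact absurd (h0.trans h1.symm) d01
    · exact absurd (h0.trans h1.symm) d01
    · exact absurd (h0.trans h2'.symm) d02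
    · rw [h1, h2'] at d12
      rw [h0, h1, h2'] at c0 c1 c2 c3
      simp at c0 c1 c2 c3
      obtain ⟨e1, e2⟩ := two_indep h2 (b := g 1) (c := g 2) (x2 := x1) (y2 := y1) (x3 := x2)
        (y3 := y2) (by linear_combination c3) (by linear_combination c2)
        (by linear_combination c1) (aff_ne d12)
      rw [e1, e2] at c0
      simp at c0
      exact ⟨c0, e1, e2⟩
    · exact absurd (h1.trans h2'.symm) d12
    · rw [h0, h2'] at d02
      rw [h0, h1, h2'] at c0 c1 c2 c3
      simp at c0 c1 c2 c3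
      obtain ⟨e1, e2⟩ := two_indep h2 (b := g 0) (c := g 2) (x2 := x0) (y2 := y0) (x3 := x2)
        (y3 := y2) (by linear_combination c3) (by linear_combination c2)
        (by linear_combination c1) (aff_ne d02)
      rw [e1, e2] at c0
      simp at c0
      exact ⟨e1, c0, e2⟩
    · rw [h0, h1] at d01
      rw [h0, h1, h2'] at c0 c1 c2 c3
      simp at c0 c1 c2 c3
      obtain ⟨e1, e2⟩ := two_indep h2 (b := g 0) (c := g 1) (x2 := x0) (y2 := y0) (x3 := x1)
        (y3 := y1) (by linear_combination c3) (by linear_combination c2)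
        (by linear_combination c1) (aff_ne d01)
      rw [e1, e2] at c0
      simp at c0
      exact ⟨e1, e2, c0⟩
    · rw [h0, h1] at d01
      rw [h0, h2'] at d02
      rw [h1, h2'] at d12
      rw [h0, h1, h2'] at c0 c1 c2 c3
      simp at c0 c1 c2 c3
      exact three_indep h2 hs2 hadd (a := g 0) (b := g 1) (c := g 2) (x1 := x0) (y1 := y0)
        (x2 := x1) (y2 := y1) (x3 := x2) (y3 := y2)
        (by linear_combination c3) (by linear_combination c2)
        (by linear_combination c1) (by simp only [N]; linear_combination c0)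
        (aff_ne d01) (aff_ne d02) (aff_ne d12)
  intro i
  fin_cases i
  · exact hfin.1
  · exact hfin.2.1
  · exact hfin.2.2

end field

end Cfsg.Agent.Lib.helper2.Ovoid
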