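import Mathlib
import Cfsg.Agent.Lib.helper2.NilCover

set_option autoImplicit false

/-!
Groups between `PSL_n(F)` and `PGL_n(F)` have no nilpotent minimal cover: general tools and the
case `n ≥ 3`.
-/

namespace Cfsg.Agent.Lib.helper2.NilCover

open Matrix

/-- Engel-type induction in a nilpotent subgroup. -/
theorem engel {Γ : Type*} [Group Γ] (A : Subgroup Γ) (hA : Group.IsNilpotent ↥A) {x : Γ}
    (hx : x ∈ A) (S : Γ → Prop) (h1 : S 1)
    (hstep : ∀ c ∈ A, S (c * x * c⁻¹ * x⁻¹) → S c) : ∀ a ∈ A, S a := by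
  obtain ⟨K, hK⟩ := (Subgroup.isNilpotent_iff_lowerCentralSeries A).mp hA
  have hle : ∀ k, A.lowerCentralSeries k ≤ A := by
    intro k
    induction k with
    | zero => rw [Subgroup.lowerCentralSeries_zero]
    | succ k ih =>
      rw [Subgroup.lowerCentralSeries_succ, Subgroup.commutator_le]
      intro g₁ h₁ g₂ h₂
      rw [commutatorElement_def]
      exact A.mul_mem (A.mul_mem (A.mul_mem (ih h₁) h₂) (A.inv_mem (ih h₁))) (A.inv_mem h₂)
  have key : ∀ m k : ℕ, k + m = K → ∀ c ∈ A.lowerCentralSeries k, S c := by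
    intro m
    induction m with
    | zero =>
      intro k hk c hc
      have hk' : k = K := by omega
      rw [hk', hK, Subgroup.mem_bot] at hc
      rw [hc]; exact h1
    | succ m ih =>
      intro k hk c hc
      apply hstep c (hle k hc)
      have hmem : c * x * c⁻¹ * x⁻¹ ∈ A.lowerCentralSeries (k + 1) := by
        rw [Subgroup.lowerCentralSeries_succ]
        have := Subgroup.commutator_mem_commutator hc hx
        rwa [commutatorElement_def] at this
      exact ih (k + 1) (by omega) _ hmem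
  intro a ha
  exact key K 0 (by omega) a (by rw [Subgroup.lowerCentralSeries_zero]; exact ha)

section mat

variable {F : Type*} [Field F] {n : ℕ}

/-- The shift matrix (a single nilpotent Jordan block). -/
def shift (n : ℕ) (F : Type*) [Field F] : Matrix (Fin n) (Fin n) F :=
  Matrix.of fun i j => if (i : ℕ) + 1 = (j : ℕ) then 1 else 0

theorem shift_apply (i j : Fin n) :
    shift n F i j = if (i : ℕ) + 1 = (j : ℕ) then 1 else 0 := rfl

theorem shift_bt : (shift n F).BlockTriangular (fun i : Fin n => (i : ℕ)) := by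
  intro i j hij
  have h' : (j : ℕ) < (i : ℕ) := hij
  rw [shift_apply, if_neg]
  omega

theorem shift_diag (i : Fin n) : shift n F i i = 0 := by
  rw [shift_apply, if_neg]; omega

/-- If `b * shift = N' * b` with `N'` strictly upper triangular then `b` is upper triangular. -/
theorem upper_of_shift (b N' : Matrix (Fin n) (Fin n) F)
    (hN' : ∀ i k : Fin n, k ≤ i → N' i k = 0) (h : b * shift n F = N' * b) :
    ∀ i j : Fin n, j < i → b i j = 0 := by
  have key : ∀ m : ℕ, ∀ j : Fin n, (j : ℕ) + m + 1 = n → ∀ i : Fin n, j < i → b i j = 0 := by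
    intro m
    induction m with
    | zero =>
      intro j hj i hji
      have := i.2
      have h' : (j : ℕ) < (i : ℕ) := hji
      omega
    | succ m ih =>
      intro j hj i hji
      have hj1 : (j : ℕ) + 1 < n := by omega
      have e1 : (b * shift n F) i ⟨(j : ℕ) + 1, hj1⟩ = b i j := by
        rw [Matrix.mul_apply, Finset.sum_eq_single j]
        · rw [shift_apply, if_pos rfl, mul_one]
        · intro k _ hk
          rw [shift_apply, if_neg, mul_zero]
          intro hh
          apply hk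
          apply Fin.ext
          simp only at hh
          omega
        · intro hh; exact absurd (Finset.mem_univ j) hh
      rw [← e1, h, Matrix.mul_apply]
      apply Finset.sum_eq_zero
      intro k _
      by_cases hki : k ≤ i
      · rw [hN' i k hki, zero_mul]
      · have hik : i < k := not_le.mp hki
        have : b k ⟨(j : ℕ) + 1, hj1⟩ = 0 := by
          apply ih ⟨(j : ℕ) + 1, hj1⟩ (by simp only; omega) k
          rw [Fin.lt_def] at hik hji ⊢
          simp only
          omega
        rw [this, mul_zero]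
  intro i j hji
  have hi := i.2
  have hlt : (j : ℕ) < (i : ℕ) := hji
  exact key (n - 1 - (j : ℕ)) j (by omega) i hji

/-- The regular unipotent matrix. -/
def Xm (n : ℕ) (F : Type*) [Field F] : Matrix (Fin n) (Fin n) F := 1 + shift n F

theorem Xm_bt : (Xm n F).BlockTriangular (fun i : Fin n => (i : ℕ)) :=
  Matrix.blockTriangular_one.add shift_bt

theorem Xm_det : (Xm n F).det = 1 := by
  have hU : (Xm n F).IsUpperTriangular := fun i j h => Xm_bt (by exact h)
  rw [Matrix.det_of_isUpperTriangular hU]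
  apply Finset.prod_eq_one
  intro i _
  rw [Xm, Matrix.add_apply, shift_diag, Matrix.one_apply_eq, add_zero]

/-- The regular unipotent element of `SL_n`. -/
def xS (n : ℕ) (F : Type*) [Field F] : Matrix.SpecialLinearGroup (Fin n) F := ⟨Xm n F, Xm_det⟩

/-- Conjugating the regular unipotent into the Borel subgroup forces the conjugator into it. -/
theorem step_matrix (g : GL (Fin n) F)
    (hy : (g.val * Xm n F * g⁻¹.val).BlockTriangular (fun i : Fin n => (i : ℕ))) :
    g.val.BlockTriangular (fun i : Fin n => (i : ℕ)) := by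
  have hgi : g.val * g⁻¹.val = 1 := Units.mul_inv g
  have hig : g⁻¹.val * g.val = 1 := Units.inv_mul g
  have hN : g.val * shift n F * g⁻¹.val = g.val * Xm n F * g⁻¹.val - 1 := by
    rw [Xm, Matrix.mul_add, Matrix.add_mul, Matrix.mul_one, hgi]; abel
  have hbt : (g.val * shift n F * g⁻¹.val).BlockTriangular (fun i : Fin n => (i : ℕ)) := by
    rw [hN]; exact hy.sub Matrix.blockTriangular_one
  have hU : (g.val * shift n F * g⁻¹.val).IsUpperTriangular := fun i j h => hbt (by exact h)
  have hU0 : (shift n F).IsUpperTriangular := fun i j h => shift_bt (by exact h)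
  have hcp : (g.val * shift n F * g⁻¹.val).charpoly = (shift n F).charpoly := by
    rw [Matrix.coe_units_inv]; exact Matrix.charpoly_units_conj g (shift n F)
  rw [Matrix.charpoly_of_isUpperTriangular _ hU, Matrix.charpoly_of_isUpperTriangular _ hU0] at hcp
  have hdiag : ∀ j : Fin n, (g.val * shift n F * g⁻¹.val) j j = 0 := by
    intro j
    have h1 := congrArg (Polynomial.eval ((g.val * shift n F * g⁻¹.val) j j)) hcp
    rw [Polynomial.eval_prod, Polynomial.eval_prod] at h1
    have h2 : ∏ i : Fin n, Polynomial.eval ((g.val * shift n F * g⁻¹.val) j j)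
        (Polynomial.X - Polynomial.C ((g.val * shift n F * g⁻¹.val) i i)) = 0 := by
      apply Finset.prod_eq_zero (Finset.mem_univ j)
      simp
    rw [h2] at h1
    have h3 : ∀ i : Fin n, Polynomial.eval ((g.val * shift n F * g⁻¹.val) j j)
        (Polynomial.X - Polynomial.C (shift n F i i)) = (g.val * shift n F * g⁻¹.val) j j := by
      intro i; rw [shift_diag]; simp
    rw [Finset.prod_congr rfl (fun i _ => h3 i), Finset.prod_const] at h1
    have hn0 : (Finset.univ : Finset (Fin n)).card ≠ 0 := by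
      rw [Finset.card_univ, Fintype.card_fin]
      rintro rfl
      exact j.elim0
    exact (pow_eq_zero_iff hn0).mp h1.symm
  have hstrict : ∀ i k : Fin n, k ≤ i → (g.val * shift n F * g⁻¹.val) i k = 0 := by
    intro i k hki
    rcases lt_or_eq_of_le hki with h | h
    · exact hbt (by exact h)
    · rw [h]; exact hdiag i
  have hrel : g.val * shift n F = (g.val * shift n F * g⁻¹.val) * g.val := by
    rw [Matrix.mul_assoc, hig, Matrix.mul_one]
  intro i j hji
  exact upper_of_shift g.val _ hstrict hrel i j hji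

end mat

section quot

variable {F : Type*} [Field F] {n : ℕ}

/-- The projective general linear group as a quotient. -/
abbrev QG (n : ℕ) (F : Type*) [Field F] := GL (Fin n) F ⧸ Subgroup.center (GL (Fin n) F)

/-- All lifts of a class in `PGL_n` are block triangular. -/
def BT (b : Fin n → ℕ) (c : GL (Fin n) F ⧸ Subgroup.center (GL (Fin n) F)) : Prop :=
  ∀ g : GL (Fin n) F, QuotientGroup.mk' (Subgroup.center (GL (Fin n) F)) g = c →
    (g.val).BlockTriangular b

theorem bt_of_lift (b : Fin n → ℕ) {g : GL (Fin n) F} (hg : (g.val).BlockTriangular b) :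
    BT b (QuotientGroup.mk' (Subgroup.center (GL (Fin n) F)) g) := by
  intro g' hg'
  have hz : g⁻¹ * g' ∈ Subgroup.center (GL (Fin n) F) :=
    (QuotientGroup.eq (s := Subgroup.center (GL (Fin n) F))).mp hg'.symm
  obtain ⟨c, hc⟩ := Matrix.GeneralLinearGroup.mem_center_iff_val_mem_range_scalar.mp hz
  have h1 : g'.val = g.val * Matrix.scalar (Fin n) c := by
    rw [hc, Units.val_mul, ← Matrix.mul_assoc, Units.mul_inv, Matrix.one_mul]
  rw [h1, Matrix.scalar_apply]
  exact hg.mul (Matrix.blockTriangular_diagonal _)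

/-- The classes of block triangular matrices form a subgroup of `PGL_n`. -/
def PB (b : Fin n → ℕ) : Subgroup (GL (Fin n) F ⧸ Subgroup.center (GL (Fin n) F)) where
  carrier := {c | BT b c}
  one_mem' := by
    have h := bt_of_lift b (g := (1 : GL (Fin n) F))
      (by rw [Units.val_one]; exact Matrix.blockTriangular_one)
    rw [map_one] at h
    exact h
  mul_mem' := by
    intro c d hc hd
    obtain ⟨g, rfl⟩ := QuotientGroup.mk'_surjective _ c
    obtain ⟨g', rfl⟩ := QuotientGroup.mk'_surjective _ d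
    change BT b _
    rw [← map_mul]
    apply bt_of_lift b
    rw [Units.val_mul]
    exact (hc g rfl).mul (hd g' rfl)
  inv_mem' := by
    intro c hc
    obtain ⟨g, rfl⟩ := QuotientGroup.mk'_surjective _ c
    change BT b _
    rw [← map_inv]
    apply bt_of_lift b
    rw [Matrix.coe_units_inv]
    let _ := g.invertible
    exact Matrix.blockTriangular_inv_of_blockTriangular (hc g rfl)

theorem mem_PB (b : Fin n → ℕ) (c : GL (Fin n) F ⧸ Subgroup.center (GL (Fin n) F)) :
    c ∈ PB b ↔ BT b c := Iff.rfl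

/-- The class of the regular unipotent element. -/
noncomputable def xQ (n : ℕ) (F : Type*) [Field F] :
    GL (Fin n) F ⧸ Subgroup.center (GL (Fin n) F) :=
  QuotientGroup.mk' _ (Matrix.SpecialLinearGroup.toGL (xS n F))

theorem step_Q (c : GL (Fin n) F ⧸ Subgroup.center (GL (Fin n) F))
    (h : BT (fun i : Fin n => (i : ℕ)) (c * xQ n F * c⁻¹ * (xQ n F)⁻¹)) :
    BT (fun i : Fin n => (i : ℕ)) c := by
  obtain ⟨g, rfl⟩ := QuotientGroup.mk'_surjective _ c
  have h1 := h (g * Matrix.SpecialLinearGroup.toGL (xS n F) * g⁻¹ *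
    (Matrix.SpecialLinearGroup.toGL (xS n F))⁻¹) (by
      rw [map_mul, map_mul, map_mul, map_inv, map_inv]; rfl)
  have h2 : (g.val * Xm n F * g⁻¹.val) =
      (g * Matrix.SpecialLinearGroup.toGL (xS n F) * g⁻¹ *
        (Matrix.SpecialLinearGroup.toGL (xS n F))⁻¹).val * Xm n F := by
    have e : (Matrix.SpecialLinearGroup.toGL (xS n F)).val = Xm n F := rfl
    rw [Units.val_mul, Units.val_mul, Units.val_mul, e, Matrix.mul_assoc _ _ (Xm n F)]
    have e2 : (Matrix.SpecialLinearGroup.toGL (xS n F))⁻¹.val * Xm n F = 1 := by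
      rw [← e]; exact Units.inv_mul _
    rw [e2, Matrix.mul_one]
  apply bt_of_lift
  apply step_matrix
  rw [h2]
  exact h1.mul Xm_bt

/-- A nilpotent subgroup containing a conjugate of the regular unipotent class lies in the
corresponding conjugate of the Borel subgroup. -/
theorem memberUT (G : Subgroup (GL (Fin n) F ⧸ Subgroup.center (GL (Fin n) F)))
    (A : Subgroup ↥G) (hA : Group.IsNilpotent ↥A) (γ xg : ↥G) (hxg : (xg : QG n F) = xQ n F)
    (hmem : γ * xg * γ⁻¹ ∈ A) :
    ∀ a ∈ A, BT (fun i : Fin n => (i : ℕ)) ((γ⁻¹ * a * γ : ↥G) : QG n F) := by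
  refine engel A hA hmem (fun c => BT (fun i : Fin n => (i : ℕ)) ((γ⁻¹ * c * γ : ↥G) : QG n F))
    ?_ ?_
  · have : (γ⁻¹ * 1 * γ : ↥G) = 1 := by group
    rw [this]
    exact (PB (fun i : Fin n => (i : ℕ))).one_mem
  · intro c _ h
    apply step_Q
    have e : ((γ⁻¹ * c * γ : ↥G) : QG n F) * xQ n F * ((γ⁻¹ * c * γ : ↥G) : QG n F)⁻¹ * (xQ n F)⁻¹
        = ((γ⁻¹ * (c * (γ * xg * γ⁻¹) * c⁻¹ * (γ * xg * γ⁻¹)⁻¹) * γ : ↥G) : QG n F) := by
      rw [← hxg]
      simp only [Subgroup.coe_mul, Subgroup.coe_inv]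
      group
    rw [e]
    exact h

end quot

section ge3

variable {F : Type*} [Field F] {n : ℕ}

/-- The block function of the minimal parabolic subgroup merging the first two coordinates. -/
def pb (n : ℕ) : Fin n → ℕ := fun i => (i : ℕ) - 1

theorem bt_pb_of_bt {c : QG n F} (h : BT (fun i : Fin n => (i : ℕ)) c) : BT (pb n) c := by
  intro g hg i j hij
  apply h g hg
  simp only [pb] at hij
  change (j : ℕ) < (i : ℕ)
  omega

theorem Xm_apply (i j : Fin n) :
    Xm n F i j = (if i = j then 1 else 0) + (if (i : ℕ) + 1 = (j : ℕ) then 1 else 0) := by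
  rw [Xm, Matrix.add_apply, Matrix.one_apply, shift_apply]

/-- The `(1, 0)` entry of the conjugate of the regular unipotent by a lower transvection. -/
theorem conj_entry (i0 i1 : Fin n) (h0 : (i0 : ℕ) = 0) (h1 : (i1 : ℕ) = 1) :
    (Matrix.transvection i1 i0 (1 : F) * Xm n F * Matrix.transvection i1 i0 (-1 : F)) i1 i0
      = -1 := by
  have h10 : i1 ≠ i0 := fun e => by rw [e] at h1; omega
  rw [Matrix.mul_transvection_apply_same, Matrix.transvection_mul_apply_same,
    Matrix.transvection_mul_apply_same, Xm_apply, Xm_apply, Xm_apply, Xm_apply]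
  rw [if_neg h10, if_neg (by omega), if_pos rfl, if_neg (by omega), if_pos rfl,
    if_neg (by omega), if_neg (Ne.symm h10), if_pos (by omega)]
  ring

theorem no_cover_ge3 (hn : 3 ≤ n) (G : Subgroup (QG n F))
    (hG : ((Matrix.SpecialLinearGroup.toGL :
      Matrix.SpecialLinearGroup (Fin n) F →* GL (Fin n) F).range).map
      (QuotientGroup.mk' (Subgroup.center (GL (Fin n) F))) ≤ G)
    (𝓐 : Finset (Subgroup ↥G)) : ¬ Cov 𝓐 := by
  intro hcov
  obtain ⟨i0, hi0⟩ : ∃ i : Fin n, (i : ℕ) = 0 := ⟨⟨0, by omega⟩, rfl⟩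
  obtain ⟨i1, hi1⟩ : ∃ i : Fin n, (i : ℕ) = 1 := ⟨⟨1, by omega⟩, rfl⟩
  obtain ⟨i2, hi2⟩ : ∃ i : Fin n, (i : ℕ) = 2 := ⟨⟨2, by omega⟩, rfl⟩
  have h10 : i1 ≠ i0 := fun e => by rw [e] at hi1; omega
  have h21 : i2 ≠ i1 := fun e => by rw [e] at hi2; omega
  obtain ⟨g0, hg0⟩ : ∃ g0 : Matrix.SpecialLinearGroup (Fin n) F,
      (g0 : Matrix (Fin n) (Fin n) F) = Matrix.transvection i1 i0 1 :=
    ⟨⟨Matrix.transvection i1 i0 1, Matrix.det_transvection_of_ne _ _ h10 1⟩, rfl⟩
  obtain ⟨g0', hg0'⟩ : ∃ g0 : Matrix.SpecialLinearGroup (Fin n) F,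
      (g0 : Matrix (Fin n) (Fin n) F) = Matrix.transvection i1 i0 (-1) :=
    ⟨⟨Matrix.transvection i1 i0 (-1), Matrix.det_transvection_of_ne _ _ h10 (-1)⟩, rfl⟩
  obtain ⟨t0, ht0⟩ : ∃ t0 : Matrix.SpecialLinearGroup (Fin n) F,
      (t0 : Matrix (Fin n) (Fin n) F) = Matrix.transvection i2 i1 1 :=
    ⟨⟨Matrix.transvection i2 i1 1, Matrix.det_transvection_of_ne _ _ h21 1⟩, rfl⟩
  have hinv : (Matrix.SpecialLinearGroup.toGL g0)⁻¹ = Matrix.SpecialLinearGroup.toGL g0' := by
    apply inv_eq_of_mul_eq_one_right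
    apply Units.ext
    change (g0 : Matrix (Fin n) (Fin n) F) * (g0' : Matrix (Fin n) (Fin n) F) = 1
    rw [hg0, hg0', Matrix.transvection_mul_transvection_same _ _ h10, add_neg_cancel,
      Matrix.transvection_zero]
  have hmemG : ∀ s : Matrix.SpecialLinearGroup (Fin n) F,
      QuotientGroup.mk' (Subgroup.center (GL (Fin n) F)) (Matrix.SpecialLinearGroup.toGL s) ∈ G :=
    fun s => hG ⟨_, ⟨s, rfl⟩, rfl⟩
  obtain ⟨xg, hxg⟩ : ∃ xg : ↥G, (xg : QG n F) = xQ n F := ⟨⟨_, hmemG (xS n F)⟩, rfl⟩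
  obtain ⟨γ, hγ⟩ : ∃ γ : ↥G, (γ : QG n F) = QuotientGroup.mk' _
      (Matrix.SpecialLinearGroup.toGL g0) := ⟨⟨_, hmemG g0⟩, rfl⟩
  obtain ⟨τ, hτ⟩ : ∃ τ : ↥G, (τ : QG n F) = QuotientGroup.mk' _
      (Matrix.SpecialLinearGroup.toGL t0) := ⟨⟨_, hmemG t0⟩, rfl⟩
  obtain ⟨A, hA, hxA⟩ := hcov.cover xg
  obtain ⟨A', hA', hxA'⟩ := hcov.cover (γ * xg * γ⁻¹)
  have hH : (PB (pb n)).subgroupOf G ≠ ⊤ := by
    intro e
    have hm : τ ∈ (PB (pb n) : Subgroup (QG n F)).subgroupOf G := by rw [e]; trivial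
    rw [Subgroup.mem_subgroupOf, mem_PB, hτ] at hm
    have h1 := hm (Matrix.SpecialLinearGroup.toGL t0) rfl
    have h2 : (Matrix.transvection i2 i1 (1 : F)) i2 i1 = 0 := by
      rw [← ht0]
      exact h1 (by simp only [pb]; omega)
    rw [Matrix.transvection, Matrix.add_apply, Matrix.one_apply_ne h21,
      Matrix.single_apply_same, zero_add] at h2
    exact one_ne_zero h2
  have hone : ∀ a : ↥G, (1⁻¹ * a * 1 : ↥G) = a := fun a => by group
  have hx1 : (1 : ↥G) * xg * 1⁻¹ ∈ A := by
    have : (1 : ↥G) * xg * 1⁻¹ = xg := by group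
    rw [this]; exact hxA
  have hAH : A ≤ (PB (pb n) : Subgroup (QG n F)).subgroupOf G := by
    intro a ha
    rw [Subgroup.mem_subgroupOf, mem_PB]
    have := memberUT G A (hcov.nil A hA) 1 xg hxg hx1 a ha
    rw [hone] at this
    exact bt_pb_of_bt this
  have hγP : (γ : QG n F) ∈ PB (pb n) := by
    rw [mem_PB, hγ]
    apply bt_of_lift
    change (g0 : Matrix (Fin n) (Fin n) F).BlockTriangular (pb n)
    rw [hg0]
    apply Matrix.blockTriangular_transvection
    simp only [pb]; omega
  have hA'H : A' ≤ (PB (pb n) : Subgroup (QG n F)).subgroupOf G := by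
    intro a ha
    rw [Subgroup.mem_subgroupOf]
    have h1 := memberUT G A' (hcov.nil A' hA') γ xg hxg hxA' a ha
    have h2 : ((γ⁻¹ * a * γ : ↥G) : QG n F) ∈ PB (pb n) := bt_pb_of_bt h1
    have h3 : (a : QG n F) = (γ : QG n F) * ((γ⁻¹ * a * γ : ↥G) : QG n F) * (γ : QG n F)⁻¹ := by
      simp only [Subgroup.coe_mul, Subgroup.coe_inv]; group
    rw [h3]
    exact (PB (pb n)).mul_mem ((PB (pb n)).mul_mem hγP h2) ((PB (pb n)).inv_mem hγP)
  have hAA' : A = A' := uniq hcov hH hA hA' hAH hA'H
  have h1 := memberUT G A (hcov.nil A hA) 1 xg hxg hx1 (γ * xg * γ⁻¹) (hAA' ▸ hxA')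
  rw [hone] at h1
  have h2 := h1 (Matrix.SpecialLinearGroup.toGL g0 * Matrix.SpecialLinearGroup.toGL (xS n F)
    * (Matrix.SpecialLinearGroup.toGL g0)⁻¹) (by
      rw [map_mul, map_mul, map_inv, Subgroup.coe_mul, Subgroup.coe_mul, Subgroup.coe_inv,
        hγ, hxg]; rfl)
  have h3 : (Matrix.SpecialLinearGroup.toGL g0 * Matrix.SpecialLinearGroup.toGL (xS n F)
      * (Matrix.SpecialLinearGroup.toGL g0)⁻¹).val i1 i0 = 0 :=
    h2 (by change (i0 : ℕ) < (i1 : ℕ); omega)
  rw [hinv] at h3
  have h4 : (Matrix.SpecialLinearGroup.toGL g0 * Matrix.SpecialLinearGroup.toGL (xS n F)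
      * Matrix.SpecialLinearGroup.toGL g0').val
      = Matrix.transvection i1 i0 (1 : F) * Xm n F * Matrix.transvection i1 i0 (-1 : F) := by
    rw [← hg0, ← hg0']; rfl
  rw [h4, conj_entry i0 i1 hi0 hi1] at h3
  exact one_ne_zero (neg_eq_zero.mp h3)

end ge3

end Cfsg.Agent.Lib.helper2.NilCover
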