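import Mathlib
import Cfsg.Agent.Lib.helper2.PGLCover1

set_option autoImplicit false

/-!
Groups between `PSL_2(F)` and `PGL_2(F)`, `|F| ≥ 4`, have no nilpotent minimal cover.
-/

namespace Cfsg.Agent.Lib.helper2.NilCover

open Matrix

section two

variable {F : Type*} [Field F]

/-- Two lifts of the same class differ by a nonzero scalar. -/
theorem lift_scalar {n : ℕ} {g g' : GL (Fin n) F}
    (h : QuotientGroup.mk' (Subgroup.center (GL (Fin n) F)) g
      = QuotientGroup.mk' (Subgroup.center (GL (Fin n) F)) g') :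
    ∃ c : F, g'.val = c • g.val := by
  have hz : g⁻¹ * g' ∈ Subgroup.center (GL (Fin n) F) :=
    (QuotientGroup.eq (s := Subgroup.center (GL (Fin n) F))).mp h
  obtain ⟨c, hc⟩ := Matrix.GeneralLinearGroup.mem_center_iff_val_mem_range_scalar.mp hz
  refine ⟨c, ?_⟩
  have h1 : g'.val = g.val * Matrix.scalar (Fin n) c := by
    rw [hc, Units.val_mul, ← Matrix.mul_assoc, Units.mul_inv, Matrix.one_mul]
  rw [h1]
  ext i j
  simp [Matrix.mul_apply, Matrix.scalar_apply, Matrix.diagonal_apply, mul_comm]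

/-- A property of matrices invariant under scalars, on classes. -/
def CL {n : ℕ} (P : Matrix (Fin n) (Fin n) F → Prop) (q : QG n F) : Prop :=
  ∀ g : GL (Fin n) F, QuotientGroup.mk' (Subgroup.center (GL (Fin n) F)) g = q → P g.val

theorem cl_of_lift {n : ℕ} (P : Matrix (Fin n) (Fin n) F → Prop)
    (hP : ∀ (c : F) (M : Matrix (Fin n) (Fin n) F), P M → P (c • M)) {g : GL (Fin n) F}
    (hg : P g.val) : CL P (QuotientGroup.mk' (Subgroup.center (GL (Fin n) F)) g) := by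
  intro g' hg'
  obtain ⟨c, hc⟩ := lift_scalar hg'.symm
  rw [hc]
  exact hP c _ hg

/-- Upper unitriangular up to a scalar. -/
def PU (M : Matrix (Fin 2) (Fin 2) F) : Prop := M 1 0 = 0 ∧ M 0 0 = M 1 1

/-- Diagonal or antidiagonal. -/
def PDA (M : Matrix (Fin 2) (Fin 2) F) : Prop :=
  (M 0 1 = 0 ∧ M 1 0 = 0) ∨ (M 0 0 = 0 ∧ M 1 1 = 0)

/-- Fixing the line spanned by `v`. -/
def PFix (v : Fin 2 → F) (M : Matrix (Fin 2) (Fin 2) F) : Prop := ∃ μ : F, M.mulVec v = μ • v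

theorem PU_smul (c : F) (M : Matrix (Fin 2) (Fin 2) F) (h : PU M) : PU (c • M) := by
  obtain ⟨h1, h2⟩ := h
  constructor
  · simp [h1]
  · simp [h2]

theorem PDA_smul (c : F) (M : Matrix (Fin 2) (Fin 2) F) (h : PDA M) : PDA (c • M) := by
  rcases h with ⟨h1, h2⟩ | ⟨h1, h2⟩
  · left; constructor <;> simp [h1, h2]
  · right; constructor <;> simp [h1, h2]

theorem PFix_smul (v : Fin 2 → F) (c : F) (M : Matrix (Fin 2) (Fin 2) F) (h : PFix v M) :
    PFix v (c • M) := by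
  obtain ⟨μ, hμ⟩ := h
  exact ⟨c * μ, by rw [Matrix.smul_mulVec, hμ, smul_smul]⟩

/-- Upper unipotent element of `SL_2`. -/
def uS (t : F) : Matrix.SpecialLinearGroup (Fin 2) F :=
  ⟨!![1, t; 0, 1], by simp [Matrix.det_fin_two]⟩

/-- Diagonal element of `SL_2`. -/
def dS (t : Fˣ) : Matrix.SpecialLinearGroup (Fin 2) F :=
  ⟨!![(t : F), 0; 0, ((t⁻¹ : Fˣ) : F)], by simp [Matrix.det_fin_two]⟩

theorem Xm_two : Xm 2 F = !![1, 1; 0, 1] := by
  ext i j
  fin_cases i <;> fin_cases j <;> simp [Xm_apply]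

theorem xS_two : xS 2 F = uS 1 := by
  apply Subtype.ext
  exact Xm_two

theorem gl_det_ne_zero {n : ℕ} (g : GL (Fin n) F) : g.val.det ≠ 0 :=
  ((Matrix.isUnit_iff_isUnit_det _).mp g.isUnit).ne_zero

/-- `u_t * g = u_{t'} * g * u_t` for upper triangular `g`. -/
theorem uS_comm (t : F) (g : GL (Fin 2) F) (h10 : g.val 1 0 = 0) :
    Matrix.SpecialLinearGroup.toGL (uS t) * g
      = Matrix.SpecialLinearGroup.toGL (uS (t * (1 - g.val 0 0 / g.val 1 1))) * g
        * Matrix.SpecialLinearGroup.toGL (uS t) := by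
  have hd := gl_det_ne_zero g
  rw [Matrix.det_fin_two, h10, mul_zero, sub_zero] at hd
  have h11 : g.val 1 1 ≠ 0 := right_ne_zero_of_mul hd
  apply Units.ext
  change !![1, t; 0, 1] * g.val = !![1, t * (1 - g.val 0 0 / g.val 1 1); 0, 1] * g.val
    * !![1, t; 0, 1]
  obtain ⟨a, b, d, hg⟩ : ∃ a b d : F, g.val = !![a, b; 0, d] :=
    ⟨g.val 0 0, g.val 0 1, g.val 1 1, by
      ext i j; fin_cases i <;> fin_cases j <;> simp [h10]⟩
  rw [hg] at h11 ⊢
  simp only [Matrix.of_apply, Matrix.cons_val_one, Matrix.cons_val_zero,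
    Matrix.cons_val', Matrix.cons_val_fin_one] at h11
  simp only [Matrix.mul_fin_two, Matrix.of_apply, Matrix.cons_val_one, Matrix.cons_val_zero,
    Matrix.cons_val', Matrix.cons_val_fin_one]
  ext i j
  fin_cases i <;> fin_cases j <;> simp <;> field_simp <;> ring

theorem uS_not_one {t : F}
    (h : QuotientGroup.mk' (Subgroup.center (GL (Fin 2) F))
      (Matrix.SpecialLinearGroup.toGL (uS t)) = 1) : t = 0 := by
  have hz : Matrix.SpecialLinearGroup.toGL (uS t) ∈ Subgroup.center (GL (Fin 2) F) :=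
    (QuotientGroup.eq_one_iff _).mp h
  obtain ⟨c, hc⟩ := Matrix.GeneralLinearGroup.mem_center_iff_val_mem_range_scalar.mp hz
  have h01 := congrFun (congrFun hc 0) 1
  change (Matrix.scalar (Fin 2) c) 0 1 = (!![1, t; 0, 1] : Matrix (Fin 2) (Fin 2) F) 0 1 at h01
  simp at h01
  exact h01.symm

/-- A nilpotent subgroup containing a conjugate of the regular unipotent class consists of
conjugates of unipotent classes. -/
theorem memberPU (G : Subgroup (QG 2 F)) (A : Subgroup ↥G) (hA : Group.IsNilpotent ↥A)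
    (γ xg : ↥G) (hxg : (xg : QG 2 F) = xQ 2 F) (hmem : γ * xg * γ⁻¹ ∈ A) :
    ∀ a ∈ A, CL PU ((γ⁻¹ * a * γ : ↥G) : QG 2 F) := by
  intro a ha
  have hbt := memberUT G A hA γ xg hxg hmem a ha
  obtain ⟨g, hg⟩ := QuotientGroup.mk'_surjective (Subgroup.center (GL (Fin 2) F))
    ((γ⁻¹ * a * γ : ↥G) : QG 2 F)
  have h10 : g.val 1 0 = 0 := hbt g hg (by decide : ((0 : Fin 2) : ℕ) < ((1 : Fin 2) : ℕ))
  rw [← hg]
  apply cl_of_lift PU PU_smul
  refine ⟨h10, ?_⟩
  by_contra hne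
  have hd := gl_det_ne_zero g
  rw [Matrix.det_fin_two, h10, mul_zero, sub_zero] at hd
  have h11 : g.val 1 1 ≠ 0 := right_ne_zero_of_mul hd
  have hS := engel A hA ha (fun c => ¬ ∃ t : F, t ≠ 0 ∧ ((γ⁻¹ * c * γ : ↥G) : QG 2 F)
    = QuotientGroup.mk' (Subgroup.center (GL (Fin 2) F))
      (Matrix.SpecialLinearGroup.toGL (uS t))) ?_ ?_ (γ * xg * γ⁻¹) hmem
  · apply hS
    refine ⟨1, one_ne_zero, ?_⟩
    have e : (γ⁻¹ * (γ * xg * γ⁻¹) * γ : ↥G) = xg := by group
    rw [e, hxg, xQ, xS_two]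
  · rintro ⟨t, ht, h⟩
    have e : (γ⁻¹ * 1 * γ : ↥G) = 1 := by group
    rw [e, Subgroup.coe_one] at h
    exact ht (uS_not_one h.symm)
  · rintro c - hc ⟨t, ht, hct⟩
    apply hc
    refine ⟨t * (1 - g.val 0 0 / g.val 1 1), ?_, ?_⟩
    · apply mul_ne_zero ht
      intro h0
      apply hne
      have : g.val 0 0 / g.val 1 1 = 1 := by linear_combination -h0
      field_simp at this
      exact this
    · have e : ((γ⁻¹ * (c * a * c⁻¹ * a⁻¹) * γ : ↥G) : QG 2 F)
          = ((γ⁻¹ * c * γ : ↥G) : QG 2 F) * ((γ⁻¹ * a * γ : ↥G) : QG 2 F)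
            * ((γ⁻¹ * c * γ : ↥G) : QG 2 F)⁻¹ * ((γ⁻¹ * a * γ : ↥G) : QG 2 F)⁻¹ := by
        simp only [Subgroup.coe_mul, Subgroup.coe_inv]
        group
      rw [e, hct, ← hg]
      have key : Matrix.SpecialLinearGroup.toGL (uS t) * g
          * (Matrix.SpecialLinearGroup.toGL (uS t))⁻¹ * g⁻¹
          = Matrix.SpecialLinearGroup.toGL (uS (t * (1 - g.val 0 0 / g.val 1 1))) := by
        rw [uS_comm t g h10]; group
      rw [← key]
      simp only [map_mul, map_inv]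

/-- A matrix intertwining two diagonal matrices, the first with distinct entries, is
monomial. -/
theorem mono_of_comm (g : Matrix (Fin 2) (Fin 2) F) (hdet : g.det ≠ 0) (d0 d1 e0 e1 : F)
    (hd : d0 ≠ d1) (h : g * !![d0, 0; 0, d1] = !![e0, 0; 0, e1] * g) : PDA g := by
  rw [Matrix.det_fin_two] at hdet
  have h00 : g 0 0 * d0 = e0 * g 0 0 := by
    simpa [Matrix.mul_apply, Fin.sum_univ_two] using congrFun (congrFun h 0) 0
  have h01 : g 0 1 * d1 = e0 * g 0 1 := by
    simpa [Matrix.mul_apply, Fin.sum_univ_two] using congrFun (congrFun h 0) 1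
  have h10 : g 1 0 * d0 = e1 * g 1 0 := by
    simpa [Matrix.mul_apply, Fin.sum_univ_two] using congrFun (congrFun h 1) 0
  have h11 : g 1 1 * d1 = e1 * g 1 1 := by
    simpa [Matrix.mul_apply, Fin.sum_univ_two] using congrFun (congrFun h 1) 1
  have r0 : g 0 0 = 0 ∨ g 0 1 = 0 := by
    by_contra hcon
    push Not at hcon
    apply hd
    have a1 : d0 = e0 := mul_left_cancel₀ hcon.1 (by linear_combination h00)
    have a2 : d1 = e0 := mul_left_cancel₀ hcon.2 (by linear_combination h01)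
    rw [a1, a2]
  have r1 : g 1 0 = 0 ∨ g 1 1 = 0 := by
    by_contra hcon
    push Not at hcon
    apply hd
    have a1 : d0 = e1 := mul_left_cancel₀ hcon.1 (by linear_combination h10)
    have a2 : d1 = e1 := mul_left_cancel₀ hcon.2 (by linear_combination h11)
    rw [a1, a2]
  rcases r0 with r0 | r0 <;> rcases r1 with r1 | r1
  · exfalso; apply hdet; rw [r0, r1]; ring
  · right; exact ⟨r0, r1⟩
  · left; exact ⟨r0, r1⟩
  · exfalso; apply hdet; rw [r0, r1]; ring

theorem cayley2 (g : Matrix (Fin 2) (Fin 2) F) :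
    g * g = (g 0 0 + g 1 1) • g - g.det • (1 : Matrix (Fin 2) (Fin 2) F) := by
  rw [Matrix.det_fin_two]
  ext i j
  fin_cases i <;> fin_cases j <;> simp [Matrix.mul_apply, Fin.sum_univ_two] <;> ring

/-- If `-1` is a square, a matrix of determinant one with a scalar `2`-power has an
eigenvector. -/
theorem eig_of_two_pow (i : F) (hi : i * i = -1) :
    ∀ (e : ℕ) (g : Matrix (Fin 2) (Fin 2) F), g.det = 1 →
      (∃ c : F, g ^ (2 ^ e) = c • (1 : Matrix (Fin 2) (Fin 2) F)) →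
      ∃ v : Fin 2 → F, v ≠ 0 ∧ ∃ μ : F, g.mulVec v = μ • v := by
  have hne : (![1, 0] : Fin 2 → F) ≠ 0 := by
    intro h
    have := congrFun h 0
    simp at this
  intro e
  induction e with
  | zero =>
    rintro g - ⟨c, hc⟩
    rw [pow_zero, pow_one] at hc
    refine ⟨![1, 0], hne, c, ?_⟩
    rw [hc, Matrix.smul_mulVec, Matrix.one_mulVec]
  | succ e ih =>
    rintro g hdet ⟨c, hc⟩
    have h2 : (g * g) ^ (2 ^ e) = c • (1 : Matrix (Fin 2) (Fin 2) F) := by
      rw [← hc, ← pow_two, ← pow_mul, pow_succ, mul_comm]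
    obtain ⟨v, hv, μ, hμ⟩ := ih (g * g) (by rw [Matrix.det_mul, hdet, mul_one]) ⟨c, h2⟩
    have hch := cayley2 g
    rw [hdet, one_smul] at hch
    by_cases hτ : g 0 0 + g 1 1 = 0
    · rw [hτ, zero_smul, zero_sub] at hch
      by_cases hw : g.mulVec ![1, 0] + i • ![1, 0] = 0
      · refine ⟨![1, 0], hne, -i, ?_⟩
        rw [neg_smul]
        exact eq_neg_of_add_eq_zero_left hw
      · refine ⟨g.mulVec ![1, 0] + i • ![1, 0], hw, i, ?_⟩
        rw [Matrix.mulVec_add, Matrix.mulVec_mulVec, hch, Matrix.mulVec_smul, smul_add,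
          smul_smul, hi, Matrix.neg_mulVec, Matrix.one_mulVec, neg_smul, one_smul, add_comm]
    · refine ⟨v, hv, (μ + 1) / (g 0 0 + g 1 1), ?_⟩
      have h3 : (g * g).mulVec v = (g 0 0 + g 1 1) • g.mulVec v - v := by
        rw [hch, Matrix.sub_mulVec, Matrix.smul_mulVec, Matrix.one_mulVec]
      rw [hμ] at h3
      have h4 : (g 0 0 + g 1 1) • g.mulVec v = (μ + 1) • v := by
        rw [add_smul μ 1 v, one_smul, h3]; abel
      calc g.mulVec v = (g 0 0 + g 1 1)⁻¹ • ((g 0 0 + g 1 1) • g.mulVec v) := by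
            rw [smul_smul, inv_mul_cancel₀ hτ, one_smul]
        _ = ((μ + 1) / (g 0 0 + g 1 1)) • v := by rw [h4, smul_smul, div_eq_inv_mul]

theorem exists_sl (v : Fin 2 → F) (hv : v ≠ 0) :
    ∃ s : Matrix.SpecialLinearGroup (Fin 2) F, s.val.mulVec ![1, 0] = v := by
  by_cases h0 : v 0 = 0
  · have h1 : v 1 ≠ 0 := by
      intro h1; apply hv; ext i; fin_cases i <;> simp [h0, h1]
    refine ⟨⟨!![0, -(v 1)⁻¹; v 1, 0], by simp [Matrix.det_fin_two, h1]⟩, ?_⟩
    ext i; fin_cases i <;> simp [Matrix.mulVec, dotProduct, Fin.sum_univ_two, h0]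
  · refine ⟨⟨!![v 0, 0; v 1, (v 0)⁻¹], by simp [Matrix.det_fin_two, h0]⟩, ?_⟩
    ext i; fin_cases i <;> simp [Matrix.mulVec, dotProduct, Fin.sum_univ_two]

/-- The class of an element of `SL_2`. -/
noncomputable def cls : Matrix.SpecialLinearGroup (Fin 2) F →* QG 2 F :=
  (QuotientGroup.mk' (Subgroup.center (GL (Fin 2) F))).comp Matrix.SpecialLinearGroup.toGL

theorem cls_apply (s : Matrix.SpecialLinearGroup (Fin 2) F) :
    cls s = QuotientGroup.mk' (Subgroup.center (GL (Fin 2) F))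
      (Matrix.SpecialLinearGroup.toGL s) := rfl

theorem mk_eq_one_of (g : GL (Fin 2) F) (c : F)
    (h : g.val = c • (1 : Matrix (Fin 2) (Fin 2) F)) :
    QuotientGroup.mk' (Subgroup.center (GL (Fin 2) F)) g = 1 := by
  rw [QuotientGroup.mk'_apply, QuotientGroup.eq_one_iff,
    Matrix.GeneralLinearGroup.mem_center_iff_val_mem_range_scalar]
  exact ⟨c, by rw [h, Matrix.scalar_apply, Matrix.smul_one_eq_diagonal]⟩

theorem of_mk_eq_one (g : GL (Fin 2) F)
    (h : QuotientGroup.mk' (Subgroup.center (GL (Fin 2) F)) g = 1) :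
    ∃ c : F, g.val = c • (1 : Matrix (Fin 2) (Fin 2) F) := by
  obtain ⟨c, hc⟩ := Matrix.GeneralLinearGroup.mem_center_iff_val_mem_range_scalar.mp
    ((QuotientGroup.eq_one_iff _).mp h)
  exact ⟨c, by rw [← hc, Matrix.scalar_apply, Matrix.smul_one_eq_diagonal]⟩

theorem dS_val (t : Fˣ) : (Matrix.SpecialLinearGroup.toGL (dS t)).val
    = !![(t : F), 0; 0, ((t⁻¹ : Fˣ) : F)] := rfl

theorem unit_ne_inv (t : Fˣ) (ht : (t : F) ^ 2 ≠ 1) : (t : F) ≠ ((t⁻¹ : Fˣ) : F) := by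
  intro e
  apply ht
  rw [pow_two]
  nth_rewrite 2 [e]
  rw [← Units.val_mul, mul_inv_cancel, Units.val_one]

/-- A class commuting with a regular diagonal class is monomial. -/
theorem comm_pda (c : QG 2 F) (t : Fˣ) (ht : (t : F) ^ 2 ≠ 1)
    (h : c * cls (dS t) = cls (dS t) * c) : CL PDA c := by
  obtain ⟨g, rfl⟩ := QuotientGroup.mk'_surjective _ c
  apply cl_of_lift PDA PDA_smul
  rw [cls_apply, ← map_mul, ← map_mul] at h
  obtain ⟨l, hl⟩ := lift_scalar h.symm
  rw [Units.val_mul, Units.val_mul, dS_val] at hl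
  apply mono_of_comm g.val (gl_det_ne_zero g) (t : F) ((t⁻¹ : Fˣ) : F) (l * t)
    (l * ((t⁻¹ : Fˣ) : F)) (unit_ne_inv t ht)
  rw [hl, ← Matrix.smul_mul]
  congr 1
  ext i j
  fin_cases i <;> fin_cases j <;> simp

theorem antidiag_sq (g : GL (Fin 2) F) (h0 : g.val 0 0 = 0) (h1 : g.val 1 1 = 0) :
    QuotientGroup.mk' (Subgroup.center (GL (Fin 2) F)) g
      * QuotientGroup.mk' (Subgroup.center (GL (Fin 2) F)) g = 1 := by
  rw [← map_mul]
  apply mk_eq_one_of _ (g.val 0 1 * g.val 1 0)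
  rw [Units.val_mul]
  ext i j
  fin_cases i <;> fin_cases j <;> simp [Matrix.mul_apply, Fin.sum_univ_two, h0, h1, mul_comm]

theorem antidiag_not_comm (g : GL (Fin 2) F) (h0 : g.val 0 0 = 0) (h1 : g.val 1 1 = 0)
    (t : Fˣ) (ht : (t : F) ^ 4 ≠ 1)
    (h : QuotientGroup.mk' (Subgroup.center (GL (Fin 2) F)) g * cls (dS t)
      = cls (dS t) * QuotientGroup.mk' (Subgroup.center (GL (Fin 2) F)) g) : False := by
  rw [cls_apply, ← map_mul, ← map_mul] at h
  obtain ⟨l, hl⟩ := lift_scalar h.symm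
  rw [Units.val_mul, Units.val_mul, dS_val] at hl
  have hd := gl_det_ne_zero g
  rw [Matrix.det_fin_two, h0, h1] at hd
  have hb : g.val 0 1 ≠ 0 := by intro e; apply hd; rw [e]; ring
  have hc : g.val 1 0 ≠ 0 := by intro e; apply hd; rw [e]; ring
  have e01 : g.val 0 1 * ((t⁻¹ : Fˣ) : F) = l * ((t : F) * g.val 0 1) := by
    simpa [Matrix.mul_apply, Fin.sum_univ_two, h0, h1, Matrix.vecMul, dotProduct] using
      congrFun (congrFun hl 0) 1
  have e10 : g.val 1 0 * (t : F) = l * (((t⁻¹ : Fˣ) : F) * g.val 1 0) := by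
    simpa [Matrix.mul_apply, Fin.sum_univ_two, h0, h1, Matrix.vecMul, dotProduct] using
      congrFun (congrFun hl 1) 0
  have htu : (t : F) * ((t⁻¹ : Fˣ) : F) = 1 := by
    rw [← Units.val_mul, mul_inv_cancel, Units.val_one]
  generalize ((t⁻¹ : Fˣ) : F) = u at e01 e10 htu
  have h2 : u = l * (t : F) := mul_left_cancel₀ hb (by linear_combination e01)
  have h3 : (t : F) = l * u := mul_left_cancel₀ hc (by linear_combination e10)
  have k1 : l * (t : F) ^ 2 = 1 := by linear_combination (-(t : F)) * h2 + htu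
  have k2 : l * u ^ 2 = 1 := by linear_combination (-u) * h3 + htu
  have k3 : l ^ 2 = 1 := by
    linear_combination k1 * (l * u ^ 2) + k2 - (l ^ 2 * ((t : F) * u + 1)) * htu
  apply ht
  linear_combination (l * (t : F) ^ 2 + 1) * k1 - (t : F) ^ 4 * k3

/-- The commutator step for monomial classes. -/
theorem engel_pda (c : QG 2 F) (t : Fˣ) (ht : (t : F) ^ 4 ≠ 1)
    (h : CL PDA (c * cls (dS t) * c⁻¹ * (cls (dS t))⁻¹)) : CL PDA c := by
  obtain ⟨g, rfl⟩ := QuotientGroup.mk'_surjective _ c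
  apply cl_of_lift PDA PDA_smul
  have ht2 : (t : F) ^ 2 ≠ 1 := by
    intro e
    apply ht
    have : (t : F) ^ 4 = ((t : F) ^ 2) ^ 2 := by ring
    rw [this, e, one_pow]
  have hE := h (g * Matrix.SpecialLinearGroup.toGL (dS t) * g⁻¹
    * (Matrix.SpecialLinearGroup.toGL (dS t))⁻¹) (by
      rw [map_mul, map_mul, map_mul, map_inv, map_inv]; rfl)
  have hrel : g.val * (Matrix.SpecialLinearGroup.toGL (dS t)).val
      = (g * Matrix.SpecialLinearGroup.toGL (dS t) * g⁻¹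
        * (Matrix.SpecialLinearGroup.toGL (dS t))⁻¹).val
        * (Matrix.SpecialLinearGroup.toGL (dS t)).val * g.val := by
    rw [← Units.val_mul, ← Units.val_mul, ← Units.val_mul]
    congr 1
    group
  generalize (g * Matrix.SpecialLinearGroup.toGL (dS t) * g⁻¹
        * (Matrix.SpecialLinearGroup.toGL (dS t))⁻¹).val = E at hE hrel
  rw [dS_val] at hrel
  rcases hE with ⟨h01, h10⟩ | ⟨h00, h11⟩
  · apply mono_of_comm g.val (gl_det_ne_zero g) (t : F) ((t⁻¹ : Fˣ) : F) (E 0 0 * t)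
      (E 1 1 * ((t⁻¹ : Fˣ) : F)) (unit_ne_inv t ht2)
    rw [hrel]
    congr 1
    ext i j
    fin_cases i <;> fin_cases j <;> simp [Matrix.mul_apply, Fin.sum_univ_two, h01, h10]
  · exfalso
    have h1 : (!![(t : F), 0; 0, ((t⁻¹ : Fˣ) : F)] : Matrix (Fin 2) (Fin 2) F)
        = g⁻¹.val * (E * !![(t : F), 0; 0, ((t⁻¹ : Fˣ) : F)]) * g.val := by
      rw [Matrix.mul_assoc, ← hrel, ← Matrix.mul_assoc, Units.inv_mul, Matrix.one_mul]
    have h2 := congrArg Matrix.trace h1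
    rw [Matrix.trace_units_conj', Matrix.trace_fin_two, Matrix.trace_fin_two] at h2
    have htu : (t : F) * ((t⁻¹ : Fˣ) : F) = 1 := by
      rw [← Units.val_mul, mul_inv_cancel, Units.val_one]
    have h3 : (t : F) + ((t⁻¹ : Fˣ) : F) = 0 := by
      simpa [Matrix.mul_apply, Fin.sum_univ_two, h00, h11] using h2
    generalize ((t⁻¹ : Fˣ) : F) = u at h3 htu
    apply ht
    have h4 : (t : F) ^ 2 = -1 := by linear_combination (t : F) * h3 - htu
    have : (t : F) ^ 4 = ((t : F) ^ 2) ^ 2 := by ring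
    rw [this, h4]; ring

/-- Classes fixing the line spanned by `v`. -/
def PS (v : Fin 2 → F) : Subgroup (QG 2 F) where
  carrier := {c | CL (PFix v) c}
  one_mem' := by
    have h := cl_of_lift (PFix v) (PFix_smul v) (g := (1 : GL (Fin 2) F))
      ⟨1, by rw [Units.val_one, Matrix.one_mulVec, one_smul]⟩
    rw [map_one] at h
    exact h
  mul_mem' := by
    intro c d hc hd
    obtain ⟨g, rfl⟩ := QuotientGroup.mk'_surjective _ c
    obtain ⟨g', rfl⟩ := QuotientGroup.mk'_surjective _ d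
    change CL (PFix v) _
    rw [← map_mul]
    apply cl_of_lift (PFix v) (PFix_smul v)
    obtain ⟨μ, hμ⟩ := hc g rfl
    obtain ⟨μ', hμ'⟩ := hd g' rfl
    exact ⟨μ' * μ, by
      rw [Units.val_mul, ← Matrix.mulVec_mulVec, hμ', Matrix.mulVec_smul, hμ, smul_smul]⟩
  inv_mem' := by
    intro c hc
    obtain ⟨g, rfl⟩ := QuotientGroup.mk'_surjective _ c
    change CL (PFix v) _
    rw [← map_inv]
    apply cl_of_lift (PFix v) (PFix_smul v)
    obtain ⟨μ, hμ⟩ := hc g rfl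
    have h1 : g⁻¹.val.mulVec (g.val.mulVec v) = v := by
      rw [Matrix.mulVec_mulVec, Units.inv_mul, Matrix.one_mulVec]
    rw [hμ, Matrix.mulVec_smul] at h1
    by_cases hμ0 : μ = 0
    · refine ⟨0, ?_⟩
      rw [hμ0, zero_smul] at h1
      rw [← h1, Matrix.mulVec_zero, smul_zero]
    · refine ⟨μ⁻¹, ?_⟩
      calc g⁻¹.val.mulVec v = μ⁻¹ • (μ • g⁻¹.val.mulVec v) := by
            rw [smul_smul, inv_mul_cancel₀ hμ0, one_smul]
        _ = μ⁻¹ • v := by rw [h1]

theorem mem_PS (v : Fin 2 → F) (c : QG 2 F) : c ∈ PS v ↔ CL (PFix v) c := Iff.rfl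

theorem PS_smul (v : Fin 2 → F) (c : F) (hc : c ≠ 0) : PS (c • v) = PS v := by
  have key : ∀ M : Matrix (Fin 2) (Fin 2) F, PFix (c • v) M ↔ PFix v M := by
    intro M
    constructor
    · rintro ⟨μ, hμ⟩
      refine ⟨μ, ?_⟩
      rw [Matrix.mulVec_smul] at hμ
      calc M.mulVec v = c⁻¹ • (c • M.mulVec v) := by
            rw [smul_smul, inv_mul_cancel₀ hc, one_smul]
        _ = c⁻¹ • (μ • c • v) := by rw [hμ]
        _ = μ • v := by rw [smul_comm μ c v, smul_smul, inv_mul_cancel₀ hc, one_smul]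
    · rintro ⟨μ, hμ⟩
      exact ⟨μ, by rw [Matrix.mulVec_smul, hμ, smul_comm]⟩
  ext q
  rw [mem_PS, mem_PS]
  constructor
  · intro h g hg
    exact (key _).mp (h g hg)
  · intro h g hg
    exact (key _).mpr (h g hg)

/-- A conjugate of a unipotent class fixes the corresponding line. -/
theorem fix_of_pu (c : QG 2 F) (s : Matrix.SpecialLinearGroup (Fin 2) F)
    (h : CL PU ((cls s)⁻¹ * c * cls s)) : CL (PFix (s.val.mulVec ![1, 0])) c := by
  obtain ⟨g, rfl⟩ := QuotientGroup.mk'_surjective _ c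
  apply cl_of_lift (PFix _) (PFix_smul _)
  have hM := h ((Matrix.SpecialLinearGroup.toGL s)⁻¹ * g * Matrix.SpecialLinearGroup.toGL s) (by
    rw [map_mul, map_mul, map_inv]; rfl)
  have hrel : g.val * s.val = s.val
      * ((Matrix.SpecialLinearGroup.toGL s)⁻¹ * g * Matrix.SpecialLinearGroup.toGL s).val := by
    change g.val * (Matrix.SpecialLinearGroup.toGL s).val = (Matrix.SpecialLinearGroup.toGL s).val
      * ((Matrix.SpecialLinearGroup.toGL s)⁻¹ * g * Matrix.SpecialLinearGroup.toGL s).val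
    rw [← Units.val_mul, ← Units.val_mul]
    congr 1
    group
  generalize ((Matrix.SpecialLinearGroup.toGL s)⁻¹ * g * Matrix.SpecialLinearGroup.toGL s).val
    = M at hM hrel
  have hMe : M.mulVec ![1, 0] = M 0 0 • ![1, 0] := by
    ext i
    fin_cases i <;> simp [Matrix.mulVec, dotProduct, Fin.sum_univ_two, hM.1]
  exact ⟨M 0 0, by
    rw [Matrix.mulVec_mulVec, hrel, ← Matrix.mulVec_mulVec, hMe, Matrix.mulVec_smul]⟩

/-- A conjugate of the regular unipotent class fixes only one line. -/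
theorem par_of_fix (s : Matrix.SpecialLinearGroup (Fin 2) F) (v : Fin 2 → F)
    (h : CL (PFix v) (cls s * xQ 2 F * (cls s)⁻¹)) :
    ∃ c : F, v = c • s.val.mulVec ![1, 0] := by
  obtain ⟨μ, hμ⟩ := h (Matrix.SpecialLinearGroup.toGL s * Matrix.SpecialLinearGroup.toGL (uS 1)
    * (Matrix.SpecialLinearGroup.toGL s)⁻¹) (by
      rw [map_mul, map_mul, map_inv, xQ, xS_two]; rfl)
  have hv : v = s.val.mulVec ((Matrix.SpecialLinearGroup.toGL s)⁻¹.val.mulVec v) := by
    change v = (Matrix.SpecialLinearGroup.toGL s).val.mulVec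
      ((Matrix.SpecialLinearGroup.toGL s)⁻¹.val.mulVec v)
    rw [Matrix.mulVec_mulVec, Units.mul_inv, Matrix.one_mulVec]
  have hu : (!![1, 1; 0, 1] : Matrix (Fin 2) (Fin 2) F).mulVec
      ((Matrix.SpecialLinearGroup.toGL s)⁻¹.val.mulVec v)
      = μ • (Matrix.SpecialLinearGroup.toGL s)⁻¹.val.mulVec v := by
    have e : (Matrix.SpecialLinearGroup.toGL s)⁻¹.val.mulVec
        ((Matrix.SpecialLinearGroup.toGL s * Matrix.SpecialLinearGroup.toGL (uS 1)
          * (Matrix.SpecialLinearGroup.toGL s)⁻¹).val.mulVec v)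
        = (!![1, 1; 0, 1] : Matrix (Fin 2) (Fin 2) F).mulVec
          ((Matrix.SpecialLinearGroup.toGL s)⁻¹.val.mulVec v) := by
      rw [Matrix.mulVec_mulVec, Matrix.mulVec_mulVec]
      congr 1
      rw [Units.val_mul, Units.val_mul, ← Matrix.mul_assoc, ← Matrix.mul_assoc, Units.inv_mul,
        Matrix.one_mul]
      rfl
    rw [← e, hμ, Matrix.mulVec_smul]
  generalize (Matrix.SpecialLinearGroup.toGL s)⁻¹.val.mulVec v = w at hv hu
  have h0 : w 0 + w 1 = μ * w 0 := by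
    simpa [Matrix.mulVec, dotProduct, Fin.sum_univ_two] using congrFun hu 0
  have h1 : w 1 = μ * w 1 := by
    simpa [Matrix.mulVec, dotProduct, Fin.sum_univ_two] using congrFun hu 1
  have hw1 : w 1 = 0 := by
    by_contra hne
    have hμ1 : μ = 1 := by
      have : (μ - 1) * w 1 = 0 := by linear_combination -h1
      rcases mul_eq_zero.mp this with h | h
      · linear_combination h
      · exact absurd h hne
    rw [hμ1, one_mul] at h0
    exact hne (by linear_combination h0)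
  refine ⟨w 0, ?_⟩
  rw [hv, ← Matrix.mulVec_smul]
  congr 1
  ext i
  fin_cases i <;> simp [hw1]

/-- A unipotent class lies in the image of `SL_2`. -/
theorem pu_mem (c : QG 2 F) (h : CL PU c) : ∃ t : F, c = cls (uS t) := by
  obtain ⟨g, rfl⟩ := QuotientGroup.mk'_surjective _ c
  obtain ⟨h10, h01⟩ := h g rfl
  have hd := gl_det_ne_zero g
  rw [Matrix.det_fin_two, h10, mul_zero, sub_zero] at hd
  have h11 : g.val 1 1 ≠ 0 := right_ne_zero_of_mul hd
  obtain ⟨t, ht⟩ : ∃ t : F, t = g.val 0 1 / g.val 1 1 := ⟨_, rfl⟩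
  obtain ⟨d, hdd⟩ : ∃ d : F, d = g.val 1 1 := ⟨_, rfl⟩
  refine ⟨t, ?_⟩
  rw [cls_apply]
  symm
  apply (QuotientGroup.eq (s := Subgroup.center (GL (Fin 2) F))).mpr
  rw [Matrix.GeneralLinearGroup.mem_center_iff_val_mem_range_scalar]
  refine ⟨d, ?_⟩
  have hg : g.val = (Matrix.SpecialLinearGroup.toGL (uS t)).val
      * Matrix.scalar (Fin 2) d := by
    change g.val = !![1, t; 0, 1] * Matrix.scalar (Fin 2) d
    rw [ht, hdd]
    ext i j
    fin_cases i <;> fin_cases j <;>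
      simp [Matrix.mul_apply, Fin.sum_univ_two, Matrix.scalar_apply, h10, h01, h11]
  rw [Units.val_mul, hg, ← Matrix.mul_assoc, Units.inv_mul, Matrix.one_mul]

end two

section replace

variable {G : Type*} [Group G]

/-- Replacing members of a minimal cover by proper overgroups which also cover a further
member is impossible. -/
theorem replace_contra {𝓐 : Finset (Subgroup G)} (h : Cov 𝓐) (𝓒 : Finset (Subgroup G))
    (hprop : ∀ C ∈ 𝓒, C ≠ ⊤) (hex : ∀ C ∈ 𝓒, ∃ A ∈ 𝓐, A ≤ C)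
    (hinj : ∀ C ∈ 𝓒, ∀ C' ∈ 𝓒, ∀ A ∈ 𝓐, A ≤ C → A ≤ C' → C = C')
    (A₀ : Subgroup G) (hA₀ : A₀ ∈ 𝓐) (hnot : ∀ C ∈ 𝓒, ¬ A₀ ≤ C)
    (hcov : ∀ a ∈ A₀, ∃ C ∈ 𝓒, a ∈ C) : False := by
  classical
  set 𝓐₁ := 𝓐.filter (fun A => ∃ C ∈ 𝓒, A ≤ C) with h𝓐₁
  set 𝓐₂ := 𝓐.filter (fun A => ¬ ∃ C ∈ 𝓒, A ≤ C) with h𝓐₂
  have hcard : 𝓐₁.card + 𝓐₂.card = 𝓐.card := Finset.card_filter_add_card_filter_not _
  have hA₀2 : A₀ ∈ 𝓐₂ := by
    rw [h𝓐₂, Finset.mem_filter]
    refine ⟨hA₀, ?_⟩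
    rintro ⟨C, hC, hle⟩
    exact hnot C hC hle
  have h1 : 𝓒.card ≤ 𝓐₁.card := by
    apply Finset.card_le_card_of_injOn
      (fun C => if hC : ∃ A ∈ 𝓐, A ≤ C then Classical.choose hC else ⊥)
    · intro C hC
      have hC' := hex C hC
      simp only [dif_pos hC']
      have hsp := Classical.choose_spec hC'
      rw [Finset.mem_coe, h𝓐₁, Finset.mem_filter]
      exact ⟨hsp.1, C, hC, hsp.2⟩
    · intro C hC C' hC' heq
      have hC1 := hex C hC
      have hC2 := hex C' hC'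
      simp only [dif_pos hC1, dif_pos hC2] at heq
      have hsp1 := Classical.choose_spec hC1
      have hsp2 := Classical.choose_spec hC2
      rw [← heq] at hsp2
      exact hinj C hC C' hC' _ hsp1.1 hsp1.2 hsp2.2
  have h2 := h.minimal (𝓒 ∪ 𝓐₂.erase A₀) ⟨?_, ?_⟩
  · have h3 : (𝓒 ∪ 𝓐₂.erase A₀).card ≤ 𝓒.card + (𝓐₂.erase A₀).card := Finset.card_union_le _ _
    have h4 : (𝓐₂.erase A₀).card = 𝓐₂.card - 1 := Finset.card_erase_of_mem hA₀2
    have h5 : 0 < 𝓐₂.card := Finset.card_pos.mpr ⟨A₀, hA₀2⟩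
    omega
  · intro A hA
    rcases Finset.mem_union.mp hA with hA | hA
    · exact hprop A hA
    · exact h.proper A (Finset.mem_filter.mp (Finset.mem_of_mem_erase hA)).1
  · intro g
    obtain ⟨A, hA, hgA⟩ := h.cover g
    by_cases hAC : ∃ C ∈ 𝓒, A ≤ C
    · obtain ⟨C, hC, hle⟩ := hAC
      exact ⟨C, Finset.mem_union_left _ hC, hle hgA⟩
    · by_cases hAA : A = A₀
      · obtain ⟨C, hC, hgC⟩ := hcov g (hAA ▸ hgA)
        exact ⟨C, Finset.mem_union_left _ hC, hgC⟩
      · refine ⟨A, Finset.mem_union_right _ ?_, hgA⟩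
        rw [Finset.mem_erase, h𝓐₂, Finset.mem_filter]
        exact ⟨hAA, hA, hAC⟩

end replace

end Cfsg.Agent.Lib.helper2.NilCover
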