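import Mathlib
import Cfsg.Agent.Lib.helper2.PGLCover2

set_option autoImplicit false

/-!
Groups between `PSL_2(F)` and `PGL_2(F)`, `|F| ≥ 4`, have no nilpotent minimal cover: assembly.
-/

namespace Cfsg.Agent.Lib.helper2.NilCover

open Matrix

section two

variable {F : Type*} [Field F]

theorem dS_one : dS (1 : Fˣ) = 1 := by
  apply Subtype.ext
  change !![((1 : Fˣ) : F), 0; 0, (((1 : Fˣ)⁻¹ : Fˣ) : F)] = 1
  ext i j
  fin_cases i <;> fin_cases j <;> simp

theorem dS_mul (t u : Fˣ) : dS (t * u) = dS t * dS u := by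
  apply Subtype.ext
  change !![((t * u : Fˣ) : F), 0; 0, (((t * u)⁻¹ : Fˣ) : F)]
    = !![(t : F), 0; 0, ((t⁻¹ : Fˣ) : F)] * !![(u : F), 0; 0, ((u⁻¹ : Fˣ) : F)]
  ext i j
  fin_cases i <;> fin_cases j <;> simp [mul_comm]

theorem dS_pow (t : Fˣ) (k : ℕ) : dS (t ^ k) = dS t ^ k := by
  induction k with
  | zero => rw [pow_zero, pow_zero, dS_one]
  | succ k ih => rw [pow_succ, pow_succ, dS_mul, ih]

theorem e0_ne : (![1, 0] : Fin 2 → F) ≠ 0 := by
  intro h
  have := congrFun h 0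
  simp at this

theorem member_le_PS (G : Subgroup (QG 2 F)) (A : Subgroup ↥G) (hA : Group.IsNilpotent ↥A)
    (s : Matrix.SpecialLinearGroup (Fin 2) F) (γ xg : ↥G) (hγ : (γ : QG 2 F) = cls s)
    (hxg : (xg : QG 2 F) = xQ 2 F) (hmem : γ * xg * γ⁻¹ ∈ A) :
    A ≤ (PS (s.val.mulVec ![1, 0])).subgroupOf G := by
  intro a ha
  rw [Subgroup.mem_subgroupOf, mem_PS]
  apply fix_of_pu
  have h := memberPU G A hA γ xg hxg hmem a ha
  rw [← hγ]
  simpa only [Subgroup.coe_mul, Subgroup.coe_inv] using h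

theorem PS_proper (G : Subgroup (QG 2 F))
    (hmem : ∀ s : Matrix.SpecialLinearGroup (Fin 2) F, cls s ∈ G) (v : Fin 2 → F)
    (hv : v ≠ 0) : (PS v).subgroupOf G ≠ ⊤ := by
  intro e
  have key : ∀ s : Matrix.SpecialLinearGroup (Fin 2) F,
      ∃ c : F, v = c • s.val.mulVec ![1, 0] := by
    intro s
    apply par_of_fix
    have hx : xQ 2 F ∈ G := hmem (xS 2 F)
    have hm : (⟨cls s * xQ 2 F * (cls s)⁻¹,
        G.mul_mem (G.mul_mem (hmem s) hx) (G.inv_mem (hmem s))⟩ : ↥G)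
        ∈ (PS v).subgroupOf G := by rw [e]; trivial
    exact hm
  obtain ⟨c1, h1⟩ := key 1
  obtain ⟨c2, h2⟩ := key ⟨!![0, -1; 1, 0], by simp [Matrix.det_fin_two]⟩
  apply hv
  ext i
  fin_cases i
  · have := congrFun h2 0
    simpa [Matrix.mulVec, dotProduct, Fin.sum_univ_two] using this
  · have := congrFun h1 1
    simpa [Matrix.mulVec, dotProduct, Fin.sum_univ_two] using this

/-- A member containing a regular diagonal class lies in no line stabilizer. -/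
theorem torus_not_le (G : Subgroup (QG 2 F))
    (hmem : ∀ s : Matrix.SpecialLinearGroup (Fin 2) F, cls s ∈ G)
    {𝓐 : Finset (Subgroup ↥G)} (hcov : Cov 𝓐) (t : Fˣ) (ht : (t : F) ^ 2 ≠ 1)
    (A : Subgroup ↥G) (hA : A ∈ 𝓐) (h : ↥G) (hh : (h : QG 2 F) = cls (dS t)) (hhA : h ∈ A)
    (v : Fin 2 → F) (hv : v ≠ 0) : ¬ A ≤ (PS v).subgroupOf G := by
  intro hle
  obtain ⟨s, hs⟩ := exists_sl v hv
  obtain ⟨xg, hxg⟩ : ∃ xg : ↥G, (xg : QG 2 F) = xQ 2 F := ⟨⟨_, hmem (xS 2 F)⟩, rfl⟩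
  obtain ⟨γ, hγ⟩ : ∃ γ : ↥G, (γ : QG 2 F) = cls s := ⟨⟨_, hmem s⟩, rfl⟩
  obtain ⟨A', hA', hxA'⟩ := hcov.cover (γ * xg * γ⁻¹)
  have hle' := member_le_PS G A' (hcov.nil A' hA') s γ xg hγ hxg hxA'
  rw [hs] at hle'
  have hAA : A = A' := uniq hcov (PS_proper G hmem v hv) hA hA' hle hle'
  have hpu := memberPU G A' (hcov.nil A' hA') γ xg hxg hxA' h (hAA ▸ hhA)
  obtain ⟨h10, h00⟩ := hpu ((Matrix.SpecialLinearGroup.toGL s)⁻¹
    * Matrix.SpecialLinearGroup.toGL (dS t) * Matrix.SpecialLinearGroup.toGL s) (by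
      rw [map_mul, map_mul, map_inv, Subgroup.coe_mul, Subgroup.coe_mul, Subgroup.coe_inv,
        hγ, hh]; rfl)
  have htu : (t : F) * ((t⁻¹ : Fˣ) : F) = 1 := by
    rw [← Units.val_mul, mul_inv_cancel, Units.val_one]
  have htr : Matrix.trace ((Matrix.SpecialLinearGroup.toGL s)⁻¹
      * Matrix.SpecialLinearGroup.toGL (dS t) * Matrix.SpecialLinearGroup.toGL s).val
      = (t : F) + ((t⁻¹ : Fˣ) : F) := by
    rw [Units.val_mul, Units.val_mul, Matrix.trace_units_conj', dS_val, Matrix.trace_fin_two]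
    simp
  have hdet : Matrix.det ((Matrix.SpecialLinearGroup.toGL s)⁻¹
      * Matrix.SpecialLinearGroup.toGL (dS t) * Matrix.SpecialLinearGroup.toGL s).val = 1 := by
    rw [Units.val_mul, Units.val_mul, Matrix.det_units_conj', dS_val, Matrix.det_fin_two]
    simp
  generalize ((Matrix.SpecialLinearGroup.toGL s)⁻¹
      * Matrix.SpecialLinearGroup.toGL (dS t) * Matrix.SpecialLinearGroup.toGL s).val = M
      at h10 h00 htr hdet
  rw [Matrix.trace_fin_two] at htr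
  rw [Matrix.det_fin_two, h10] at hdet
  apply unit_ne_inv t ht
  generalize ((t⁻¹ : Fˣ) : F) = u at htu htr
  have hsq : ((t : F) - u) ^ 2 = 0 := by
    linear_combination (-((t : F) + u + M 0 0 + M 1 1)) * htr - 4 * htu + 4 * hdet
      + (M 0 0 - M 1 1) * h00
  have := pow_eq_zero_iff (two_ne_zero) |>.mp hsq
  linear_combination this

/-- The case of a nontrivial element of odd order in the multiplicative group. -/
theorem no_cover_odd (G : Subgroup (QG 2 F))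
    (hmem : ∀ s : Matrix.SpecialLinearGroup (Fin 2) F, cls s ∈ G)
    {𝓐 : Finset (Subgroup ↥G)} (hcov : Cov 𝓐) (t : Fˣ) (ht1 : t ≠ 1)
    (hodd : Odd (orderOf t)) : False := by
  have ht4 : (t : F) ^ 4 ≠ 1 := by
    intro e
    have e' : t ^ 4 = 1 := Units.ext (by simpa using e)
    have hd : orderOf t ∣ 2 ^ 2 := orderOf_dvd_of_pow_eq_one e'
    obtain ⟨j, -, hj⟩ := (Nat.dvd_prime_pow Nat.prime_two).mp hd
    rcases j with _ | j
    · rw [pow_zero] at hj
      exact ht1 (orderOf_eq_one_iff.mp hj)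
    · rw [hj] at hodd
      exact (Nat.not_even_iff_odd.mpr hodd) (Nat.even_pow.mpr ⟨even_two, Nat.succ_ne_zero j⟩)
  have ht2 : (t : F) ^ 2 ≠ 1 := by
    intro e
    apply ht4
    have : (t : F) ^ 4 = ((t : F) ^ 2) ^ 2 := by ring
    rw [this, e, one_pow]
  obtain ⟨h, hh⟩ : ∃ h : ↥G, (h : QG 2 F) = cls (dS t) := ⟨⟨_, hmem (dS t)⟩, rfl⟩
  obtain ⟨A, hA, hhA⟩ := hcov.cover h
  have hpda : ∀ a ∈ A, CL PDA (a : QG 2 F) := by
    refine engel A (hcov.nil A hA) hhA (fun c => CL PDA (c : QG 2 F)) ?_ ?_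
    · have h1 := cl_of_lift PDA PDA_smul (g := (1 : GL (Fin 2) F)) (Or.inl ⟨by simp, by simp⟩)
      rw [map_one] at h1
      exact h1
    · intro c _ hc
      apply engel_pda _ t ht4
      rw [← hh]
      simpa only [Subgroup.coe_mul, Subgroup.coe_inv] using hc
  apply torus_not_le G hmem hcov t ht2 A hA h hh hhA ![1, 0] e0_ne
  intro a ha
  rw [Subgroup.mem_subgroupOf, mem_PS]
  obtain ⟨g, hg⟩ := QuotientGroup.mk'_surjective (Subgroup.center (GL (Fin 2) F)) (a : QG 2 F)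
  rw [← hg]
  apply cl_of_lift (PFix _) (PFix_smul _)
  rcases hpda a ha g hg with ⟨h01, h10⟩ | ⟨h00, h11⟩
  · refine ⟨g.val 0 0, ?_⟩
    ext i
    fin_cases i <;> simp [Matrix.mulVec, dotProduct, Fin.sum_univ_two, h10]
  · exfalso
    have hsq : a * a = 1 := by
      apply Subtype.ext
      rw [Subgroup.coe_mul, Subgroup.coe_one, ← hg]
      exact antidiag_sq g h00 h11
    have ho2 : orderOf a ∣ 2 := orderOf_dvd_of_pow_eq_one (by rw [pow_two]; exact hsq)
    have hoh : orderOf h ∣ orderOf t := by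
      apply orderOf_dvd_of_pow_eq_one
      apply Subtype.ext
      rw [Subgroup.coe_pow, hh, ← map_pow, ← dS_pow, pow_orderOf_eq_one, dS_one, map_one,
        Subgroup.coe_one]
    have hcop : (orderOf a).Coprime (orderOf h) :=
      Nat.Coprime.coprime_dvd_left ho2 (Nat.coprime_two_left.mpr (Odd.of_dvd_nat hodd hoh))
    have hnil := hcov.nil A hA
    have hc := commute_of_coprime_nilp ↥A (⟨a, ha⟩ : ↥A) ⟨h, hhA⟩ (by
      rw [Subgroup.orderOf_mk a ha, Subgroup.orderOf_mk h hhA]; exact hcop)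
    have hc' : a * h = h * a := congrArg Subtype.val hc
    have hc'' : (a : QG 2 F) * cls (dS t) = cls (dS t) * (a : QG 2 F) := by
      rw [← hh, ← Subgroup.coe_mul, ← Subgroup.coe_mul, hc']
    rw [← hg] at hc''
    exact antidiag_not_comm g h00 h11 t ht4 hc''

/-- The case where the group is not contained in the image of `SL_2`. -/
theorem no_cover_nonsplit (G : Subgroup (QG 2 F))
    (hmem : ∀ s : Matrix.SpecialLinearGroup (Fin 2) F, cls s ∈ G)
    {𝓐 : Finset (Subgroup ↥G)} (hcov : Cov 𝓐)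
    (hGL : ¬ G ≤ (cls : Matrix.SpecialLinearGroup (Fin 2) F →* QG 2 F).range) : False := by
  have hH : ((cls : Matrix.SpecialLinearGroup (Fin 2) F →* QG 2 F).range).subgroupOf G ≠ ⊤ :=
    fun e => hGL (Subgroup.subgroupOf_eq_top.mp e)
  obtain ⟨xg, hxg⟩ : ∃ xg : ↥G, (xg : QG 2 F) = xQ 2 F := ⟨⟨_, hmem (xS 2 F)⟩, rfl⟩
  obtain ⟨w, hw⟩ : ∃ w : Matrix.SpecialLinearGroup (Fin 2) F, w.val = !![0, -1; 1, 0] :=
    ⟨⟨!![0, -1; 1, 0], by simp [Matrix.det_fin_two]⟩, rfl⟩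
  obtain ⟨γ, hγ⟩ : ∃ γ : ↥G, (γ : QG 2 F) = cls w := ⟨⟨_, hmem w⟩, rfl⟩
  obtain ⟨A, hA, hxA⟩ := hcov.cover xg
  obtain ⟨A', hA', hxA'⟩ := hcov.cover (γ * xg * γ⁻¹)
  have hx1 : (1 : ↥G) * xg * 1⁻¹ ∈ A := by
    have : (1 : ↥G) * xg * 1⁻¹ = xg := by group
    rw [this]; exact hxA
  have hone : ∀ a : ↥G, (1⁻¹ * a * 1 : ↥G) = a := fun a => by group
  have hAH : A ≤ ((cls : Matrix.SpecialLinearGroup (Fin 2) F →* QG 2 F).range).subgroupOf G := by
    intro a ha
    rw [Subgroup.mem_subgroupOf]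
    have h1 := memberPU G A (hcov.nil A hA) 1 xg hxg hx1 a ha
    rw [hone] at h1
    obtain ⟨t, ht⟩ := pu_mem _ h1
    rw [ht]
    exact ⟨_, rfl⟩
  have hA'H : A' ≤ ((cls : Matrix.SpecialLinearGroup (Fin 2) F →* QG 2 F).range).subgroupOf G := by
    intro a ha
    rw [Subgroup.mem_subgroupOf]
    have h1 := memberPU G A' (hcov.nil A' hA') γ xg hxg hxA' a ha
    obtain ⟨t, ht⟩ := pu_mem _ h1
    have h3 : (a : QG 2 F) = (γ : QG 2 F) * ((γ⁻¹ * a * γ : ↥G) : QG 2 F) * (γ : QG 2 F)⁻¹ := by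
      simp only [Subgroup.coe_mul, Subgroup.coe_inv]; group
    rw [h3, ht, hγ]
    exact Subgroup.mul_mem _ (Subgroup.mul_mem _ ⟨_, rfl⟩ ⟨_, rfl⟩) (Subgroup.inv_mem _ ⟨_, rfl⟩)
  have hAA' : A = A' := uniq hcov hH hA hA' hAH hA'H
  have hle := member_le_PS G A (hcov.nil A hA) 1 1 xg (by rw [Subgroup.coe_one, map_one]) hxg hx1
  have hm := hle (hAA' ▸ hxA')
  rw [Subgroup.mem_subgroupOf, mem_PS, Subgroup.coe_mul, Subgroup.coe_mul, Subgroup.coe_inv,
    hγ, hxg] at hm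
  obtain ⟨c, hc⟩ := par_of_fix w _ hm
  have := congrFun hc 0
  simp [hw, Matrix.mulVec, dotProduct, Fin.sum_univ_two] at this

/-- The case where the multiplicative group is a `2`-group and the group is `PSL_2`. -/
theorem no_cover_two_group [Fintype F] (G : Subgroup (QG 2 F))
    (hmem : ∀ s : Matrix.SpecialLinearGroup (Fin 2) F, cls s ∈ G)
    {𝓐 : Finset (Subgroup ↥G)} (hcov : Cov 𝓐) (hq : 4 ≤ Fintype.card F)
    (h2 : ∀ t : Fˣ, ∃ k : ℕ, t ^ 2 ^ k = 1)
    (hGL : G ≤ (cls : Matrix.SpecialLinearGroup (Fin 2) F →* QG 2 F).range) : False := by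
  classical
  obtain ⟨t₀, ht₀⟩ := IsCyclic.exists_generator (α := Fˣ)
  have hord : orderOf t₀ = Fintype.card F - 1 := by
    rw [orderOf_eq_card_of_forall_mem_zpowers ht₀, Nat.card_eq_fintype_card, Fintype.card_units]
  obtain ⟨k, hk⟩ := h2 t₀
  obtain ⟨j, -, hj⟩ := (Nat.dvd_prime_pow Nat.prime_two).mp (orderOf_dvd_of_pow_eq_one hk)
  have hj2 : 2 ≤ j := by
    by_contra hlt
    have hj01 : j = 0 ∨ j = 1 := by omega
    rcases hj01 with rfl | rfl
    · rw [pow_zero] at hj; omega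
    · rw [pow_one] at hj; omega
  obtain ⟨m, rfl⟩ : ∃ m, j = m + 2 := ⟨j - 2, by omega⟩
  obtain ⟨i, hi⟩ : ∃ i : F, i = ((t₀ ^ 2 ^ m : Fˣ) : F) := ⟨_, rfl⟩
  have hi4 : i ^ 4 = 1 := by
    rw [hi, ← Units.val_pow_eq_pow_val, ← pow_mul]
    have e : 2 ^ m * 4 = 2 ^ (m + 2) := by rw [pow_add]; norm_num
    rw [e, ← hj, pow_orderOf_eq_one, Units.val_one]
  have hi2 : i ^ 2 ≠ 1 := by
    rw [hi, ← Units.val_pow_eq_pow_val, ← pow_mul]
    intro e
    have e' : t₀ ^ (2 ^ m * 2) = 1 := Units.ext (by simpa using e)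
    have hlt : 2 ^ m * 2 < orderOf t₀ := by
      rw [hj, pow_add]
      have : 0 < 2 ^ m := by positivity
      omega
    exact pow_ne_one_of_lt_orderOf (by positivity) hlt e'
  have hii : i * i = -1 := by
    have h0 : (i ^ 2 - 1) * (i ^ 2 + 1) = 0 := by linear_combination hi4
    rcases mul_eq_zero.mp h0 with h | h
    · exact absurd (by linear_combination h) hi2
    · linear_combination h
  have ht2 : (t₀ : F) ^ 2 ≠ 1 := by
    intro e
    have e' : t₀ ^ 2 = 1 := Units.ext (by simpa using e)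
    have h1 : orderOf t₀ ∣ 2 := orderOf_dvd_of_pow_eq_one e'
    have h3 := Nat.le_of_dvd (by norm_num) h1
    omega
  obtain ⟨h, hh⟩ : ∃ h : ↥G, (h : QG 2 F) = cls (dS t₀) := ⟨⟨_, hmem (dS t₀)⟩, rfl⟩
  obtain ⟨A, hA, hhA⟩ := hcov.cover h
  obtain ⟨xg, hxg⟩ : ∃ xg : ↥G, (xg : QG 2 F) = xQ 2 F := ⟨⟨_, hmem (xS 2 F)⟩, rfl⟩
  apply replace_contra hcov ((Finset.univ.filter (fun v : Fin 2 → F => v ≠ 0)).image
    (fun v => (PS v).subgroupOf G)) ?_ ?_ ?_ A hA ?_ ?_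
  · intro C hC
    obtain ⟨v, hv, rfl⟩ := Finset.mem_image.mp hC
    exact PS_proper G hmem v (Finset.mem_filter.mp hv).2
  · intro C hC
    obtain ⟨v, hv, rfl⟩ := Finset.mem_image.mp hC
    have hv0 := (Finset.mem_filter.mp hv).2
    obtain ⟨s, hs⟩ := exists_sl v hv0
    obtain ⟨γ, hγ⟩ : ∃ γ : ↥G, (γ : QG 2 F) = cls s := ⟨⟨_, hmem s⟩, rfl⟩
    obtain ⟨A', hA', hxA'⟩ := hcov.cover (γ * xg * γ⁻¹)
    refine ⟨A', hA', ?_⟩
    have hle := member_le_PS G A' (hcov.nil A' hA') s γ xg hγ hxg hxA'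
    rw [hs] at hle
    exact hle
  · intro C hC C' hC' B hB hBC hBC'
    obtain ⟨v, hv, rfl⟩ := Finset.mem_image.mp hC
    obtain ⟨v', hv', rfl⟩ := Finset.mem_image.mp hC'
    have hv0 := (Finset.mem_filter.mp hv).2
    have hv0' := (Finset.mem_filter.mp hv').2
    obtain ⟨s, hs⟩ := exists_sl v hv0
    obtain ⟨γ, hγ⟩ : ∃ γ : ↥G, (γ : QG 2 F) = cls s := ⟨⟨_, hmem s⟩, rfl⟩
    obtain ⟨A', hA', hxA'⟩ := hcov.cover (γ * xg * γ⁻¹)
    have hle := member_le_PS G A' (hcov.nil A' hA') s γ xg hγ hxg hxA'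
    rw [hs] at hle
    have hBA : B = A' := uniq hcov (PS_proper G hmem v hv0) hB hA' hBC hle
    have hm := hBC' (hBA ▸ hxA')
    rw [Subgroup.mem_subgroupOf, mem_PS, Subgroup.coe_mul, Subgroup.coe_mul, Subgroup.coe_inv,
      hγ, hxg] at hm
    obtain ⟨c, hc⟩ := par_of_fix s v' hm
    rw [hs] at hc
    have hc0 : c ≠ 0 := by
      rintro rfl
      rw [zero_smul] at hc
      exact hv0' hc
    change (PS v).subgroupOf G = (PS v').subgroupOf G
    rw [hc, PS_smul v c hc0]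
  · intro C hC
    obtain ⟨v, hv, rfl⟩ := Finset.mem_image.mp hC
    exact torus_not_le G hmem hcov t₀ ht2 A hA h hh hhA v (Finset.mem_filter.mp hv).2
  · intro a ha
    have hfin : Finite ↥G := inferInstance
    obtain ⟨a₁, a₂, -, h2', hprod, ⟨e, he⟩, hco⟩ := qpart 2 Nat.prime_two a
    have hz : Subgroup.zpowers a ≤ A := (Subgroup.zpowers_le).mpr ha
    have ha2 : a₂ ∈ A := hz h2'
    have ha2one : a₂ = 1 := by
      have hoh : orderOf h ∣ 2 ^ (m + 2) := by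
        rw [← hj]
        apply orderOf_dvd_of_pow_eq_one
        apply Subtype.ext
        rw [Subgroup.coe_pow, hh, ← map_pow, ← dS_pow, pow_orderOf_eq_one, dS_one, map_one,
          Subgroup.coe_one]
      have hcop : (orderOf a₂).Coprime (orderOf h) :=
        Nat.Coprime.coprime_dvd_right hoh (Nat.Coprime.pow_right (m + 2) hco)
      have hnil := hcov.nil A hA
      have hc := commute_of_coprime_nilp ↥A (⟨a₂, ha2⟩ : ↥A) ⟨h, hhA⟩ (by
        rw [Subgroup.orderOf_mk a₂ ha2, Subgroup.orderOf_mk h hhA]; exact hcop)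
      have hc' : a₂ * h = h * a₂ := congrArg Subtype.val hc
      have hc'' : (a₂ : QG 2 F) * cls (dS t₀) = cls (dS t₀) * (a₂ : QG 2 F) := by
        rw [← hh, ← Subgroup.coe_mul, ← Subgroup.coe_mul, hc']
      have hpda := comm_pda _ t₀ ht2 hc''
      obtain ⟨g, hg⟩ := QuotientGroup.mk'_surjective (Subgroup.center (GL (Fin 2) F))
        (a₂ : QG 2 F)
      have hpow : ∃ r : ℕ, a₂ ^ 2 ^ r = 1 := by
        rcases hpda g hg with ⟨h01, h10⟩ | ⟨h00, h11⟩
        · have hd := gl_det_ne_zero g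
          rw [Matrix.det_fin_two, h01, h10, mul_zero, sub_zero] at hd
          obtain ⟨α, hα⟩ : ∃ α : F, α = g.val 0 0 := ⟨_, rfl⟩
          obtain ⟨β, hβ⟩ : ∃ β : F, β = g.val 1 1 := ⟨_, rfl⟩
          rw [← hα, ← hβ] at hd
          have hα0 : α ≠ 0 := left_ne_zero_of_mul hd
          have hβ0 : β ≠ 0 := right_ne_zero_of_mul hd
          obtain ⟨r, hr⟩ := h2 (Units.mk0 (α / β) (div_ne_zero hα0 hβ0))
          have hr' : (α / β) ^ 2 ^ r = 1 := by
            have := congrArg Units.val hr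
            simpa using this
          have hpw : α ^ 2 ^ r = β ^ 2 ^ r := by
            rw [div_pow] at hr'
            exact (div_eq_one_iff_eq (pow_ne_zero _ hβ0)).mp hr'
          refine ⟨r, ?_⟩
          apply Subtype.ext
          rw [Subgroup.coe_pow, Subgroup.coe_one, ← hg, ← map_pow]
          apply mk_eq_one_of _ (α ^ 2 ^ r)
          rw [Units.val_pow_eq_pow_val]
          have hdiag : g.val = Matrix.diagonal ![α, β] := by
            rw [hα, hβ]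
            ext i j
            fin_cases i <;> fin_cases j <;> simp [h01, h10]
          rw [hdiag, Matrix.diagonal_pow]
          ext i j
          fin_cases i <;> fin_cases j <;> simp [hpw]
        · refine ⟨1, ?_⟩
          apply Subtype.ext
          rw [pow_one, pow_two, Subgroup.coe_mul, Subgroup.coe_one, ← hg]
          exact antidiag_sq g h00 h11
      obtain ⟨r, hr⟩ := hpow
      have hd : orderOf a₂ ∣ 2 ^ r := orderOf_dvd_of_pow_eq_one hr
      have h1 : orderOf a₂ = 1 := Nat.Coprime.eq_one_of_dvd (Nat.Coprime.pow_right r hco) hd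
      exact orderOf_eq_one_iff.mp h1
    rw [ha2one, mul_one] at hprod
    rw [← hprod] at he
    obtain ⟨s, hs⟩ := hGL a.2
    have hsc : ∃ c : F, s.val ^ 2 ^ e = c • (1 : Matrix (Fin 2) (Fin 2) F) := by
      have h1 : cls (s ^ 2 ^ e) = 1 := by
        rw [map_pow, hs, ← Subgroup.coe_pow, he, Subgroup.coe_one]
      obtain ⟨c, hc⟩ := of_mk_eq_one _ h1
      refine ⟨c, ?_⟩
      rw [← hc]
      rfl
    obtain ⟨v, hv, μ, hμ⟩ := eig_of_two_pow i hii e s.val s.2 hsc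
    refine ⟨(PS v).subgroupOf G, Finset.mem_image.mpr
      ⟨v, Finset.mem_filter.mpr ⟨Finset.mem_univ _, hv⟩, rfl⟩, ?_⟩
    rw [Subgroup.mem_subgroupOf, mem_PS, ← hs]
    exact cl_of_lift (PFix v) (PFix_smul v) ⟨μ, hμ⟩

/-- Groups between `PSL_2(F)` and `PGL_2(F)`, `|F| ≥ 4`, have no nilpotent minimal cover. -/
theorem no_cover_two [Fintype F] (hq : 4 ≤ Fintype.card F) (G : Subgroup (QG 2 F))
    (hG : ((Matrix.SpecialLinearGroup.toGL :
      Matrix.SpecialLinearGroup (Fin 2) F →* GL (Fin 2) F).range).map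
      (QuotientGroup.mk' (Subgroup.center (GL (Fin 2) F))) ≤ G)
    (𝓐 : Finset (Subgroup ↥G)) : ¬ Cov 𝓐 := by
  intro hcov
  have hmem : ∀ s : Matrix.SpecialLinearGroup (Fin 2) F, cls s ∈ G :=
    fun s => hG ⟨_, ⟨s, rfl⟩, rfl⟩
  by_cases hodd : ∃ t : Fˣ, t ≠ 1 ∧ Odd (orderOf t)
  · obtain ⟨t, ht1, ht⟩ := hodd
    exact no_cover_odd G hmem hcov t ht1 ht
  · have hodd' : ∀ t : Fˣ, t ≠ 1 → ¬ Odd (orderOf t) := fun t ht ho => hodd ⟨t, ht, ho⟩
    have h2 : ∀ t : Fˣ, ∃ k : ℕ, t ^ 2 ^ k = 1 := by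
      intro t
      obtain ⟨e, r, hr, hor⟩ :=
        Nat.exists_eq_pow_mul_and_not_dvd (orderOf_pos t).ne' 2 (by norm_num)
      refine ⟨e, ?_⟩
      by_contra hne
      apply hodd' (t ^ 2 ^ e) hne
      have h1 : orderOf (t ^ 2 ^ e) = r := by
        rw [orderOf_pow' t (by positivity), hor, Nat.gcd_eq_right (dvd_mul_right _ _),
          Nat.mul_div_cancel_left r (by positivity)]
      rw [h1]
      exact Nat.odd_iff.mpr (by omega)
    by_cases hGL : G ≤ (cls : Matrix.SpecialLinearGroup (Fin 2) F →* QG 2 F).range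
    · exact no_cover_two_group G hmem hcov hq h2 hGL
    · exact no_cover_nonsplit G hmem hcov hGL

end two

end Cfsg.Agent.Lib.helper2.NilCover
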