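import Mathlib
import Cfsg.Prelude.Def_Involutions
import Cfsg.Agent.Lib.helper2.Idx2

set_option autoImplicit false

namespace Cfsg.Agent.Lib.helper2.SE

open Cfsg.Agent.Lib.helper2

variable {G : Type*} [Group G]

/-- fusion-type reformulation of strong embedding -/
def K (H : Subgroup G) : Prop :=
  ∀ g t : G, orderOf t = 2 → t ∈ H → g * t * g⁻¹ ∈ H → g ∈ H

theorem orderOf_conj (g y : G) : orderOf (g * y * g⁻¹) = orderOf y := by
  have h : g * y * g⁻¹ = MulAut.conj g y := by rw [MulAut.conj_apply]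
  rw [h, MulEquiv.orderOf_eq]

theorem se_iff [Finite G] (H : Subgroup G) :
    Cfsg.IsStronglyEmbedded H ↔ H ≠ ⊤ ∧ Even (Nat.card H) ∧ K H := by
  unfold Cfsg.IsStronglyEmbedded
  constructor
  · rintro ⟨h1, h2, h3⟩
    refine ⟨h1, h2, ?_⟩
    intro g t ht htH hgt
    by_contra hg
    have hg' : g⁻¹ ∉ H := fun h => hg (by simpa using H.inv_mem h)
    have hodd := h3 g⁻¹ hg'
    have hmem : t ∈ H ⊓ H.map (MulAut.conj g⁻¹).toMonoidHom := by
      refine Subgroup.mem_inf.2 ⟨htH, ?_⟩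
      rw [Subgroup.mem_map]
      refine ⟨g * t * g⁻¹, hgt, ?_⟩
      show MulAut.conj g⁻¹ (g * t * g⁻¹) = t
      rw [MulAut.conj_apply]
      group
    have hd : orderOf t ∣ Nat.card (H ⊓ H.map (MulAut.conj g⁻¹).toMonoidHom : Subgroup G) :=
      Subgroup.orderOf_dvd_natCard _ hmem
    rw [ht] at hd
    exact (Nat.not_even_iff_odd.2 hodd) (even_iff_two_dvd.2 hd)
  · rintro ⟨h1, h2, h3⟩
    refine ⟨h1, h2, ?_⟩
    intro g hg
    by_contra hodd
    have heven : Even (Nat.card (H ⊓ H.map (MulAut.conj g).toMonoidHom : Subgroup G)) :=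
      Nat.not_odd_iff_even.1 hodd
    obtain ⟨s, hs⟩ := exists_prime_orderOf_dvd_card' 2 (even_iff_two_dvd.1 heven)
    have hs2 : orderOf (s : G) = 2 := by rw [← hs]; exact Subgroup.orderOf_coe s
    obtain ⟨hsH, hsM⟩ := Subgroup.mem_inf.1 s.2
    obtain ⟨y, hyH, hy⟩ := Subgroup.mem_map.1 hsM
    have hy' : g * y * g⁻¹ = s := by
      rw [← hy]
      show g * y * g⁻¹ = MulAut.conj g y
      rw [MulAut.conj_apply]
    have hy2 : orderOf y = 2 := by
      rw [← orderOf_conj g y, hy']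
      exact hs2
    exact hg (h3 g y hy2 hyH (by rw [hy']; exact hsH))

/-- centralizer + fusion control form -/
theorem K_iff_fusion (H : Subgroup G) :
    K H ↔ ((∀ t ∈ H, orderOf t = 2 → Subgroup.centralizer ({t} : Set G) ≤ H) ∧
      (∀ t ∈ H, ∀ s ∈ H, orderOf t = 2 → orderOf s = 2 → IsConj t s → ∃ h ∈ H, h * t * h⁻¹ = s)) := by
  constructor
  · intro hK
    constructor
    · intro t htH ht g hg
      rw [Subgroup.mem_centralizer_singleton_iff] at hg
      apply hK g t ht htH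
      rw [hg, mul_inv_cancel_right]
      exact htH
    · intro t htH s hsH ht hs hconj
      obtain ⟨g, hg⟩ := isConj_iff.1 hconj
      exact ⟨g, hK g t ht htH (by rw [hg]; exact hsH), hg⟩
  · rintro ⟨h1, h2⟩ g t ht htH hgt
    have hs : orderOf (g * t * g⁻¹) = 2 := by rw [orderOf_conj]; exact ht
    obtain ⟨h, hhH, hh⟩ := h2 t htH _ hgt ht hs (isConj_iff.2 ⟨g, rfl⟩)
    have hc : h⁻¹ * g ∈ Subgroup.centralizer ({t} : Set G) := by
      rw [Subgroup.mem_centralizer_singleton_iff]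
      have e : h⁻¹ * g * t = h⁻¹ * (g * t * g⁻¹) * g := by group
      rw [e, ← hh]
      group
    have := H.mul_mem hhH (h1 t htH ht hc)
    rwa [mul_inv_cancel_left] at this

/-- fixed-point form -/
theorem K_iff_fixed (H : Subgroup G) :
    K H ↔ ∀ t ∈ H, orderOf t = 2 → Nat.card {c : G ⧸ H // t • c = c} = 1 := by
  have hfix : ∀ (t g : G), orderOf t = 2 →
      (t • (g : G ⧸ H) = (g : G ⧸ H) ↔ g⁻¹ * t * g ∈ H) := by
    intro t g ht
    have e : t • (g : G ⧸ H) = ((t * g : G) : G ⧸ H) := rfl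
    rw [e, QuotientGroup.eq]
    have e2 : (t * g)⁻¹ * g = (g⁻¹ * t * g)⁻¹ := by group
    rw [e2, inv_mem_iff]
  constructor
  · intro hK t htH ht
    rw [Nat.card_eq_one_iff_unique]
    constructor
    · constructor
      rintro ⟨c, hc⟩ ⟨d, hd⟩
      apply Subtype.ext
      show c = d
      have key : ∀ c : G ⧸ H, t • c = c → c = ((1 : G) : G ⧸ H) := by
        intro c
        refine Quotient.inductionOn' c ?_
        intro g hg
        have hg' : g⁻¹ * t * g ∈ H := (hfix t g ht).1 hg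
        have : g⁻¹ ∈ H := hK g⁻¹ t ht htH (by rwa [inv_inv])
        have hgH : g ∈ H := by simpa using H.inv_mem this
        show ((g : G) : G ⧸ H) = ((1 : G) : G ⧸ H)
        rw [QuotientGroup.eq]
        exact H.mul_mem (H.inv_mem hgH) H.one_mem
      rw [key c hc, key d hd]
    · refine ⟨⟨((1 : G) : G ⧸ H), ?_⟩⟩
      rw [hfix t 1 ht]
      simpa using htH
  · intro h g t ht htH hgt
    have h1 := h t htH ht
    rw [Nat.card_eq_one_iff_unique] at h1
    obtain ⟨hsub, -⟩ := h1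
    have f1 : t • ((1 : G) : G ⧸ H) = ((1 : G) : G ⧸ H) := by
      rw [hfix t 1 ht]
      simpa using htH
    have f2 : t • ((g⁻¹ : G) : G ⧸ H) = ((g⁻¹ : G) : G ⧸ H) := by
      rw [hfix t g⁻¹ ht, inv_inv]
      exact hgt
    have := hsub.elim ⟨_, f1⟩ ⟨_, f2⟩
    have h2 : ((1 : G) : G ⧸ H) = ((g⁻¹ : G) : G ⧸ H) := congrArg Subtype.val this
    rw [QuotientGroup.eq] at h2
    have : g⁻¹ ∈ H := by simpa using h2
    simpa using H.inv_mem this

end Cfsg.Agent.Lib.helper2.SE
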