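import Mathlib
import Cfsg.Agent.Lib.helper2.SE

set_option autoImplicit false

namespace Cfsg.Agent.Lib.helper2.SE

open Cfsg.Agent.Lib.helper2
open scoped Pointwise

variable {G : Type*} [Group G]

/-- relative Sylow: a `p`-subgroup of `H` is `H`-conjugate into a given Sylow `p`-subgroup of `H` -/
theorem rel_sylow [Finite G] {p : ℕ} [Fact p.Prime] (H : Subgroup G) (P : Sylow p ↥H)
    (X : Subgroup G) (hX : X ≤ H) (hXp : IsPGroup p X) :
    ∃ h ∈ H, ∀ x ∈ X, h * x * h⁻¹ ∈ (P : Subgroup ↥H).map H.subtype := by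
  obtain ⟨Q, hQ⟩ := (hXp.comap_subtype (K := H)).exists_le_sylow
  obtain ⟨h, hh⟩ := MulAction.exists_smul_eq H Q P
  refine ⟨h, h.2, ?_⟩
  intro x hx
  have hxQ : (⟨x, hX hx⟩ : H) ∈ Q := hQ (show (⟨x, hX hx⟩ : H) ∈ X.comap H.subtype from hx)
  have hmem : h * ⟨x, hX hx⟩ * h⁻¹ ∈ (P : Subgroup H) := by
    rw [← hh, Sylow.coe_subgroup_smul, Subgroup.mem_pointwise_smul_iff_inv_smul_mem]
    have e : (MulAut.conj h)⁻¹ • (h * ⟨x, hX hx⟩ * h⁻¹) = (⟨x, hX hx⟩ : H) := by
      rw [← map_inv, MulAut.smul_def, MulAut.conj_apply]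
      group
    rw [e]
    exact hxQ
  exact ⟨_, hmem, rfl⟩

theorem claimC [Finite G] (H : Subgroup G) (P : Sylow 2 ↥H)
    (hN : ∀ X : Subgroup G, X ≤ (P : Subgroup ↥H).map H.subtype → X ≠ ⊥ →
      Subgroup.normalizer (X : Set G) ≤ H) :
    ∀ (k : ℕ) (X : Subgroup G), X ≤ (P : Subgroup ↥H).map H.subtype → X ≠ ⊥ →
      Nat.card ((P : Subgroup ↥H).map H.subtype) - Nat.card X = k →
      ∀ g : G, (∀ x ∈ X, g * x * g⁻¹ ∈ H) → g ∈ H := by
  have : Fact (Nat.Prime 2) := ⟨Nat.prime_two⟩
  intro k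
  induction k using Nat.strong_induction_on with
  | _ k ih =>
    intro X hXP hX1 hk g hg
    have hP'p : IsPGroup 2 ((P : Subgroup ↥H).map H.subtype) := P.2.map _
    have hP'H : (P : Subgroup ↥H).map H.subtype ≤ H := Subgroup.map_subtype_le _
    have hYH : X.map (MulAut.conj g).toMonoidHom ≤ H := by
      rintro y ⟨x, hx, rfl⟩
      show MulAut.conj g x ∈ H
      rw [MulAut.conj_apply]
      exact hg x hx
    have hXp : IsPGroup 2 X := hP'p.to_le hXP
    have hYp : IsPGroup 2 (X.map (MulAut.conj g).toMonoidHom) := hXp.map _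
    obtain ⟨h, hhH, hh⟩ := rel_sylow H P _ hYH hYp
    have hg' : ∀ x ∈ X, (h * g) * x * (h * g)⁻¹ ∈ (P : Subgroup ↥H).map H.subtype := by
      intro x hx
      have h1 : h * (g * x * g⁻¹) * h⁻¹ ∈ (P : Subgroup ↥H).map H.subtype := by
        apply hh
        refine ⟨x, hx, ?_⟩
        show MulAut.conj g x = g * x * g⁻¹
        rw [MulAut.conj_apply]
      have e : (h * g) * x * (h * g)⁻¹ = h * (g * x * g⁻¹) * h⁻¹ := by group
      rw [e]
      exact h1
    have hY2P : X.map (MulAut.conj (h * g)).toMonoidHom ≤ (P : Subgroup ↥H).map H.subtype := by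
      rintro y ⟨x, hx, rfl⟩
      show MulAut.conj (h * g) x ∈ _
      rw [MulAut.conj_apply]
      exact hg' x hx
    have hY2card : Nat.card (X.map (MulAut.conj (h * g)).toMonoidHom) = Nat.card X :=
      Subgroup.card_map_of_injective (MulAut.conj (h * g)).injective
    have hY2ne : X.map (MulAut.conj (h * g)).toMonoidHom ≠ ⊥ := by
      intro hbot
      apply hX1
      rw [hbot, Subgroup.card_bot] at hY2card
      exact Subgroup.eq_bot_of_card_eq _ hY2card.symm
    have hNY2 := hN _ hY2P hY2ne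
    suffices hsuff : h * g ∈ H by
      have := H.mul_mem (H.inv_mem hhH) hsuff
      rwa [inv_mul_cancel_left] at this
    by_cases hXeq : X = (P : Subgroup ↥H).map H.subtype
    · have hY2eq : X.map (MulAut.conj (h * g)).toMonoidHom = (P : Subgroup ↥H).map H.subtype :=
        Subgroup.eq_of_le_of_card_ge hY2P (by rw [hY2card, hXeq])
      apply hN X hXP hX1
      rw [Subgroup.mem_normalizer_iff]
      intro x
      constructor
      · intro hx
        have := hg' x hx
        rw [← hXeq] at this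
        exact this
      · intro hx
        rw [hXeq, ← hY2eq] at hx
        obtain ⟨x', hx', e⟩ := hx
        have e' : (h * g) * x' * (h * g)⁻¹ = (h * g) * x * (h * g)⁻¹ := by
          rw [← e]
          show _ = MulAut.conj (h * g) x'
          rw [MulAut.conj_apply]
        have : x' = x := mul_left_cancel (mul_right_cancel e')
        rw [← this]
        exact hx'
    · obtain ⟨z, hzP, hzX, hzN⟩ := Idx2.exists_normalizer_not_mem _ X hP'p hXP hXeq
      have hX2P : X ⊔ Subgroup.zpowers z ≤ (P : Subgroup ↥H).map H.subtype :=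
        sup_le hXP (by rw [Subgroup.zpowers_le]; exact hzP)
      have hX2ne : X ⊔ Subgroup.zpowers z ≠ ⊥ := by
        intro hb
        apply hX1
        exact le_bot_iff.1 (hb ▸ le_sup_left)
      have hlt : Nat.card X < Nat.card (X ⊔ Subgroup.zpowers z : Subgroup G) := by
        by_contra hle
        rw [not_lt] at hle
        have := Subgroup.eq_of_le_of_card_ge (le_sup_left : X ≤ X ⊔ Subgroup.zpowers z) hle
        apply hzX
        rw [this]
        exact (le_sup_right : Subgroup.zpowers z ≤ _) (Subgroup.mem_zpowers z)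
      have hX2N : X ⊔ Subgroup.zpowers z ≤ Subgroup.normalizer (X : Set G) :=
        sup_le Subgroup.le_normalizer (by rw [Subgroup.zpowers_le]; exact hzN)
      have hle : Nat.card (X ⊔ Subgroup.zpowers z : Subgroup G)
          ≤ Nat.card ((P : Subgroup ↥H).map H.subtype) := Subgroup.card_le_of_le hX2P
      apply ih (Nat.card ((P : Subgroup ↥H).map H.subtype)
        - Nat.card (X ⊔ Subgroup.zpowers z : Subgroup G)) (by omega) _ hX2P hX2ne rfl (h * g)
      intro x hx
      apply hNY2
      have h1 : x ∈ Subgroup.normalizer (X : Set G) := hX2N hx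
      have h2 := Subgroup.le_normalizer_map (MulAut.conj (h * g)).toMonoidHom
        (Subgroup.mem_map_of_mem _ h1)
      have e : (MulAut.conj (h * g)).toMonoidHom x = (h * g) * x * (h * g)⁻¹ := by
        show MulAut.conj (h * g) x = _
        rw [MulAut.conj_apply]
      rw [e] at h2
      exact h2

/-- Sylow-normalizer form of strong embedding -/
theorem se_iff_normalizer [Finite G] (H : Subgroup G) (hH : H ≠ ⊤) (P : Sylow 2 ↥H)
    (hP : (P : Subgroup ↥H) ≠ ⊥) :
    Cfsg.IsStronglyEmbedded H ↔ (∀ X : Subgroup ↥H, X ≤ (P : Subgroup ↥H) → X ≠ ⊥ →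
      Subgroup.normalizer ((X.map H.subtype : Subgroup G) : Set G) ≤ H) := by
  have : Fact (Nat.Prime 2) := ⟨Nat.prime_two⟩
  rw [se_iff]
  constructor
  · rintro ⟨-, -, hK⟩ X hXP hX1 g hg
    have hXp : IsPGroup 2 X := P.2.to_le hXP
    have hcard : 2 ∣ Nat.card X := by
      obtain ⟨k, hk⟩ := hXp.exists_card_eq
      rw [hk]
      have hk0 : k ≠ 0 := by
        intro h0
        rw [h0, pow_zero] at hk
        exact hX1 (Subgroup.eq_bot_of_card_eq _ hk)
      exact dvd_pow_self 2 hk0
    obtain ⟨t, ht⟩ := exists_prime_orderOf_dvd_card' 2 hcard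
    have ht2 : orderOf ((t : ↥H) : G) = 2 := by
      rw [Subgroup.orderOf_coe, Subgroup.orderOf_coe]
      exact ht
    have htmem : ((t : ↥H) : G) ∈ X.map H.subtype := ⟨t.1, t.2, rfl⟩
    have h1 : g * ((t : ↥H) : G) * g⁻¹ ∈ X.map H.subtype :=
      (Subgroup.mem_normalizer_iff.1 hg _).1 htmem
    exact hK g _ ht2 (t : ↥H).2 (Subgroup.map_subtype_le _ h1)
  · intro hN
    have hN' : ∀ X : Subgroup G, X ≤ (P : Subgroup ↥H).map H.subtype → X ≠ ⊥ →
        Subgroup.normalizer (X : Set G) ≤ H := by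
      intro X hXP hX1
      have hXH : X ≤ H := hXP.trans (Subgroup.map_subtype_le _)
      have e : (X.subgroupOf H).map H.subtype = X := Subgroup.map_subgroupOf_eq_of_le hXH
      have h1 : X.subgroupOf H ≤ (P : Subgroup ↥H) := by
        intro x hx
        rw [Subgroup.mem_subgroupOf] at hx
        obtain ⟨y, hy, hxy⟩ := hXP hx
        have : y = x := Subtype.ext hxy
        rw [← this]
        exact hy
      have h2 : X.subgroupOf H ≠ ⊥ := by
        intro hb
        apply hX1
        rw [← e, hb, Subgroup.map_bot]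
      have := hN _ h1 h2
      rw [e] at this
      exact this
    have heven : Even (Nat.card H) := by
      have hcard : 2 ∣ Nat.card (P : Subgroup ↥H) := by
        obtain ⟨k, hk⟩ := P.2.exists_card_eq
        rw [hk]
        have hk0 : k ≠ 0 := by
          intro h0
          rw [h0, pow_zero] at hk
          exact hP (Subgroup.eq_bot_of_card_eq _ hk)
        exact dvd_pow_self 2 hk0
      exact even_iff_two_dvd.2 (hcard.trans (Subgroup.card_subgroup_dvd_card _))
    refine ⟨hH, heven, ?_⟩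
    intro g t ht htH hgt
    have htp : IsPGroup 2 (Subgroup.zpowers t) :=
      IsPGroup.of_card (n := 1) (by rw [Nat.card_zpowers, ht, pow_one])
    obtain ⟨h, hhH, hh⟩ := rel_sylow H P (Subgroup.zpowers t)
      (by rw [Subgroup.zpowers_le]; exact htH) htp
    have ht' : h * t * h⁻¹ ∈ (P : Subgroup ↥H).map H.subtype := hh t (Subgroup.mem_zpowers t)
    have ht'2 : orderOf (h * t * h⁻¹) = 2 := by rw [orderOf_conj]; exact ht
    have hX : Subgroup.zpowers (h * t * h⁻¹) ≤ (P : Subgroup ↥H).map H.subtype := by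
      rw [Subgroup.zpowers_le]
      exact ht'
    have hX1 : Subgroup.zpowers (h * t * h⁻¹) ≠ ⊥ := by
      intro hb
      rw [Subgroup.zpowers_eq_bot] at hb
      rw [hb, orderOf_one] at ht'2
      omega
    have key := claimC H P hN' _ (Subgroup.zpowers (h * t * h⁻¹)) hX hX1 rfl (g * h⁻¹) (by
      intro x hx
      obtain ⟨j, rfl⟩ := Subgroup.mem_zpowers_iff.1 hx
      have e : g * h⁻¹ * (h * t * h⁻¹) ^ j * (g * h⁻¹)⁻¹ = (g * t * g⁻¹) ^ j := by
        have e1 : (g * h⁻¹) * (h * t * h⁻¹) ^ j * (g * h⁻¹)⁻¹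
            = ((g * h⁻¹) * (h * t * h⁻¹) * (g * h⁻¹)⁻¹) ^ j := by
          rw [← conj_zpow]
        rw [e1]
        congr 1
        group
      rw [e]
      exact H.zpow_mem hgt j)
    have := H.mul_mem key hhH
    rwa [inv_mul_cancel_right] at this

end Cfsg.Agent.Lib.helper2.SE
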