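import Cfsg.Agent.Lib.helper2.ZassInv

set_option autoImplicit false

namespace Cfsg.Agent.Lib.helper2.ZassCount

open Cfsg

variable {G Ω : Type*} [Group G] [Fintype G] [MulAction G Ω] [Fintype Ω] [DecidableEq Ω]

/-- In a Zassenhaus group of odd degree, two-point stabilisers have odd order. -/
theorem odd_deg_e_odd (hZ : IsZassenhausGroup G Ω) {a b : Ω} (hab : a ≠ b)
    (hn : Odd (Fintype.card Ω)) :
    Odd (Nat.card ↥(MulAction.stabilizer G a ⊓ MulAction.stabilizer G b : Subgroup G)) := by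
  by_contra hcon
  rw [Nat.not_odd_iff_even] at hcon
  haveI : Fact (Nat.Prime 2) := ⟨Nat.prime_two⟩
  obtain ⟨z, hz⟩ := exists_prime_orderOf_dvd_card'
    (G := ↥(MulAction.stabilizer G a ⊓ MulAction.stabilizer G b : Subgroup G)) 2
    (even_iff_two_dvd.mp hcon)
  have hz' : orderOf (z : G) = 2 := by
    rw [Subgroup.orderOf_coe]
    exact hz
  have hz1 : (z : G) ≠ 1 := by
    intro h
    rw [h, orderOf_one] at hz'
    omega
  have h1 := fixN_eq_two hZ hz1 hab z.2.1 z.2.2
  have h2 := fixN_modEq_two (Ω := Ω) hz'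
  rw [h1] at h2
  have h3 : Fintype.card Ω % 2 = 1 := Nat.odd_iff.mp hn
  unfold Nat.ModEq at h2
  omega

/-- Odd degree: the involutions fixing `a` form one regular orbit of `G_{a,b}`. -/
theorem invol_fix_struct (hZ : IsZassenhausGroup G Ω) {a b : Ω} (hab : a ≠ b)
    (hodd' : Odd (Nat.card ↥(MulAction.stabilizer G a ⊓ MulAction.stabilizer G b : Subgroup G)))
    (hn : Odd (Fintype.card Ω)) :
    (Finset.univ.filter (fun z : G => orderOf z = 2 ∧ z • a = a)).card
        = Nat.card ↥(MulAction.stabilizer G a ⊓ MulAction.stabilizer G b : Subgroup G) ∧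
      ∀ z ∈ Finset.univ.filter (fun z : G => orderOf z = 2 ∧ z • a = a),
        ∀ w ∈ Finset.univ.filter (fun z : G => orderOf z = 2 ∧ z • a = a),
        ∃ g ∈ (MulAction.stabilizer G a ⊓ MulAction.stabilizer G b : Subgroup G),
          g * z * g⁻¹ = w := by
  classical
  have h3 := hZ.2.2.1
  have hJle := invol_fix_le hZ hab hodd' hn
  set J := Finset.univ.filter (fun z : G => orderOf z = 2 ∧ z • a = a) with hJ
  have honly : ∀ z : G, orderOf z = 2 → ∀ c d : Ω, z • c = c → z • d = d → c = d := by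
    intro z hz c d hc hd
    have h1 := invol_fixN_le_one hZ hab hodd' hz
    unfold fixN at h1
    exact Finset.card_le_one.mp h1 c (Finset.mem_filter.mpr ⟨Finset.mem_univ _, hc⟩) d
      (Finset.mem_filter.mpr ⟨Finset.mem_univ _, hd⟩)
  have hfixex : ∀ z : G, orderOf z = 2 → ∃ c : Ω, z • c = c := by
    intro z hz
    have h1 := fixN_modEq_two (Ω := Ω) hz
    have h2 : Fintype.card Ω % 2 = 1 := Nat.odd_iff.mp hn
    have h3' : fixN (Ω := Ω) z ≠ 0 := by
      intro h0
      rw [h0] at h1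
      unfold Nat.ModEq at h1
      omega
    rw [Ne, fixN_eq_zero_iff] at h3'
    push Not at h3'
    exact h3'
  have hinj : ∀ z ∈ J, ∀ g ∈ (MulAction.stabilizer G a ⊓ MulAction.stabilizer G b : Subgroup G),
      ∀ g' ∈ (MulAction.stabilizer G a ⊓ MulAction.stabilizer G b : Subgroup G),
      g * z * g⁻¹ = g' * z * g'⁻¹ → g = g' := by
    intro z hz g hg g' hg' heq
    rw [hJ, Finset.mem_filter] at hz
    have hkE : g'⁻¹ * g ∈ (MulAction.stabilizer G a ⊓ MulAction.stabilizer G b : Subgroup G) :=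
      Subgroup.mul_mem _ (Subgroup.inv_mem _ hg') hg
    have hkz : (g'⁻¹ * g) * z = z * (g'⁻¹ * g) := by
      calc (g'⁻¹ * g) * z = g'⁻¹ * (g * z * g⁻¹) * g := by group
        _ = g'⁻¹ * (g' * z * g'⁻¹) * g := by rw [heq]
        _ = z * (g'⁻¹ * g) := by group
    have hzb : z • b ≠ b := fun h => hab (honly z hz.2.1 a b hz.2.2 h)
    have hzba : z • b ≠ a := by
      intro h
      apply hab
      have : z • b = z • a := by rw [h, hz.2.2]
      exact (smul_left_cancel _ this).symm
    have hkzb : (g'⁻¹ * g) • (z • b) = z • b := by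
      rw [← mul_smul, hkz, mul_smul]
      congr 1
      exact hkE.2
    have hk1 : g'⁻¹ * g = 1 :=
      h3 _ a b (z • b) hab (Ne.symm hzb) (Ne.symm hzba) hkE.1 hkE.2 hkzb
    exact (inv_mul_eq_one.mp hk1).symm
  have hJstruct : ∀ z ∈ J, J.card
        = Nat.card ↥(MulAction.stabilizer G a ⊓ MulAction.stabilizer G b : Subgroup G) ∧ ∀ w ∈ J,
      ∃ g ∈ (MulAction.stabilizer G a ⊓ MulAction.stabilizer G b : Subgroup G),
        g * z * g⁻¹ = w := by
    intro z hz
    set EF := Finset.univ.filter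
      (fun g : G => g ∈ (MulAction.stabilizer G a ⊓ MulAction.stabilizer G b : Subgroup G)) with hEF
    have hEFcard : EF.card
        = Nat.card ↥(MulAction.stabilizer G a ⊓ MulAction.stabilizer G b : Subgroup G) := by
      rw [Nat.card_eq_fintype_card, hEF, ← Fintype.card_subtype]
    have himg : EF.image (fun g => g * z * g⁻¹) ⊆ J := by
      intro w' hw'
      obtain ⟨g, hg, rfl⟩ := Finset.mem_image.mp hw'
      rw [hEF, Finset.mem_filter] at hg
      rw [hJ, Finset.mem_filter] at hz ⊢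
      refine ⟨Finset.mem_univ _, ?_, ?_⟩
      · have : g * z * g⁻¹ = MulAut.conj g z := by simp
        rw [this, MulEquiv.orderOf_eq, hz.2.1]
      · have hga : g • a = a := hg.2.1
        have hgi : g⁻¹ • a = a := by rw [inv_smul_eq_iff, hga]
        rw [mul_smul, mul_smul, hgi, hz.2.2, hga]
    have hcardimg : (EF.image (fun g => g * z * g⁻¹)).card = EF.card := by
      apply Finset.card_image_of_injOn
      intro g hg g' hg' heq
      rw [Finset.mem_coe, hEF, Finset.mem_filter] at hg hg'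
      exact hinj z hz g hg.2 g' hg'.2 heq
    have heqJ : EF.image (fun g => g * z * g⁻¹) = J := by
      apply Finset.eq_of_subset_of_card_le himg
      rw [hcardimg, hEFcard]
      exact hJle
    refine ⟨?_, ?_⟩
    · rw [← heqJ, hcardimg, hEFcard]
    · intro w hw
      rw [← heqJ] at hw
      obtain ⟨g, hg, hgw⟩ := Finset.mem_image.mp hw
      rw [hEF, Finset.mem_filter] at hg
      exact ⟨g, hg.2, hgw⟩
  have hG2 : 2 ∣ Nat.card G := by
    rw [Nat.card_eq_fintype_card, card_G hZ.2.1 hab]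
    have h1 : Fintype.card Ω * Fintype.card Ω - Fintype.card Ω
        = Fintype.card Ω * (Fintype.card Ω - 1) := by
      rw [Nat.mul_sub, mul_one]
    rw [h1]
    have h2 : Even (Fintype.card Ω - 1) := by
      obtain ⟨k, hk⟩ := hn
      exact ⟨k, by omega⟩
    exact Dvd.dvd.mul_right (Dvd.dvd.mul_left (even_iff_two_dvd.mp h2) _) _
  haveI : Fact (Nat.Prime 2) := ⟨Nat.prime_two⟩
  obtain ⟨z₀, hz₀⟩ := exists_prime_orderOf_dvd_card' 2 hG2
  have hpt : MulAction.IsPretransitive G Ω := by
    haveI := hZ.2.1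
    exact MulAction.isPretransitive_of_is_two_pretransitive (G := G) (α := Ω)
  obtain ⟨c, hc⟩ := hfixex z₀ hz₀
  obtain ⟨p, hp⟩ := MulAction.exists_smul_eq G c a
  have hzJ : p * z₀ * p⁻¹ ∈ J := by
    rw [hJ, Finset.mem_filter]
    refine ⟨Finset.mem_univ _, ?_, ?_⟩
    · have : p * z₀ * p⁻¹ = MulAut.conj p z₀ := by simp
      rw [this, MulEquiv.orderOf_eq, hz₀]
    · rw [mul_smul, mul_smul, ← hp, inv_smul_smul, hc]
  refine ⟨(hJstruct _ hzJ).1, fun z hz => (hJstruct z hz).2⟩

end Cfsg.Agent.Lib.helper2.ZassCount
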