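import Cfsg.Agent.Lib.helper2.ZassZ
import Cfsg.Agent.Lib.helper2.ZassInv2

set_option autoImplicit false

namespace Cfsg.Agent.Lib.helper2.ZassCount

open Cfsg

section general

variable {G : Type*} [Group G] [Fintype G]

open Classical in
/-- Orbit-stabiliser for conjugation, in finset form. -/
theorem card_class_mul_card_cent (w : G) :
    (Finset.univ.filter (fun w' : G => IsConj w w')).card
      * (Finset.univ.filter (fun c : G => c * w = w * c)).card = Fintype.card G := by
  have h1 := Finset.card_eq_sum_card_fiberwise (s := (Finset.univ : Finset G))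
    (t := Finset.univ.filter (fun w' : G => IsConj w w')) (f := fun g : G => g * w * g⁻¹) (by
      intro g _
      rw [Finset.mem_coe, Finset.mem_filter]
      exact ⟨Finset.mem_univ _, isConj_iff.mpr ⟨g, rfl⟩⟩)
  rw [Finset.card_univ] at h1
  rw [h1]
  have h2 : ∀ w' ∈ Finset.univ.filter (fun w' : G => IsConj w w'),
      ((Finset.univ : Finset G).filter (fun g => g * w * g⁻¹ = w')).card
        = (Finset.univ.filter (fun c : G => c * w = w * c)).card := by
    intro w' hw'
    rw [Finset.mem_filter] at hw'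
    obtain ⟨g₁, hg₁⟩ := isConj_iff.mp hw'.2
    apply Finset.card_bij (fun g _ => g₁⁻¹ * g)
    · intro g hg
      rw [Finset.mem_filter] at hg ⊢
      refine ⟨Finset.mem_univ _, ?_⟩
      have h3 : g * w * g⁻¹ = g₁ * w * g₁⁻¹ := by rw [hg.2, hg₁]
      have h4 : g * w = g₁ * w * g₁⁻¹ * g := by rw [← h3]; group
      calc g₁⁻¹ * g * w = g₁⁻¹ * (g * w) := by group
        _ = g₁⁻¹ * (g₁ * w * g₁⁻¹ * g) := by rw [h4]
        _ = w * (g₁⁻¹ * g) := by group
    · intro g _ g' _ h
      exact mul_left_cancel h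
    · intro c hc
      rw [Finset.mem_filter] at hc
      refine ⟨g₁ * c, ?_, by group⟩
      rw [Finset.mem_filter]
      refine ⟨Finset.mem_univ _, ?_⟩
      calc g₁ * c * w * (g₁ * c)⁻¹ = g₁ * (c * w) * c⁻¹ * g₁⁻¹ := by group
        _ = g₁ * (w * c) * c⁻¹ * g₁⁻¹ := by rw [hc.2]
        _ = g₁ * w * g₁⁻¹ := by group
        _ = w' := hg₁
  rw [Finset.sum_congr rfl h2, Finset.sum_const, smul_eq_mul]

open Classical in
/-- The number of ways of writing `w` as a product of two elements of a set of involutions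
is at most the order of the centraliser. -/
theorem pairs_le_cent (I : Finset G) (hI : ∀ x ∈ I, x * x = 1) (w : G) :
    ((I ×ˢ I).filter (fun p : G × G => p.1 * p.2 = w)).card
      ≤ (Finset.univ.filter (fun c : G => c * w = w * c)).card := by
  by_cases hne : ((I ×ˢ I).filter (fun p : G × G => p.1 * p.2 = w)).Nonempty
  · obtain ⟨p₁, hp₁⟩ := hne
    rw [Finset.mem_filter, Finset.mem_product] at hp₁
    have key : ∀ p : G × G, p.1 ∈ I → p.2 ∈ I → p.1 * p.2 = w → p.1 * w * p.1 = w⁻¹ := by
      intro p h1 h2 h3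
      have e1 := hI p.1 h1
      have e2 := hI p.2 h2
      rw [← h3]
      calc p.1 * (p.1 * p.2) * p.1 = (p.1 * p.1) * p.2 * p.1 := by group
        _ = p.2 * p.1 := by rw [e1, one_mul]
        _ = (p.1 * p.2)⁻¹ := by
          rw [mul_inv_rev, inv_eq_of_mul_eq_one_left e1, inv_eq_of_mul_eq_one_left e2]
    apply Finset.card_le_card_of_injOn (fun p => p₁.1⁻¹ * p.1)
    · intro p hp
      rw [Finset.mem_coe, Finset.mem_filter, Finset.mem_product] at hp
      rw [Finset.mem_coe, Finset.mem_filter]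
      refine ⟨Finset.mem_univ _, ?_⟩
      have k1 := key p hp.1.1 hp.1.2 hp.2
      have k2 := key p₁ hp₁.1.1 hp₁.1.2 hp₁.2
      have e1 := hI p.1 hp.1.1
      have e2 := hI p₁.1 hp₁.1.1
      have i1 : p.1⁻¹ = p.1 := inv_eq_of_mul_eq_one_left e1
      have i2 : p₁.1⁻¹ = p₁.1 := inv_eq_of_mul_eq_one_left e2
      rw [i2]
      have k3 : p.1 * w = w⁻¹ * p.1 := by
        calc p.1 * w = p.1 * w * (p.1 * p.1) := by rw [e1, mul_one]
          _ = (p.1 * w * p.1) * p.1 := by group
          _ = w⁻¹ * p.1 := by rw [k1]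
      have k4 : p₁.1 * w⁻¹ = w * p₁.1 := by
        calc p₁.1 * w⁻¹ = p₁.1 * (p₁.1 * w * p₁.1) := by rw [k2]
          _ = (p₁.1 * p₁.1) * w * p₁.1 := by group
          _ = w * p₁.1 := by rw [e2, one_mul]
      calc p₁.1 * p.1 * w = p₁.1 * (p.1 * w) := by group
        _ = p₁.1 * (w⁻¹ * p.1) := by rw [k3]
        _ = (p₁.1 * w⁻¹) * p.1 := by group
        _ = (w * p₁.1) * p.1 := by rw [k4]
        _ = w * (p₁.1 * p.1) := by group
    · intro p hp p' hp' h
      rw [Finset.mem_coe, Finset.mem_filter, Finset.mem_product] at hp hp'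
      have h1 : p.1 = p'.1 := mul_left_cancel h
      have h2 : p.2 = p'.2 := by
        have := hp.2.trans hp'.2.symm
        rw [h1] at this
        exact mul_left_cancel this
      exact Prod.ext h1 h2
  · rw [Finset.not_nonempty_iff_eq_empty] at hne
    rw [hne, Finset.card_empty]
    exact Nat.zero_le _

open Classical in
/-- Counting products of two involutions with a class-invariant property against the
number of classes with that property. -/
theorem pairs_le_classes (I : Finset G) (hI : ∀ x ∈ I, x * x = 1) (P : G → Prop)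
    (hP : ∀ g h : G, P g → P (h * g * h⁻¹)) :
    ((I ×ˢ I).filter (fun p : G × G => P (p.1 * p.2))).card
      ≤ ((Finset.univ.filter P).image (ConjClasses.mk : G → ConjClasses G)).card
        * Fintype.card G := by
  have h1 := Finset.card_eq_sum_card_fiberwise
    (s := (I ×ˢ I).filter (fun p : G × G => P (p.1 * p.2)))
    (t := Finset.univ.filter P) (f := fun p : G × G => p.1 * p.2) (by
      intro p hp
      rw [Finset.mem_coe, Finset.mem_filter] at hp
      rw [Finset.mem_coe, Finset.mem_filter]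
      exact ⟨Finset.mem_univ _, hp.2⟩)
  rw [h1]
  have h2 : ∀ w ∈ Finset.univ.filter P,
      (((I ×ˢ I).filter (fun p : G × G => P (p.1 * p.2))).filter
        (fun p => p.1 * p.2 = w)).card
      ≤ (Finset.univ.filter (fun c : G => c * w = w * c)).card := by
    intro w _
    refine le_trans (Finset.card_le_card ?_) (pairs_le_cent I hI w)
    intro p hp
    rw [Finset.mem_filter, Finset.mem_filter] at hp
    rw [Finset.mem_filter]
    exact ⟨hp.1.1, hp.2⟩
  refine le_trans (Finset.sum_le_sum h2) ?_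
  rw [← Finset.sum_fiberwise_of_maps_to (g := (ConjClasses.mk : G → ConjClasses G))
    (t := (Finset.univ.filter P).image (ConjClasses.mk : G → ConjClasses G))
    (fun w hw => Finset.mem_image_of_mem _ hw)]
  have h3 : ∀ C ∈ (Finset.univ.filter P).image (ConjClasses.mk : G → ConjClasses G),
      ∑ w ∈ (Finset.univ.filter P).filter (fun w => ConjClasses.mk w = C),
        (Finset.univ.filter (fun c : G => c * w = w * c)).card ≤ Fintype.card G := by
    intro C hC
    obtain ⟨w₀, hw₀, rfl⟩ := Finset.mem_image.mp hC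
    have hsub : (Finset.univ.filter P).filter (fun w => ConjClasses.mk w = ConjClasses.mk w₀)
        ⊆ Finset.univ.filter (fun w' : G => IsConj w₀ w') := by
      intro w hw
      rw [Finset.mem_filter] at hw
      rw [Finset.mem_filter]
      exact ⟨Finset.mem_univ _, (ConjClasses.mk_eq_mk_iff_isConj.mp hw.2).symm⟩
    refine le_trans (Finset.sum_le_sum_of_subset hsub) ?_
    have hpos : 0 < (Finset.univ.filter (fun w' : G => IsConj w₀ w')).card :=
      Finset.card_pos.mpr ⟨w₀, Finset.mem_filter.mpr ⟨Finset.mem_univ _, IsConj.refl w₀⟩⟩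
    have h4 : ∀ w ∈ Finset.univ.filter (fun w' : G => IsConj w₀ w'),
        (Finset.univ.filter (fun w' : G => IsConj w₀ w')).card
          * (Finset.univ.filter (fun c : G => c * w = w * c)).card = Fintype.card G := by
      intro w hw
      rw [Finset.mem_filter] at hw
      have h5 : Finset.univ.filter (fun w' : G => IsConj w₀ w')
          = Finset.univ.filter (fun w' : G => IsConj w w') := by
        ext w'
        simp only [Finset.mem_filter, Finset.mem_univ, true_and]
        exact ⟨fun h => hw.2.symm.trans h, fun h => hw.2.trans h⟩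
      rw [h5]
      exact card_class_mul_card_cent w
    have h6 : (Finset.univ.filter (fun w' : G => IsConj w₀ w')).card
        * ∑ w ∈ Finset.univ.filter (fun w' : G => IsConj w₀ w'),
          (Finset.univ.filter (fun c : G => c * w = w * c)).card
        = (Finset.univ.filter (fun w' : G => IsConj w₀ w')).card * Fintype.card G := by
      rw [Finset.mul_sum, Finset.sum_congr rfl h4, Finset.sum_const, smul_eq_mul]
    exact le_of_eq (Nat.eq_of_mul_eq_mul_left hpos h6)
  refine le_trans (Finset.sum_le_sum h3) ?_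
  rw [Finset.sum_const, smul_eq_mul]

end general

section zass

universe u v

/-- Structure of the two-point stabiliser in a simple Zassenhaus group (odd order case). -/
theorem simple_E_struct {G : Type u} {Ω : Type v} [Group G] [Finite G] [MulAction G Ω]
    [Fintype Ω] (hZ : IsZassenhausGroup G Ω) [IsSimpleGroup G] {a b : Ω} (hab : a ≠ b)
    (hodd : Odd (Nat.card ↥(MulAction.stabilizer G a ⊓ MulAction.stabilizer G b : Subgroup G))) :
    (∀ c d : Ω, c ≠ d → ∀ s : G, s • c = d → s • d = c → s * s = 1) ∧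
    (∀ s : G, s • a = b → s • b = a →
      ∀ h ∈ (MulAction.stabilizer G a ⊓ MulAction.stabilizer G b : Subgroup G),
        s * h * s⁻¹ = h⁻¹) ∧
    (∀ x y : G, x ∈ (MulAction.stabilizer G a ⊓ MulAction.stabilizer G b : Subgroup G) →
      y ∈ (MulAction.stabilizer G a ⊓ MulAction.stabilizer G b : Subgroup G) → x * y = y * x) := by
  classical
  haveI : Fintype G := Fintype.ofFinite G
  have h2t : ∀ {a b c d : Ω}, a ≠ b → c ≠ d → ∃ g : G, g • a = c ∧ g • b = d :=
    MulAction.is_two_pretransitive_iff.mp hZ.2.1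
  have hswap : ∀ c d : Ω, c ≠ d → ∀ s : G, s • c = d → s • d = c → s * s = 1 := by
    intro c d hcd s hsc hsd
    have hoddcd : Odd (Nat.card
        ↥(MulAction.stabilizer G c ⊓ MulAction.stabilizer G d : Subgroup G)) := by
      rw [card_stab2 hZ.2.1 hab hcd]
      exact hodd
    apply swap_sq hZ hcd hoddcd s hsc hsd
    intro g hg hsg
    obtain ⟨hsg', htr⟩ := transfer_E hZ hcd (Abelianization.of) s hsc hsd g hg
    rw [zass_perfect hZ] at htr
    rw [← Abelianization.ker_of, MonoidHom.mem_ker, map_mul]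
    exact htr.symm
  have hinv : ∀ s : G, s • a = b → s • b = a →
      ∀ h ∈ (MulAction.stabilizer G a ⊓ MulAction.stabilizer G b : Subgroup G),
        s * h * s⁻¹ = h⁻¹ := by
    intro s hsa hsb h hh
    have hs2 := hswap a b hab s hsa hsb
    have hsi : s⁻¹ = s := inv_eq_of_mul_eq_one_left hs2
    have h1 := hswap a b hab (s * h) (by rw [mul_smul, hh.1, hsa]) (by rw [mul_smul, hh.2, hsb])
    rw [hsi]
    apply eq_inv_of_mul_eq_one_left
    rw [← h1]
    group
  refine ⟨hswap, hinv, ?_⟩
  obtain ⟨s₀, hs₀a, hs₀b⟩ := h2t hab (Ne.symm hab)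
  intro x y hx hy
  have h1 := hinv s₀ hs₀a hs₀b x hx
  have h2 := hinv s₀ hs₀a hs₀b y hy
  have h3' := hinv s₀ hs₀a hs₀b (x * y) (Subgroup.mul_mem _ hx hy)
  have h4 : (x * y)⁻¹ = x⁻¹ * y⁻¹ := by
    rw [← h3', ← h1, ← h2]
    group
  have h5 : x * y = (x⁻¹ * y⁻¹)⁻¹ := by rw [← h4, inv_inv]
  rw [h5]
  group

variable {G Ω : Type*} [Group G] [Fintype G] [MulAction G Ω] [Fintype Ω] [DecidableEq Ω]

omit [Fintype G] in
/-- A product of two involutions permutes... : each factor preserves the fixed-point set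
of the product. -/
theorem invol_prod_fix {x y : G} (hx : x * x = 1) (hy : y * y = 1) {c : Ω}
    (hc : (x * y) • c = c) : (x * y) • (x • c) = x • c ∧ (x * y) • (y • c) = y • c ∧
      y • c = x • c := by
  have h1 : y • c = x • c := by
    have := congrArg (fun z => x • z) hc
    simp only [← mul_smul] at this
    rw [← mul_assoc, hx, one_mul] at this
    exact this
  have h2 : (x * y) • (y • c) = y • c := by
    rw [mul_smul, ← mul_smul y y, hy, one_smul]
    exact h1.symm
  refine ⟨?_, h2, h1⟩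
  rw [← h1]
  exact h2

open Classical in
/-- Pairs of involutions whose product has exactly two fixed points. -/
theorem T2_bound (hZ : IsZassenhausGroup G Ω) {a b : Ω} (hab : a ≠ b)
    (hodd : Odd (Nat.card ↥(MulAction.stabilizer G a ⊓ MulAction.stabilizer G b : Subgroup G))) :
    2 * (((Finset.univ.filter (fun z : G => orderOf z = 2)) ×ˢ
        (Finset.univ.filter (fun z : G => orderOf z = 2))).filter
          (fun p : G × G => fixN (Ω := Ω) (p.1 * p.2) = 2)).card
      ≤ (Fintype.card Ω * Fintype.card Ω - Fintype.card Ω)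
        * (Nat.card ↥(MulAction.stabilizer G a ⊓ MulAction.stabilizer G b : Subgroup G)
          * Nat.card ↥(MulAction.stabilizer G a ⊓ MulAction.stabilizer G b : Subgroup G)
          - Nat.card ↥(MulAction.stabilizer G a ⊓ MulAction.stabilizer G b : Subgroup G)) := by
  set I := Finset.univ.filter (fun z : G => orderOf z = 2) with hI
  set A₂ := (I ×ˢ I).filter (fun p : G × G => fixN (Ω := Ω) (p.1 * p.2) = 2) with hA₂
  set e := Nat.card ↥(MulAction.stabilizer G a ⊓ MulAction.stabilizer G b : Subgroup G) with he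
  set OD := (Finset.univ : Finset Ω).offDiag with hOD
  have hsq : ∀ x ∈ I, x * x = 1 := by
    intro x hx
    rw [hI, Finset.mem_filter] at hx
    rw [← sq, ← hx.2, pow_orderOf_eq_one]
  let R : G × G → Ω × Ω → Prop := fun p q =>
    p.1 • q.1 = q.2 ∧ p.1 • q.2 = q.1 ∧ p.2 • q.1 = q.2 ∧ p.2 • q.2 = q.1
  have stepa : ∀ p ∈ A₂, 2 ≤ (OD.filter (fun q => R p q)).card := by
    intro p hp
    rw [hA₂, Finset.mem_filter, Finset.mem_product] at hp
    obtain ⟨⟨hp1, hp2⟩, hfix⟩ := hp
    unfold fixN at hfix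
    obtain ⟨c, d, hcd, hS⟩ := Finset.card_eq_two.mp hfix
    have hx2 := hsq _ hp1
    have hy2 := hsq _ hp2
    have hmem : ∀ c' : Ω, (p.1 * p.2) • c' = c' ↔ (c' = c ∨ c' = d) := by
      intro c'
      have : c' ∈ Finset.univ.filter (fun c : Ω => (p.1 * p.2) • c = c) ↔ c' ∈ ({c, d} : Finset Ω) := by
        rw [hS]
      rw [Finset.mem_filter, Finset.mem_insert, Finset.mem_singleton] at this
      simpa using this
    have hc : (p.1 * p.2) • c = c := (hmem c).mpr (Or.inl rfl)
    have hd : (p.1 * p.2) • d = d := (hmem d).mpr (Or.inr rfl)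
    have hx1 : orderOf p.1 = 2 := by
      rw [hI, Finset.mem_filter] at hp1
      exact hp1.2
    have hy1 : orderOf p.2 = 2 := by
      rw [hI, Finset.mem_filter] at hp2
      exact hp2.2
    have hswapgen : ∀ z : G, orderOf z = 2 → z * z = 1 → (z • c = c ∨ z • c = d) →
        (z • d = c ∨ z • d = d) → z • c = d ∧ z • d = c := by
      intro z hz hz2 h1 h2
      have hle := invol_fixN_le_one hZ hab hodd hz
      unfold fixN at hle
      rcases h1 with h1 | h1
      · exfalso
        rcases h2 with h2 | h2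
        · have : z • d = z • c := by rw [h2, h1]
          exact hcd (smul_left_cancel z this).symm
        · exact hcd (Finset.card_le_one.mp hle c (Finset.mem_filter.mpr ⟨Finset.mem_univ _, h1⟩) d
            (Finset.mem_filter.mpr ⟨Finset.mem_univ _, h2⟩))
      · refine ⟨h1, ?_⟩
        rw [← h1, ← mul_smul, hz2, one_smul]
    have hxc := (hmem _).mp (invol_prod_fix hx2 hy2 hc).1
    have hxd := (hmem _).mp (invol_prod_fix hx2 hy2 hd).1
    have hyc := (hmem _).mp (invol_prod_fix hx2 hy2 hc).2.1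
    have hyd := (hmem _).mp (invol_prod_fix hx2 hy2 hd).2.1
    have sx := hswapgen p.1 hx1 hx2 hxc hxd
    have sy := hswapgen p.2 hy1 hy2 hyc hyd
    have hsub : ({(c, d), (d, c)} : Finset (Ω × Ω)) ⊆ OD.filter (fun q => R p q) := by
      intro q hq
      rw [Finset.mem_insert, Finset.mem_singleton] at hq
      rw [Finset.mem_filter, hOD, Finset.mem_offDiag]
      rcases hq with rfl | rfl
      · exact ⟨⟨Finset.mem_univ _, Finset.mem_univ _, hcd⟩, sx.1, sx.2, sy.1, sy.2⟩
      · exact ⟨⟨Finset.mem_univ _, Finset.mem_univ _, Ne.symm hcd⟩, sx.2, sx.1, sy.2, sy.1⟩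
    have hne : ((c, d) : Ω × Ω) ≠ (d, c) := by
      intro h
      exact hcd (congrArg Prod.fst h)
    have := Finset.card_le_card hsub
    rw [Finset.card_pair hne] at this
    exact this
  have stepc : ∀ q ∈ OD, (A₂.filter (fun p => R p q)).card ≤ e * e - e := by
    intro q hq
    rw [hOD, Finset.mem_offDiag] at hq
    have hcm := card_move (G := G) hZ.2.1 hab (c := q.1) (d := q.2) (c' := q.2) (d' := q.1)
      hq.2.2 (Ne.symm hq.2.2)
    rw [← he] at hcm
    rw [← hcm, ← Finset.offDiag_card]
    apply Finset.card_le_card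
    intro p hp
    rw [Finset.mem_filter, hA₂, Finset.mem_filter, Finset.mem_product] at hp
    rw [Finset.mem_offDiag, Finset.mem_filter, Finset.mem_filter]
    refine ⟨⟨Finset.mem_univ _, hp.2.1, hp.2.2.1⟩, ⟨Finset.mem_univ _, hp.2.2.2.1, hp.2.2.2.2⟩, ?_⟩
    intro h12
    have h1 := hp.1.2
    rw [← h12, hsq _ hp.1.1.1, fixN_one] at h1
    exact Cfsg.Agent.Lib.helper24.zass_card_ne_two hZ h1
  calc 2 * A₂.card = ∑ _p ∈ A₂, 2 := by rw [Finset.sum_const, smul_eq_mul, mul_comm]
    _ ≤ ∑ p ∈ A₂, (OD.filter (fun q => R p q)).card := Finset.sum_le_sum stepa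
    _ = ∑ q ∈ OD, (A₂.filter (fun p => R p q)).card := by
      simp only [Finset.card_filter]
      rw [Finset.sum_comm]
    _ ≤ ∑ _q ∈ OD, (e * e - e) := Finset.sum_le_sum stepc
    _ = _ := by rw [Finset.sum_const, smul_eq_mul, hOD, Finset.offDiag_card, Finset.card_univ]

open Classical in
/-- If the product of two involutions has exactly one fixed point, both fix it. -/
theorem T1_sub {a b : Ω} (hab : a ≠ b) (p : G × G) (hp1 : orderOf p.1 = 2)
    (hp2 : orderOf p.2 = 2) (hfix : fixN (Ω := Ω) (p.1 * p.2) = 1) :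
    ∃ c : Ω, p.1 • c = c ∧ p.2 • c = c ∧ p.1 ≠ p.2 := by
  have hx2 : p.1 * p.1 = 1 := by rw [← sq, ← hp1, pow_orderOf_eq_one]
  have hy2 : p.2 * p.2 = 1 := by rw [← sq, ← hp2, pow_orderOf_eq_one]
  have hfix' := hfix
  unfold fixN at hfix
  obtain ⟨c, hS⟩ := Finset.card_eq_one.mp hfix
  have hmem : ∀ c' : Ω, (p.1 * p.2) • c' = c' ↔ c' = c := by
    intro c'
    have : c' ∈ Finset.univ.filter (fun c : Ω => (p.1 * p.2) • c = c) ↔ c' ∈ ({c} : Finset Ω) := by
      rw [hS]
    rw [Finset.mem_filter, Finset.mem_singleton] at this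
    simpa using this
  have hc : (p.1 * p.2) • c = c := (hmem c).mpr rfl
  have h1 := invol_prod_fix hx2 hy2 hc
  have hxc : p.1 • c = c := (hmem _).mp h1.1
  refine ⟨c, hxc, by rw [h1.2.2, hxc], ?_⟩
  intro h12
  rw [← h12, hx2, fixN_one] at hfix'
  have := Fintype.one_lt_card_iff.mpr ⟨a, b, hab⟩
  omega

open Classical in
/-- Odd degree: pairs of involutions whose product has exactly one fixed point. -/
theorem T1_bound (hZ : IsZassenhausGroup G Ω) {a b : Ω} (hab : a ≠ b)
    (hodd : Odd (Nat.card ↥(MulAction.stabilizer G a ⊓ MulAction.stabilizer G b : Subgroup G)))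
    (hn : Odd (Fintype.card Ω)) :
    (((Finset.univ.filter (fun z : G => orderOf z = 2)) ×ˢ
        (Finset.univ.filter (fun z : G => orderOf z = 2))).filter
          (fun p : G × G => fixN (Ω := Ω) (p.1 * p.2) = 1)).card
      ≤ Fintype.card Ω
        * (Nat.card ↥(MulAction.stabilizer G a ⊓ MulAction.stabilizer G b : Subgroup G)
          * Nat.card ↥(MulAction.stabilizer G a ⊓ MulAction.stabilizer G b : Subgroup G)
          - Nat.card ↥(MulAction.stabilizer G a ⊓ MulAction.stabilizer G b : Subgroup G)) := by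
  have hJa := (invol_fix_struct hZ hab hodd hn).1
  have hsub : ((Finset.univ.filter (fun z : G => orderOf z = 2)) ×ˢ
        (Finset.univ.filter (fun z : G => orderOf z = 2))).filter
          (fun p : G × G => fixN (Ω := Ω) (p.1 * p.2) = 1)
      ⊆ (Finset.univ : Finset Ω).biUnion
        (fun c => (Finset.univ.filter (fun z : G => orderOf z = 2 ∧ z • c = c)).offDiag) := by
    intro p hp
    rw [Finset.mem_filter, Finset.mem_product, Finset.mem_filter, Finset.mem_filter] at hp
    obtain ⟨c, h1, h2, h3⟩ := T1_sub hab p hp.1.1.2 hp.1.2.2 hp.2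
    rw [Finset.mem_biUnion]
    refine ⟨c, Finset.mem_univ _, ?_⟩
    rw [Finset.mem_offDiag, Finset.mem_filter, Finset.mem_filter]
    exact ⟨⟨Finset.mem_univ _, hp.1.1.2, h1⟩, ⟨Finset.mem_univ _, hp.1.2.2, h2⟩, h3⟩
  refine le_trans (Finset.card_le_card hsub) (le_trans Finset.card_biUnion_le ?_)
  have hterm : ∀ c ∈ (Finset.univ : Finset Ω),
      ((Finset.univ.filter (fun z : G => orderOf z = 2 ∧ z • c = c)).offDiag).card
        = Nat.card ↥(MulAction.stabilizer G a ⊓ MulAction.stabilizer G b : Subgroup G)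
          * Nat.card ↥(MulAction.stabilizer G a ⊓ MulAction.stabilizer G b : Subgroup G)
          - Nat.card ↥(MulAction.stabilizer G a ⊓ MulAction.stabilizer G b : Subgroup G) := by
    intro c _
    rw [Finset.offDiag_card, invol_fix_card hZ.2.1 a c, hJa]
  rw [Finset.sum_congr rfl hterm, Finset.sum_const, Finset.card_univ, smul_eq_mul]

open Classical in
/-- Even degree: no product of two involutions has exactly one fixed point. -/
theorem T1_empty (hZ : IsZassenhausGroup G Ω) {a b : Ω} (hab : a ≠ b)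
    (hodd : Odd (Nat.card ↥(MulAction.stabilizer G a ⊓ MulAction.stabilizer G b : Subgroup G)))
    (hn : Even (Fintype.card Ω)) :
    (((Finset.univ.filter (fun z : G => orderOf z = 2)) ×ˢ
        (Finset.univ.filter (fun z : G => orderOf z = 2))).filter
          (fun p : G × G => fixN (Ω := Ω) (p.1 * p.2) = 1)).card = 0 := by
  rw [Finset.card_eq_zero, Finset.filter_eq_empty_iff]
  intro p hp hfix
  rw [Finset.mem_product, Finset.mem_filter, Finset.mem_filter] at hp
  obtain ⟨c, h1, -, -⟩ := T1_sub hab p hp.1.2 hp.2.2 hfix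
  have h2 := invol_fixN_le_one hZ hab hodd hp.1.2
  have h3 := fixN_modEq_two (Ω := Ω) hp.1.2
  have h4 : Fintype.card Ω % 2 = 0 := Nat.even_iff.mp hn
  have h5 : fixN (Ω := Ω) p.1 = 0 := by
    unfold Nat.ModEq at h3
    omega
  exact (fixN_eq_zero_iff p.1).mp h5 c h1

open Classical in
/-- Classes of elements with two fixed points. -/
theorem classes_E (hZ : IsZassenhausGroup G Ω) {a b : Ω} (hab : a ≠ b)
    (hinv : ∀ s : G, s • a = b → s • b = a →
      ∀ h ∈ (MulAction.stabilizer G a ⊓ MulAction.stabilizer G b : Subgroup G),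
        s * h * s⁻¹ = h⁻¹)
    (hcomm : ∀ x y : G, x ∈ (MulAction.stabilizer G a ⊓ MulAction.stabilizer G b : Subgroup G) →
      y ∈ (MulAction.stabilizer G a ⊓ MulAction.stabilizer G b : Subgroup G) → x * y = y * x) :
    Nat.card ↥(MulAction.stabilizer G a ⊓ MulAction.stabilizer G b : Subgroup G) - 1
      ≤ 2 * ((Finset.univ.filter (fun g : G => fixN (Ω := Ω) g = 2)).image
        (ConjClasses.mk : G → ConjClasses G)).card := by
  obtain ⟨ES, hES⟩ : ∃ ES : Finset G, ES = (Finset.univ.filter
      (fun g : G => g ∈ (MulAction.stabilizer G a ⊓ MulAction.stabilizer G b : Subgroup G))).erase 1 :=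
    ⟨_, rfl⟩
  have hcard : ES.card
      = Nat.card ↥(MulAction.stabilizer G a ⊓ MulAction.stabilizer G b : Subgroup G) - 1 := by
    rw [hES, Finset.card_erase_of_mem
      (Finset.mem_filter.mpr ⟨Finset.mem_univ _, Subgroup.one_mem _⟩),
      Nat.card_eq_fintype_card, ← Fintype.card_subtype]
  rw [← hcard]
  have h1 := Finset.card_le_mul_card_image (f := (ConjClasses.mk : G → ConjClasses G)) ES 2 (by
    intro C hC
    obtain ⟨g, hg, rfl⟩ := Finset.mem_image.mp hC
    rw [hES, Finset.mem_erase, Finset.mem_filter] at hg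
    refine le_trans (Finset.card_le_card (t := {g, g⁻¹}) ?_) Finset.card_le_two
    intro x hx
    rw [Finset.mem_filter, hES, Finset.mem_erase, Finset.mem_filter] at hx
    rw [Finset.mem_insert, Finset.mem_singleton]
    obtain ⟨c, hc⟩ := isConj_iff.mp (ConjClasses.mk_eq_mk_iff_isConj.mp hx.2)
    have hxE := hx.1.2.2
    have hgE := hg.2.2
    have h1 : x • (c⁻¹ • a) = c⁻¹ • a := by
      have h0 : (c * x * c⁻¹) • a = a := by
        rw [hc]
        exact hgE.1
      rw [mul_smul, mul_smul] at h0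
      have := congrArg (fun z => c⁻¹ • z) h0
      simpa using this
    have h2 : x • (c⁻¹ • b) = c⁻¹ • b := by
      have h0 : (c * x * c⁻¹) • b = b := by
        rw [hc]
        exact hgE.2
      rw [mul_smul, mul_smul] at h0
      have := congrArg (fun z => c⁻¹ • z) h0
      simpa using this
    rcases Cfsg.Agent.Lib.helper24.zass_perm_of_fix hZ hab x hx.1.1 hxE.1 hxE.2 c⁻¹ h1 h2
      with ⟨k1, k2⟩ | ⟨k1, k2⟩
    · left
      have hcE : c⁻¹ ∈ (MulAction.stabilizer G a ⊓ MulAction.stabilizer G b : Subgroup G) :=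
        ⟨k1, k2⟩
      have hcx := hcomm c⁻¹ x hcE hxE
      rw [← hc]
      calc x = c * (c⁻¹ * x) := by group
        _ = c * (x * c⁻¹) := by rw [hcx]
        _ = c * x * c⁻¹ := by group
    · right
      have ca : c • a = b := by rw [← k2, smul_inv_smul]
      have cb : c • b = a := by rw [← k1, smul_inv_smul]
      have h3 := hinv c ca cb x hxE
      rw [hc] at h3
      rw [h3, inv_inv])
  refine le_trans h1 (Nat.mul_le_mul_left 2 (Finset.card_le_card ?_))
  intro C hC
  obtain ⟨g, hg, rfl⟩ := Finset.mem_image.mp hC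
  rw [hES, Finset.mem_erase, Finset.mem_filter] at hg
  exact Finset.mem_image.mpr ⟨g, Finset.mem_filter.mpr
    ⟨Finset.mem_univ _, fixN_eq_two hZ hg.1 hab hg.2.2.1 hg.2.2.2⟩, rfl⟩

open Classical in
/-- Products of two involutions without fixed points, against the number of classes of
fixed-point-free elements. -/
theorem fpf_pairs_le (I : Finset G) (hI : ∀ x ∈ I, x * x = 1) :
    ((I ×ˢ I).filter (fun p : G × G => fixN (Ω := Ω) (p.1 * p.2) = 0)).card
      ≤ ((Finset.univ.filter (fun g : G => fixN (Ω := Ω) g = 0)).image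
          (ConjClasses.mk : G → ConjClasses G)).card * Fintype.card G := by
  have h := pairs_le_classes I hI (fun g : G => fixN (Ω := Ω) g = 0)
    (fun g h' hg => by rw [fixN_conj]; exact hg)
  convert h using 2
  · ext p
    simp only [Finset.mem_filter]
  · congr 1
    ext C
    simp only [Finset.mem_image, Finset.mem_filter]

end zass

theorem arith_even (k h c₀ ι F T₁ T₂ : ℕ) (hι : ι = (k+1)*(h+1)) (H1 : ι*ι ≤ ι + F + T₁ + T₂)
    (H2 : F ≤ c₀ * ((h+1)*h*(k+1))) (H3 : T₁ ≤ (h+1)*((k+1)*k)) (H4 : 2*T₂ ≤ (h+1)*h*((k+1)*k))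
    (hh : 1 ≤ h) : k + 2 ≤ 2 * c₀ := by
  by_contra hc
  push Not at hc
  have key : (k+1)*(h+1) * (2*(k+1)*(h+1)) ≤ (k+1)*(h+1) * (2 + 2*c₀*h + 2*k + h*k) := by
    subst hι
    nlinarith [H1, H2, H3, H4]
  have key2 := Nat.le_of_mul_le_mul_left key (by positivity)
  have h5 : 2*c₀*h ≤ (k+1)*h := Nat.mul_le_mul_right h (by omega)
  nlinarith

theorem arith_odd (k h c₀ ι F T₁ T₂ : ℕ) (hι : ι = (k+1)*h) (H1 : ι*ι ≤ ι + F + T₁ + T₂)
    (H2 : F ≤ c₀ * ((h+1)*h*(k+1))) (H3 : T₁ = 0) (H4 : 2*T₂ ≤ (h+1)*h*((k+1)*k))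
    (hk : Even k) (hlt : 2 * (k + 1) < h - 1) : k + 2 ≤ 2 * c₀ := by
  by_contra hc
  push Not at hc
  have hc' : 2 * c₀ ≤ k := by
    obtain ⟨j, hj⟩ := hk
    omega
  have hh : 1 ≤ h := by omega
  have key : (k+1)*h * (2*(k+1)*h) ≤ (k+1)*h * (2 + 2*c₀*(h+1) + (h+1)*k) := by
    subst hι
    subst H3
    nlinarith [H1, H2, H4]
  have key2 := Nat.le_of_mul_le_mul_left key (by positivity)
  have h5 : 2*c₀*(h+1) ≤ k*(h+1) := Nat.mul_le_mul_right (h+1) hc'
  have h6 : k + 3 ≤ h := by omega
  nlinarith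

end Cfsg.Agent.Lib.helper2.ZassCount
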