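import Cfsg.Agent.Lib.helper2.ZassHall

set_option autoImplicit false

namespace Cfsg.Agent.Lib.helper2.ZassCount

open Cfsg
open scoped Pointwise

universe u v

/-- Existence of the Frobenius kernel of a point stabiliser of a Zassenhaus group. -/
theorem exists_kernel {G : Type u} {Ω : Type v} [Group G] [Finite G] [MulAction G Ω] [Fintype Ω]
    (hZ : IsZassenhausGroup G Ω) {a b : Ω} (hab : a ≠ b) :
    ∃ K : Subgroup G, K ≤ MulAction.stabilizer G a ∧ Nat.card K + 1 = Fintype.card Ω ∧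
      ∀ u ∈ K, u ≠ 1 → ∀ c : Ω, u • c = c → c = a := by
  classical
  haveI : Fintype G := Fintype.ofFinite G
  have h3 := hZ.2.2.1
  have h2t : ∀ {a b c d : Ω}, a ≠ b → c ≠ d → ∃ g : G, g • a = c ∧ g • b = d :=
    MulAction.is_two_pretransitive_iff.mp hZ.2.1
  set M := MulAction.stabilizer G a with hM
  set E := (MulAction.stabilizer G a ⊓ MulAction.stabilizer G b : Subgroup G) with hE
  have hEM : E ≤ M := inf_le_left
  set EM : Subgroup M := E.subgroupOf M with hEMdef
  have hEne : ∃ g ∈ E, g ≠ 1 := exists_E_ne_one hZ hab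
  obtain ⟨c, hca, hcb⟩ : ∃ c : Ω, c ≠ a ∧ c ≠ b := by
    by_contra hcon
    push Not at hcon
    have : Fintype.card Ω = 2 := by
      have h1 : (Finset.univ : Finset Ω) = {a, b} := by
        ext d
        simp only [Finset.mem_univ, Finset.mem_insert, Finset.mem_singleton, true_iff]
        by_cases hd : d = a
        · left
          exact hd
        · right
          exact hcon d hd
      rw [← Finset.card_univ, h1, Finset.card_pair hab]
    exact Cfsg.Agent.Lib.helper24.zass_card_ne_two hZ this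
  have hfrob : IsFrobeniusComplement EM := by
    refine ⟨?_, ?_, ?_⟩
    · intro h
      obtain ⟨g, hg, hg1⟩ := hEne
      have : (⟨g, hEM hg⟩ : M) ∈ EM := by
        rw [hEMdef, Subgroup.mem_subgroupOf]
        exact hg
      rw [h, Subgroup.mem_bot] at this
      exact hg1 (congrArg Subtype.val this)
    · intro h
      obtain ⟨x, hxa, hxb⟩ := h2t hab (Ne.symm hca)
      have : (⟨x, hxa⟩ : M) ∈ EM := by
        rw [h]
        exact Subgroup.mem_top _
      rw [hEMdef, Subgroup.mem_subgroupOf] at this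
      have h1 : x • b = b := this.2
      exact hcb (by rw [← hxb, h1])
    · intro g hg
      rw [eq_bot_iff]
      intro k hk
      rw [Subgroup.mem_bot]
      obtain ⟨hk1, hk2⟩ := Subgroup.mem_inf.mp hk
      have hk1' : (k : G) ∈ E := by
        have := hk1
        rw [hEMdef, Subgroup.mem_subgroupOf] at this
        exact this
      have hk3 : g⁻¹ * k * g ∈ EM := by
        rw [Subgroup.mem_pointwise_smul_iff_inv_smul_mem] at hk2
        simpa [MulAut.smul_def, mul_assoc] using hk2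
      rw [hEMdef, Subgroup.mem_subgroupOf] at hk3
      have hgb : (g : G) • b ≠ b := by
        intro h
        apply hg
        rw [hEMdef, Subgroup.mem_subgroupOf]
        exact ⟨g.2, h⟩
      have hgba : (g : G) • b ≠ a := by
        intro h
        apply hab
        have : (g : G) • b = (g : G) • a := by rw [h]; exact g.2.symm
        exact (smul_left_cancel _ this).symm
      have hkgb : (k : G) • ((g : G) • b) = (g : G) • b := by
        have h1 : ((g : G)⁻¹ * (k : G) * (g : G)) • b = b := hk3.2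
        rw [mul_smul, mul_smul, inv_smul_eq_iff] at h1
        exact h1
      exact Subtype.ext
        (h3 (k : G) a b ((g : G) • b) hab (Ne.symm hgb) (Ne.symm hgba) hk1'.1 hk1'.2 hkgb)
  obtain ⟨Nk, hNset, hNn, hNc⟩ := Cfsg.Agent.Lib.helper1.frobenius_theorem EM hfrob
  refine ⟨Nk.map M.subtype, ?_, ?_, ?_⟩
  · intro x hx
    obtain ⟨y, _, rfl⟩ := Subgroup.mem_map.mp hx
    exact y.2
  · rw [Subgroup.card_map_of_injective (Subgroup.subtype_injective _)]
    have h1 := hNc.card_mul_card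
    have hcardEM : Nat.card EM = Nat.card E :=
      Nat.card_congr (Subgroup.subgroupOfEquivOfLe hEM).toEquiv
    have hcardM : Nat.card M = (Fintype.card Ω - 1) * Nat.card E := by
      rw [← card_stab1 hZ.2.1 hab a, Nat.card_eq_fintype_card, ← Fintype.card_subtype]
      rfl
    rw [hcardEM, hcardM] at h1
    have hEpos : 0 < Nat.card E := Nat.card_pos
    have h2 : Nat.card Nk = Fintype.card Ω - 1 := Nat.eq_of_mul_eq_mul_right hEpos h1
    have hn2 : 2 ≤ Fintype.card Ω := Fintype.one_lt_card_iff.mpr ⟨a, b, hab⟩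
    omega
  · intro u hu hu1 d hd
    obtain ⟨u', hu', rfl⟩ := Subgroup.mem_map.mp hu
    by_contra hda
    have hu'1 : u' ≠ 1 := by
      intro h
      apply hu1
      rw [h]
      rfl
    have hK : u' ∈ Cfsg.frobeniusKernel EM := by
      rw [← hNset]
      exact hu'
    rcases hK with h1 | h1
    · exact hu'1 h1
    · obtain ⟨m, hma, hmb⟩ := h2t hab (Ne.symm hda)
      apply h1 ⟨m, hma⟩
      rw [Subgroup.mem_pointwise_smul_iff_inv_smul_mem]
      have e1 : (MulAut.conj (⟨m, hma⟩ : M))⁻¹ • u' = (⟨m, hma⟩ : M)⁻¹ * u' * ⟨m, hma⟩ := by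
        simp [MulAut.smul_def, mul_assoc]
      rw [e1, hEMdef, Subgroup.mem_subgroupOf]
      refine ⟨?_, ?_⟩
      · exact ((⟨m, hma⟩ : M)⁻¹ * u' * ⟨m, hma⟩).2
      · show (m⁻¹ * (u' : G) * m) • b = b
        have hd' : (u' : G) • d = d := hd
        rw [mul_smul, mul_smul, hmb, hd', ← hmb, inv_smul_smul]

/-- A normal subgroup containing a non-identity element of `G_{a,b}` contains the kernel of
`G_a`. -/
theorem kernel_le_normal {G Ω : Type*} [Group G] [Finite G] [MulAction G Ω] [Fintype Ω]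
    (hZ : IsZassenhausGroup G Ω) {a b : Ω} (hab : a ≠ b)
    (K : Subgroup G) (hKa : K ≤ MulAction.stabilizer G a)
    (hKcard : Nat.card K + 1 = Fintype.card Ω)
    (hKfix : ∀ u ∈ K, u ≠ 1 → ∀ c : Ω, u • c = c → c = a)
    (N : Subgroup G) [N.Normal] (x : G) (hxN : x ∈ N) (hx1 : x ≠ 1) (hxa : x • a = a)
    (hxb : x • b = b) : K ≤ N := by
  have h3 := hZ.2.2.1
  have hxia : x⁻¹ • a = a := by rw [inv_smul_eq_iff, hxa]
  have hconjK : ∀ u ∈ K, x * u * x⁻¹ ∈ K := by
    intro u hu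
    by_cases hu1 : u = 1
    · rw [hu1]
      simp
    · apply mem_kernel hZ hab K hKa hKcard hKfix
      · rw [mul_smul, mul_smul, hxia, hKa hu, hxa]
      · intro c hc
        rw [mul_smul, mul_smul] at hc
        have h1 : u • (x⁻¹ • c) = x⁻¹ • c := by
          have := congrArg (fun z => x⁻¹ • z) hc
          simpa using this
        have h2 := hKfix u hu hu1 _ h1
        rw [inv_smul_eq_iff, hxa] at h2
        exact h2
  let f : K → ↥(K ⊓ N) := fun u => ⟨x * (u : G) * x⁻¹ * (u : G)⁻¹, by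
    refine ⟨K.mul_mem (hconjK u u.2) (K.inv_mem u.2), ?_⟩
    have : x * (u : G) * x⁻¹ * (u : G)⁻¹ = x * ((u : G) * x⁻¹ * (u : G)⁻¹) := by group
    rw [this]
    exact N.mul_mem hxN (Subgroup.Normal.conj_mem inferInstance _ (N.inv_mem hxN) _)⟩
  have hf : Function.Injective f := by
    intro u v huv
    have h1 : x * (u : G) * x⁻¹ * (u : G)⁻¹ = x * (v : G) * x⁻¹ * (v : G)⁻¹ :=
      congrArg Subtype.val huv
    by_contra hne
    have hw1 : (v : G)⁻¹ * (u : G) ≠ 1 := by
      intro h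
      apply hne
      apply Subtype.ext
      exact (inv_mul_eq_one.mp h).symm
    have hwK : (v : G)⁻¹ * (u : G) ∈ K := K.mul_mem (K.inv_mem v.2) u.2
    have hcomm : ((v : G)⁻¹ * (u : G)) * x = x * ((v : G)⁻¹ * (u : G)) := by
      have h2 : (u : G) * x⁻¹ * (u : G)⁻¹ = (v : G) * x⁻¹ * (v : G)⁻¹ := by
        have := congrArg (fun z => x⁻¹ * z) h1
        simpa [mul_assoc] using this
      have h3' : (v : G)⁻¹ * (u : G) * x⁻¹ = x⁻¹ * ((v : G)⁻¹ * (u : G)) := by
        calc (v : G)⁻¹ * (u : G) * x⁻¹ = (v : G)⁻¹ * ((u : G) * x⁻¹ * (u : G)⁻¹) * (u : G) := by group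
          _ = (v : G)⁻¹ * ((v : G) * x⁻¹ * (v : G)⁻¹) * (u : G) := by rw [h2]
          _ = x⁻¹ * ((v : G)⁻¹ * (u : G)) := by group
      calc ((v : G)⁻¹ * (u : G)) * x = x * (x⁻¹ * ((v : G)⁻¹ * (u : G))) * x := by group
        _ = x * ((v : G)⁻¹ * (u : G) * x⁻¹) * x := by rw [h3']
        _ = x * ((v : G)⁻¹ * (u : G)) := by group
    have hwb : ((v : G)⁻¹ * (u : G)) • b ≠ b := fun h => hab (hKfix _ hwK hw1 b h).symm
    have hwba : ((v : G)⁻¹ * (u : G)) • b ≠ a := by
      intro h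
      apply hab
      have : ((v : G)⁻¹ * (u : G)) • b = ((v : G)⁻¹ * (u : G)) • a := by
        rw [h]
        exact (hKa hwK).symm
      exact (smul_left_cancel _ this).symm
    have hxwb : x • (((v : G)⁻¹ * (u : G)) • b) = ((v : G)⁻¹ * (u : G)) • b := by
      rw [← mul_smul, ← hcomm, mul_smul, hxb]
    exact hx1 (h3 x a b _ hab (Ne.symm hwb) (Ne.symm hwba) hxa hxb hxwb)
  have hcard : Nat.card K ≤ Nat.card ↥(K ⊓ N) := Nat.card_le_card_of_injective f hf
  have heq : K ⊓ N = K := Subgroup.eq_of_le_of_card_ge inf_le_left hcard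
  rw [← heq]
  exact inf_le_right

/-- A non-trivial normal subgroup of a Zassenhaus group is transitive. -/
theorem normal_trans {G Ω : Type*} [Group G] [MulAction G Ω]
    (hZ : IsZassenhausGroup G Ω) (N : Subgroup G) [N.Normal] (hN : N ≠ ⊥) (p q : Ω) :
    ∃ y ∈ N, y • p = q := by
  have h2t : ∀ {a b c d : Ω}, a ≠ b → c ≠ d → ∃ g : G, g • a = c ∧ g • b = d :=
    MulAction.is_two_pretransitive_iff.mp hZ.2.1
  by_cases hpq : p = q
  · exact ⟨1, N.one_mem, by rw [one_smul, hpq]⟩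
  · obtain ⟨x, hx1⟩ := (Subgroup.ne_bot_iff_exists_ne_one).mp hN
    have hx1' : (x : G) ≠ 1 := fun h => hx1 (Subtype.ext h)
    haveI := hZ.1
    obtain ⟨c, hc⟩ : ∃ c : Ω, (x : G) • c ≠ c := by
      by_contra hcon
      push Not at hcon
      apply hx1'
      apply FaithfulSMul.eq_of_smul_eq_smul (α := Ω)
      intro c
      rw [one_smul, hcon c]
    obtain ⟨g, hgc, hgxc⟩ := h2t (Ne.symm hc) hpq
    refine ⟨g * (x : G) * g⁻¹, Subgroup.Normal.conj_mem inferInstance _ x.2 g, ?_⟩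
    rw [mul_smul, mul_smul, ← hgc, inv_smul_smul, hgxc]

/-- A normal subgroup containing a non-identity element with two fixed points is doubly
transitive. -/
theorem normal_two_trans {G : Type u} {Ω : Type v} [Group G] [Finite G] [MulAction G Ω]
    [Fintype Ω] (hZ : IsZassenhausGroup G Ω) (N : Subgroup G) [N.Normal] (x : G) (hxN : x ∈ N)
    (hx1 : x ≠ 1) {c₀ d₀ : Ω} (hcd₀ : c₀ ≠ d₀) (hxc : x • c₀ = c₀) (hxd : x • d₀ = d₀) :
    ∀ a b c d : Ω, a ≠ b → c ≠ d → ∃ y ∈ N, y • a = c ∧ y • b = d := by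
  have h2t : ∀ {a b c d : Ω}, a ≠ b → c ≠ d → ∃ g : G, g • a = c ∧ g • b = d :=
    MulAction.is_two_pretransitive_iff.mp hZ.2.1
  have hN : N ≠ ⊥ := by
    intro h
    rw [h, Subgroup.mem_bot] at hxN
    exact hx1 hxN
  intro a b c d hab hcd
  obtain ⟨y₁, hy₁N, hy₁⟩ := normal_trans hZ N hN a c
  have hb' : y₁ • b ≠ c := by
    intro h
    apply hab
    rw [← hy₁] at h
    exact (smul_left_cancel _ h).symm
  obtain ⟨K, hKc, hKcard, hKfix⟩ := exists_kernel hZ hcd
  obtain ⟨g, hgc, hgd⟩ := h2t hcd₀ hcd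
  have hxcd : g * x * g⁻¹ ∈ N := Subgroup.Normal.conj_mem inferInstance _ hxN g
  have hKN : K ≤ N := kernel_le_normal hZ hcd K hKc hKcard hKfix N (g * x * g⁻¹) hxcd
    (by
      intro h
      apply hx1
      have : x = g⁻¹ * (g * x * g⁻¹) * g := by group
      rw [this, h]
      group)
    (by rw [mul_smul, mul_smul, ← hgc, inv_smul_smul, hxc])
    (by rw [mul_smul, mul_smul, ← hgd, inv_smul_smul, hxd])
  obtain ⟨y₂, hy₂K, hy₂⟩ := kernel_trans K hKc hKcard hKfix hb' (Ne.symm hcd)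
  refine ⟨y₂ * y₁, N.mul_mem (hKN hy₂K) hy₁N, ?_, ?_⟩
  · rw [mul_smul, hy₁]
    exact hKc hy₂K
  · rw [mul_smul, hy₂]

/-- A non-trivial normal subgroup of a Zassenhaus group cannot act as a Frobenius group. -/
theorem frob_case {G : Type u} {Ω : Type v} [Group G] [Finite G] [MulAction G Ω] [Fintype Ω]
    (hZ : IsZassenhausGroup G Ω) (N : Subgroup G) [N.Normal] (hN : N ≠ ⊥)
    (hB : ∀ y ∈ N, y ≠ 1 → ∀ c d : Ω, c ≠ d → y • c = c → y • d = d → False) : False := by
  classical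
  have htr := normal_trans hZ N hN
  have hNt : MulAction.IsPretransitive ↥N Ω := ⟨fun p q => by
    obtain ⟨y, hy, h⟩ := htr p q
    exact ⟨⟨y, hy⟩, h⟩⟩
  obtain ⟨a₀, ha₀⟩ := hZ.2.2.2.2 N inferInstance hNt
  obtain ⟨H₀, hH₀⟩ : ∃ H₀ : Subgroup ↥N, H₀ = MulAction.stabilizer ↥N a₀ := ⟨_, rfl⟩
  rw [← hH₀] at ha₀
  obtain ⟨g₀, -, a', b', hab', -, -⟩ := hZ.2.2.2.1
  obtain ⟨q, hq⟩ : ∃ q : Ω, q ≠ a₀ := by
    by_cases h : a' = a₀
    · exact ⟨b', by rw [← h]; exact Ne.symm hab'⟩
    · exact ⟨a', h⟩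
  have hconjmem : ∀ (g k : ↥N), k ∈ MulAut.conj g • H₀ ↔
      (k : G) • ((g : G) • a₀) = (g : G) • a₀ := by
    intro g k
    rw [Subgroup.mem_pointwise_smul_iff_inv_smul_mem]
    have e1 : (MulAut.conj g)⁻¹ • k = g⁻¹ * k * g := by simp [MulAut.smul_def, mul_assoc]
    rw [e1, hH₀, MulAction.mem_stabilizer_iff]
    show ((g : G)⁻¹ * (k : G) * (g : G)) • a₀ = a₀ ↔ _
    rw [mul_smul, mul_smul, inv_smul_eq_iff]
  have hfrob : IsFrobeniusComplement H₀ := by
    refine ⟨ha₀, ?_, ?_⟩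
    · intro h
      obtain ⟨y, hy, hyq⟩ := htr a₀ q
      have : (⟨y, hy⟩ : ↥N) ∈ H₀ := by
        rw [h]
        exact Subgroup.mem_top _
      rw [hH₀, MulAction.mem_stabilizer_iff] at this
      have h1 : y • a₀ = a₀ := this
      exact hq (by rw [← hyq, h1])
    · intro g hg
      rw [eq_bot_iff]
      intro k hk
      rw [Subgroup.mem_bot]
      obtain ⟨hk1, hk2⟩ := Subgroup.mem_inf.mp hk
      rw [hconjmem] at hk2
      have hk1' : (k : G) • a₀ = a₀ := by
        rw [hH₀, MulAction.mem_stabilizer_iff] at hk1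
        exact hk1
      have hga : (g : G) • a₀ ≠ a₀ := by
        intro h
        apply hg
        rw [hH₀, MulAction.mem_stabilizer_iff]
        exact h
      by_contra hk0
      exact hB (k : G) k.2 (fun h => hk0 (Subtype.ext h)) a₀ ((g : G) • a₀) (Ne.symm hga) hk1' hk2
  obtain ⟨L₀, hLset, hLn, hLc⟩ := Cfsg.Agent.Lib.helper1.frobenius_theorem H₀ hfrob
  have hchar : ∀ l : ↥N, l ∈ L₀ ↔ (l = 1 ∨ ∀ c : Ω, (l : G) • c ≠ c) := by
    intro l
    have h1 : l ∈ L₀ ↔ l ∈ Cfsg.frobeniusKernel H₀ := by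
      rw [← hLset]
      rfl
    rw [h1]
    constructor
    · rintro (h | h)
      · left
        exact h
      · right
        intro c hc
        obtain ⟨g, hg, hgc⟩ := htr a₀ c
        apply h ⟨g, hg⟩
        rw [hconjmem]
        show (l : G) • (g • a₀) = g • a₀
        rw [hgc, hc]
    · rintro (h | h)
      · left
        exact h
      · right
        intro g hmem
        rw [hconjmem] at hmem
        exact h _ hmem
  obtain ⟨L, hL⟩ : ∃ L : Subgroup G, L = L₀.map N.subtype := ⟨_, rfl⟩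
  have hLmem : ∀ l : G, l ∈ L ↔ (l ∈ N ∧ (l = 1 ∨ ∀ c : Ω, l • c ≠ c)) := by
    intro l
    rw [hL]
    constructor
    · intro hl
      obtain ⟨l₀, hl₀, rfl⟩ := Subgroup.mem_map.mp hl
      refine ⟨l₀.2, ?_⟩
      rcases (hchar l₀).mp hl₀ with h | h
      · left
        rw [h]
        rfl
      · right
        exact h
    · rintro ⟨hlN, h⟩
      refine Subgroup.mem_map.mpr ⟨⟨l, hlN⟩, ?_, rfl⟩
      rw [hchar]
      rcases h with h | h
      · left
        exact Subtype.ext h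
      · right
        exact h
  have hLnormal : L.Normal := by
    constructor
    intro l hl g
    rw [hLmem] at hl ⊢
    refine ⟨Subgroup.Normal.conj_mem inferInstance _ hl.1 g, ?_⟩
    rcases hl.2 with h | h
    · left
      rw [h]
      group
    · right
      intro c hc
      apply h (g⁻¹ • c)
      rw [mul_smul, mul_smul] at hc
      have := congrArg (fun z => g⁻¹ • z) hc
      simpa using this
  have hcardL₀ : Nat.card L₀ = Fintype.card Ω := by
    have h1 := hLc.card_mul_card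
    have h2 := MulAction.index_stabilizer_of_transitive ↥N a₀
    have h3 := Subgroup.card_mul_index H₀
    rw [hH₀, h2, ← hH₀] at h3
    rw [← h3, Nat.card_eq_fintype_card (α := Ω)] at h1
    have hpos : 0 < Nat.card H₀ := Nat.card_pos
    have : Nat.card L₀ * Nat.card H₀ = Fintype.card Ω * Nat.card H₀ := by rw [h1, mul_comm]
    exact Nat.eq_of_mul_eq_mul_right hpos this
  have hLtrans : MulAction.IsPretransitive ↥L Ω := by
    constructor
    intro p q
    let f : L₀ → Ω := fun l => ((l : ↥N) : G) • p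
    have hf : Function.Injective f := by
      intro l l' hll
      have h1 : ((l : ↥N) : G) • p = ((l' : ↥N) : G) • p := hll
      have h2 : (((l' : ↥N)⁻¹ * (l : ↥N) : ↥N) : G) • p = p := by
        show (((l' : ↥N) : G)⁻¹ * ((l : ↥N) : G)) • p = p
        rw [mul_smul, h1, inv_smul_smul]
      have h3 : (l' : ↥N)⁻¹ * (l : ↥N) ∈ L₀ := L₀.mul_mem (L₀.inv_mem l'.2) l.2
      rcases (hchar _).mp h3 with h | h
      · apply Subtype.ext
        exact (inv_mul_eq_one.mp h).symm
      · exact absurd h2 (h p)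
    have hbij := hf.bijective_of_nat_card_le (by rw [hcardL₀, Nat.card_eq_fintype_card])
    obtain ⟨l, hl⟩ := hbij.2 q
    have hlL : ((l : ↥N) : G) ∈ L := by
      rw [hL]
      exact Subgroup.mem_map.mpr ⟨l.1, l.2, rfl⟩
    exact ⟨⟨((l : ↥N) : G), hlL⟩, hl⟩
  obtain ⟨a₁, ha₁⟩ := hZ.2.2.2.2 L hLnormal hLtrans
  apply ha₁
  rw [eq_bot_iff]
  intro l hl
  rw [Subgroup.mem_bot]
  have hl1 : ((l : ↥L) : G) • a₁ = a₁ := hl
  have hl2 := (hLmem (l : G)).mp l.2
  rcases hl2.2 with h | h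
  · exact Subtype.ext h
  · exact absurd hl1 (h a₁)

/-- A doubly transitive normal subgroup of a Zassenhaus group has no regular normal
subgroup. -/
theorem no_regular_normal {G Ω : Type*} [Group G] [MulAction G Ω] [Fintype Ω]
    (hZ : IsZassenhausGroup G Ω) (N : Subgroup G) [N.Normal]
    (h2N : ∀ a b c d : Ω, a ≠ b → c ≠ d → ∃ y ∈ N, y • a = c ∧ y • b = d)
    (L : Subgroup G) (hLN : L ≤ N) (hLnorm : ∀ l ∈ L, ∀ y ∈ N, y * l * y⁻¹ ∈ L)
    (hLtrans : ∀ p q : Ω, ∃ l ∈ L, l • p = q)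
    (hLreg : ∀ l ∈ L, l ≠ 1 → ∀ c : Ω, l • c ≠ c) : False := by
  classical
  have h3 := hZ.2.2.1
  obtain ⟨g₀, -, a, b, hab, -, -⟩ := hZ.2.2.2.1
  obtain ⟨c, hca, hcb⟩ : ∃ c : Ω, c ≠ a ∧ c ≠ b := by
    by_contra hcon
    push Not at hcon
    have : Fintype.card Ω = 2 := by
      have h1 : (Finset.univ : Finset Ω) = {a, b} := by
        ext d
        simp only [Finset.mem_univ, Finset.mem_insert, Finset.mem_singleton, true_iff]
        by_cases hd : d = a
        · left
          exact hd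
        · right
          exact hcon d hd
      rw [← Finset.card_univ, h1, Finset.card_pair hab]
    exact Cfsg.Agent.Lib.helper24.zass_card_ne_two hZ this
  have hconjtr : ∀ l ∈ L, l ≠ 1 → ∀ l' ∈ L, l' ≠ 1 → ∃ y ∈ N, y * l * y⁻¹ = l' := by
    intro l hl hl1 l' hl' hl'1
    obtain ⟨y, hyN, hya, hyl⟩ := h2N a (l • a) a (l' • a) (Ne.symm (hLreg l hl hl1 a))
      (Ne.symm (hLreg l' hl' hl'1 a))
    refine ⟨y, hyN, ?_⟩
    have hyia : y⁻¹ • a = a := by rw [inv_smul_eq_iff, hya]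
    have h1 : (l'⁻¹ * (y * l * y⁻¹)) • a = a := by
      rw [mul_smul, mul_smul, mul_smul, hyia, hyl, inv_smul_smul]
    have h2 : l'⁻¹ * (y * l * y⁻¹) ∈ L := L.mul_mem (L.inv_mem hl') (hLnorm l hl y hyN)
    by_contra hne
    have h4 : l'⁻¹ * (y * l * y⁻¹) ≠ 1 := by
      intro h
      apply hne
      exact (inv_mul_eq_one.mp h).symm
    exact hLreg _ h2 h4 a h1
  have hLnormal : L.Normal := by
    constructor
    intro l hl g
    by_cases hl1 : l = 1
    · rw [hl1]
      simp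
    by_cases hα : ∃ l₁ ∈ L, l₁ ≠ 1 ∧ g * l₁ * g⁻¹ ∈ L
    · obtain ⟨l₁, hl₁, hl₁1, hgl₁⟩ := hα
      obtain ⟨y, hyN, hy⟩ := hconjtr l₁ hl₁ hl₁1 l hl hl1
      have : g * l * g⁻¹ = (g * y * g⁻¹) * (g * l₁ * g⁻¹) * (g * y * g⁻¹)⁻¹ := by
        rw [← hy]
        group
      rw [this]
      exact hLnorm _ hgl₁ _ (Subgroup.Normal.conj_mem inferInstance _ hyN g)
    · exfalso
      push Not at hα
      have hcomm : ∀ l₁ ∈ L, ∀ l₂ ∈ L, l₁ * (g * l₂ * g⁻¹) = (g * l₂ * g⁻¹) * l₁ := by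
        intro l₁ hl₁ l₂ hl₂
        have hg1 : g⁻¹ * l₁ * g ∈ N := by
          have := Subgroup.Normal.conj_mem (inferInstance : N.Normal) _ (hLN hl₁) g⁻¹
          simpa using this
        have hl₃ : (g⁻¹ * l₁ * g) * l₂ * (g⁻¹ * l₁ * g)⁻¹ * l₂⁻¹ ∈ L :=
          L.mul_mem (hLnorm l₂ hl₂ _ hg1) (L.inv_mem hl₂)
        have hc : g * ((g⁻¹ * l₁ * g) * l₂ * (g⁻¹ * l₁ * g)⁻¹ * l₂⁻¹) * g⁻¹ ∈ L := by
          have e : g * ((g⁻¹ * l₁ * g) * l₂ * (g⁻¹ * l₁ * g)⁻¹ * l₂⁻¹) * g⁻¹
              = l₁ * ((g * l₂ * g⁻¹) * l₁⁻¹ * (g * l₂ * g⁻¹)⁻¹) := by group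
          rw [e]
          exact L.mul_mem hl₁ (hLnorm _ (L.inv_mem hl₁) _
            (Subgroup.Normal.conj_mem inferInstance _ (hLN hl₂) g))
        have h1 : (g⁻¹ * l₁ * g) * l₂ * (g⁻¹ * l₁ * g)⁻¹ * l₂⁻¹ = 1 := by
          by_contra hne
          exact hα _ hl₃ hne hc
        have h2 : (g⁻¹ * l₁ * g) * l₂ = l₂ * (g⁻¹ * l₁ * g) := by
          have := congrArg (fun z => z * l₂ * (g⁻¹ * l₁ * g)) h1
          simpa [mul_assoc] using this
        calc l₁ * (g * l₂ * g⁻¹) = g * ((g⁻¹ * l₁ * g) * l₂) * g⁻¹ := by group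
          _ = g * (l₂ * (g⁻¹ * l₁ * g)) * g⁻¹ := by rw [h2]
          _ = (g * l₂ * g⁻¹) * l₁ := by group
      obtain ⟨l₂, hl₂, hl₂a⟩ := hLtrans a b
      have hl₂1 : l₂ ≠ 1 := by
        intro h
        rw [h, one_smul] at hl₂a
        exact hab hl₂a
      obtain ⟨l'', hl''⟩ : ∃ l'' : G, l'' = g * l₂ * g⁻¹ := ⟨_, rfl⟩
      have hc'' : ∀ l₁ ∈ L, l₁ * l'' = l'' * l₁ := by
        intro l₁ hl₁
        rw [hl'']
        exact hcomm l₁ hl₁ l₂ hl₂
      have hl''fix : ∀ p : Ω, l'' • p ≠ p := by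
        intro p hp
        rw [hl'', mul_smul, mul_smul] at hp
        have := congrArg (fun z => g⁻¹ • z) hp
        simp only [inv_smul_smul] at this
        exact hLreg l₂ hl₂ hl₂1 _ this
      have hl''L : l'' ∉ L := by
        rw [hl'']
        exact hα l₂ hl₂ hl₂1
      obtain ⟨u, hu, hua⟩ := hLtrans a (l'' • a)
      have hu1 : u ≠ 1 := by
        intro h
        rw [h, one_smul] at hua
        exact hl''fix a hua.symm
      have hw : ∀ l₁ ∈ L, (u⁻¹ * l'') • (l₁ • a) = (u⁻¹ * l₁ * u) • a := by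
        intro l₁ hl₁
        calc (u⁻¹ * l'') • (l₁ • a) = u⁻¹ • ((l'' * l₁) • a) := by rw [mul_smul, mul_smul]
          _ = u⁻¹ • ((l₁ * l'') • a) := by rw [hc'' l₁ hl₁]
          _ = u⁻¹ • (l₁ • (u • a)) := by rw [mul_smul, hua]
          _ = (u⁻¹ * l₁ * u) • a := by rw [mul_smul, mul_smul]
      have hwa : (u⁻¹ * l'') • a = a := by rw [mul_smul, ← hua, inv_smul_smul]
      have hwua : (u⁻¹ * l'') • (u • a) = u • a := by
        rw [hw u hu]
        congr 1
        group
      have hua' : u • a ≠ a := hLreg u hu hu1 a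
      have hw1 : u⁻¹ * l'' ≠ 1 := by
        intro h
        apply hl''L
        have : u = l'' := inv_mul_eq_one.mp h
        rw [← this]
        exact hu
      by_cases hi : ∃ l₁ ∈ L, l₁ ≠ 1 ∧ l₁ ≠ u ∧ l₁ * u = u * l₁
      · obtain ⟨l₁, hl₁, hl₁1, hl₁u, hl₁c⟩ := hi
        have hwl : (u⁻¹ * l'') • (l₁ • a) = l₁ • a := by
          rw [hw l₁ hl₁]
          congr 1
          rw [mul_assoc, hl₁c, ← mul_assoc, inv_mul_cancel, one_mul]
        have hl₁a : l₁ • a ≠ a := hLreg l₁ hl₁ hl₁1 a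
        have hl₁ua : l₁ • a ≠ u • a := by
          intro h
          apply hl₁u
          have h1 : (u⁻¹ * l₁) • a = a := by rw [mul_smul, h, inv_smul_smul]
          by_contra hne
          exact hLreg _ (L.mul_mem (L.inv_mem hu) hl₁)
            (fun h' => hne (inv_mul_eq_one.mp h').symm) a h1
        exact hw1 (h3 _ a (u • a) (l₁ • a) (Ne.symm hua') (Ne.symm hl₁ua) (Ne.symm hl₁a)
          hwa hwua hwl)
      · push Not at hi
        have hu2 : u * u = 1 := by
          by_contra hne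
          have h1 : u * u ≠ u := by
            intro h
            apply hu1
            have := congrArg (fun z => u⁻¹ * z) h
            simpa using this
          exact hi (u * u) (L.mul_mem hu hu) hne h1 (by group)
        have hsq : ∀ l₁ ∈ L, l₁ * l₁ = 1 := by
          intro l₁ hl₁
          by_cases h1 : l₁ = 1
          · rw [h1]
            simp
          · obtain ⟨y, _, hy⟩ := hconjtr u hu hu1 l₁ hl₁ h1
            rw [← hy]
            calc y * u * y⁻¹ * (y * u * y⁻¹) = y * (u * u) * y⁻¹ := by group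
              _ = 1 := by rw [hu2]; group
        have hab' : ∀ l₁ ∈ L, l₁ * u = u * l₁ := by
          intro l₁ hl₁
          have h1 := hsq (l₁ * u) (L.mul_mem hl₁ hu)
          have h2 := hsq l₁ hl₁
          have hui : u⁻¹ = u := inv_eq_of_mul_eq_one_left hu2
          have hli : l₁⁻¹ = l₁ := inv_eq_of_mul_eq_one_left h2
          have : l₁ * u = (l₁ * u)⁻¹ := (inv_eq_of_mul_eq_one_left h1).symm
          rw [this, mul_inv_rev, hui, hli]
        have hall : ∀ l₁ ∈ L, l₁ = 1 ∨ l₁ = u := by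
          intro l₁ hl₁
          by_contra hcon
          push Not at hcon
          exact hi l₁ hl₁ hcon.1 hcon.2 (hab' l₁ hl₁)
        obtain ⟨lb, hlb, hlba⟩ := hLtrans a b
        obtain ⟨lc, hlc, hlca⟩ := hLtrans a c
        have hlb1 : lb ≠ 1 := by
          intro h
          rw [h, one_smul] at hlba
          exact hab hlba
        have hlc1 : lc ≠ 1 := by
          intro h
          rw [h, one_smul] at hlca
          exact hca hlca.symm
        have e1 := (hall lb hlb).resolve_left hlb1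
        have e2 := (hall lc hlc).resolve_left hlc1
        apply hcb
        rw [← hlca, ← hlba, e1, e2]
  have hLt : MulAction.IsPretransitive ↥L Ω := ⟨fun p q => by
    obtain ⟨l, hl, h⟩ := hLtrans p q
    exact ⟨⟨l, hl⟩, h⟩⟩
  obtain ⟨a₁, ha₁⟩ := hZ.2.2.2.2 L hLnormal hLt
  apply ha₁
  rw [eq_bot_iff]
  intro l hl
  rw [Subgroup.mem_bot]
  have hl1 : ((l : ↥L) : G) • a₁ = a₁ := hl
  by_contra hne
  exact hLreg (l : G) l.2 (fun h => hne (Subtype.ext h)) a₁ hl1

end Cfsg.Agent.Lib.helper2.ZassCount
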