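import Cfsg.Agent.Lib.helper2.Sharp3C
import Cfsg.Agent.Lib.helper2.Sharp3F
import Cfsg.Agent.Lib.helper2.ZassClass
import Cfsg.Agent.S0338
import Cfsg.Agent.S0738

set_option autoImplicit false

namespace Cfsg.Agent.Lib.helper2.Sharp3

open Cfsg.Agent.Lib.helper2.ZassCount

universe u

theorem exists_notMem {α : Type*} [Fintype α] (S : Finset α)
    (h : S.card < Fintype.card α) : ∃ x, x ∉ S := by
  by_contra hcon
  push Not at hcon
  have : S = Finset.univ := Finset.eq_univ_iff_forall.mpr hcon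
  rw [this, Finset.card_univ] at h
  exact lt_irrefl _ h

theorem exists_third {α : Type*} [Fintype α] [DecidableEq α] (h : 3 ≤ Fintype.card α) (a b : α) :
    ∃ c, c ≠ a ∧ c ≠ b := by
  obtain ⟨c, hc⟩ := exists_notMem ({a, b} : Finset α)
    (lt_of_le_of_lt Finset.card_le_two (by omega))
  exact ⟨c, fun h => hc (by rw [h]; simp), fun h => hc (by rw [h]; simp)⟩

theorem exists_fourth {α : Type*} [Fintype α] [DecidableEq α] (h : 4 ≤ Fintype.card α)
    (a b c : α) : ∃ d, d ≠ a ∧ d ≠ b ∧ d ≠ c := by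
  obtain ⟨d, hd⟩ := exists_notMem ({a, b, c} : Finset α)
    (lt_of_le_of_lt Finset.card_le_three (by omega))
  exact ⟨d, fun h => hd (by rw [h]; simp), fun h => hd (by rw [h]; simp),
    fun h => hd (by rw [h]; simp)⟩

theorem perm_apply_inv {α : Type*} (f : Equiv.Perm α) (x : α) : f (f⁻¹ x) = x :=
  f.apply_symm_apply x

theorem perm_inv_apply {α : Type*} (f : Equiv.Perm α) (x : α) : f⁻¹ (f x) = x :=
  f.symm_apply_apply x

/-- The embedding of three distinct points. -/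
def emb3 {α : Type*} (a b c : α) (hab : a ≠ b) (hac : a ≠ c) (hbc : b ≠ c) : Fin 3 ↪ α :=
  ⟨![a, b, c], by
    intro i j h
    fin_cases i <;> fin_cases j <;> simp_all⟩

theorem three_trans_elem {α : Type*} (G : Subgroup (Equiv.Perm α))
    (h3 : MulAction.IsMultiplyPretransitive G α 3) :
    ∀ a b c a' b' c' : α, a ≠ b → a ≠ c → b ≠ c → a' ≠ b' → a' ≠ c' → b' ≠ c' →
      ∃ g ∈ G, g a = a' ∧ g b = b' ∧ g c = c' := by
  intro a b c a' b' c' hab hac hbc hab' hac' hbc'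
  obtain ⟨g, hg⟩ := (MulAction.isMultiplyPretransitive_iff.mp h3)
    (emb3 a b c hab hac hbc) (emb3 a' b' c' hab' hac' hbc')
  refine ⟨g, g.2, ?_, ?_, ?_⟩
  · exact congrArg (fun e : Fin 3 ↪ α => e 0) hg
  · exact congrArg (fun e : Fin 3 ↪ α => e 1) hg
  · exact congrArg (fun e : Fin 3 ↪ α => e 2) hg

/-- A sharply triply transitive group of odd degree at least `5` is `SL(2, F)`. -/
theorem sharp3_core {α : Type u} [Fintype α] [DecidableEq α] (G : Subgroup (Equiv.Perm α))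
    (hodd : Odd (Fintype.card α)) (h5 : 5 ≤ Fintype.card α)
    (h3t : ∀ a b c a' b' c' : α, a ≠ b → a ≠ c → b ≠ c → a' ≠ b' → a' ≠ c' → b' ≠ c' →
      ∃ g ∈ G, g a = a' ∧ g b = b' ∧ g c = c')
    (hsh : ∀ g ∈ G, ∀ a b c : α, a ≠ b → a ≠ c → b ≠ c → g a = a → g b = b → g c = c → g = 1) :
    ∃ (F : Type) (_ : Field F) (_ : Fintype F) (_ : CharP F 2),
      Fintype.card α = Fintype.card F + 1 ∧
        Nonempty (G ≃* Matrix.SpecialLinearGroup (Fin 2) F) := by
  classical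
  letI : Fintype ↥G := Fintype.ofFinite _
  have hZ : Cfsg.IsZassenhausGroup ↥G α := by
    refine ⟨⟨?_⟩, ?_, ?_, ?_, ?_⟩
    · intro g g' h
      exact Subtype.ext (Equiv.ext h)
    · apply MulAction.is_two_pretransitive_iff.mpr
      intro a b c d hab hcd
      obtain ⟨e, hea, heb⟩ := exists_third (by omega) a b
      obtain ⟨e', hec, hed⟩ := exists_third (by omega) c d
      obtain ⟨g, hg, h1, h2, -⟩ := h3t a b e c d e' hab (Ne.symm hea) (Ne.symm heb) hcd
        (Ne.symm hec) (Ne.symm hed)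
      exact ⟨⟨g, hg⟩, h1, h2⟩
    · intro g a b c hab hbc hac ha hb hc
      exact Subtype.ext (hsh g g.2 a b c hab hac hbc ha hb hc)
    · obtain ⟨a⟩ : Nonempty α := Fintype.card_pos_iff.mp (by omega)
      obtain ⟨b, hba, -⟩ := exists_third (by omega) a a
      obtain ⟨c, hca, hcb⟩ := exists_third (by omega) a b
      obtain ⟨d, hda, hdb, hdc⟩ := exists_fourth (by omega) a b c
      obtain ⟨g, hg, h1, h2, h3⟩ := h3t a b c a b d (Ne.symm hba) (Ne.symm hca) (Ne.symm hcb)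
        (Ne.symm hba) (Ne.symm hda) (Ne.symm hdb)
      refine ⟨⟨g, hg⟩, ?_, a, b, Ne.symm hba, h1, h2⟩
      intro h
      have h4 : g = 1 := congrArg Subtype.val h
      rw [h4] at h3
      exact hdc h3.symm
    · intro N hN hNt
      by_contra hcon
      push Not at hcon
      obtain ⟨a⟩ : Nonempty α := Fintype.card_pos_iff.mp (by omega)
      obtain ⟨p₁, hp₁a, -⟩ := exists_third (by omega) a a
      obtain ⟨y, hy⟩ := hNt.exists_smul_eq a p₁
      obtain ⟨y', hy'⟩ : ∃ y' : Equiv.Perm α, y' = ((y : ↥G) : Equiv.Perm α) := ⟨_, rfl⟩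
      have hya : y' a = p₁ := by rw [hy']; exact hy
      have hstab : ∀ (z : ↥N) (x : α), ((z : ↥G) : Equiv.Perm α) x = x → z = 1 := by
        intro z x hz
        have : z ∈ MulAction.stabilizer ↥N x := hz
        rw [hcon x, Subgroup.mem_bot] at this
        exact this
      have hcoe_mul : ∀ z w : ↥N, (((z * w : ↥N) : ↥G) : Equiv.Perm α)
          = ((z : ↥G) : Equiv.Perm α) * ((w : ↥G) : Equiv.Perm α) := fun z w => rfl
      have hcoe_inv : ∀ z : ↥N, (((z⁻¹ : ↥N) : ↥G) : Equiv.Perm α)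
          = ((z : ↥G) : Equiv.Perm α)⁻¹ := fun z => rfl
      by_cases hcase : y'⁻¹ a = p₁
      · have h1 : y * y = 1 := by
          apply hstab _ a
          rw [hcoe_mul, ← hy', Equiv.Perm.mul_apply, hya, ← hcase, perm_apply_inv]
        have hsq : y' ^ 2 = 1 := by
          rw [hy', sq, ← hcoe_mul, h1]
          rfl
        have hdvd := Equiv.Perm.two_dvd_card_support hsq
        obtain ⟨x, hx⟩ := exists_notMem y'.support (by
          apply lt_of_le_of_ne (Finset.card_le_univ _)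
          intro h
          rw [h] at hdvd
          exact (Nat.not_even_iff_odd.mpr hodd) (even_iff_two_dvd.mpr hdvd))
        have hyx : y' x = x := Equiv.Perm.notMem_support.mp hx
        have h2 : y = 1 := hstab y x (by rw [← hy']; exact hyx)
        apply hp₁a
        rw [← hya, hy', h2]
        rfl
      · obtain ⟨p₂, hp₂⟩ : ∃ p₂, p₂ = y'⁻¹ a := ⟨_, rfl⟩
        have hp₂a : p₂ ≠ a := by
          intro h
          apply hp₁a
          have h0 : y'⁻¹ a = a := hp₂.symm.trans h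
          rw [← hya]
          exact (Equiv.Perm.inv_eq_iff_eq.mp h0).symm
        have hp₂1 : p₂ ≠ p₁ := by rw [hp₂]; exact hcase
        obtain ⟨p₃, h3a, h31, h32⟩ := exists_fourth (by omega) a p₁ p₂
        obtain ⟨g, hg, hga, hg1, hg2⟩ := h3t a p₁ p₂ a p₁ p₃ (Ne.symm hp₁a) (Ne.symm hp₂a)
          (Ne.symm hp₂1) (Ne.symm hp₁a) (Ne.symm h3a) (Ne.symm h31)
        have hz : (⟨g, hg⟩ : ↥G) * (y : ↥G) * (⟨g, hg⟩ : ↥G)⁻¹ ∈ N := hN.conj_mem _ y.2 _
        have hgia : g⁻¹ a = a := by rw [Equiv.Perm.inv_eq_iff_eq, hga]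
        have h4 : y⁻¹ * ⟨_, hz⟩ = 1 := by
          apply hstab _ a
          rw [hcoe_mul, hcoe_inv, ← hy']
          show y'⁻¹ ((g * ((y : ↥G) : Equiv.Perm α) * g⁻¹) a) = a
          rw [← hy', Equiv.Perm.mul_apply, Equiv.Perm.mul_apply, hgia, hya, hg1, ← hya,
            perm_inv_apply]
        have h5' : g * y' * g⁻¹ = y' := by
          have h6 : (⟨_, hz⟩ : ↥N) = y := (inv_mul_eq_one.mp h4).symm
          have h7 := congrArg (fun z : ↥N => ((z : ↥G) : Equiv.Perm α)) h6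
          rw [hy']
          exact h7
        have h7 : g * y'⁻¹ * g⁻¹ = y'⁻¹ := by
          have : g * y'⁻¹ * g⁻¹ = (g * y' * g⁻¹)⁻¹ := by group
          rw [this, h5']
        apply h32
        rw [← hg2, hp₂]
        calc g (y'⁻¹ a) = g (y'⁻¹ (g⁻¹ a)) := by rw [hgia]
          _ = (g * y'⁻¹ * g⁻¹) a := rfl
          _ = y'⁻¹ a := by rw [h7]
  haveI hsimple : IsSimpleGroup ↥G := Cfsg.Agent.S0338.result hZ hodd
  obtain ⟨a⟩ : Nonempty α := Fintype.card_pos_iff.mp (by omega)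
  obtain ⟨b, hba, -⟩ := exists_third (by omega) a a
  have hab : a ≠ b := Ne.symm hba
  obtain ⟨c, hca, hcb⟩ := exists_third (by omega) a b
  have hodd' := odd_deg_e_odd hZ hab hodd
  obtain ⟨hswap, hinv, hcomm⟩ := simple_E_struct hZ hab hodd'
  obtain ⟨K, hKa, hKcard, hKfix⟩ := exists_kernel hZ hab
  obtain ⟨E, hE⟩ : ∃ E : Subgroup ↥G, E = MulAction.stabilizer ↥G a ⊓ MulAction.stabilizer ↥G b :=
    ⟨_, rfl⟩
  rw [← hE] at hodd' hinv hcomm
  have hEmem : ∀ h : ↥G, h ∈ E ↔ h • a = a ∧ h • b = b := by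
    intro h
    rw [hE, Subgroup.mem_inf]
    rfl
  have hKn : ∀ g : ↥G, g • a = a → ∀ u ∈ K, g * u * g⁻¹ ∈ K := by
    intro g hga u hu
    by_cases hu1 : u = 1
    · rw [hu1, mul_one, mul_inv_cancel]
      exact K.one_mem
    · have hgia : g⁻¹ • a = a := by rw [inv_smul_eq_iff, hga]
      apply mem_kernel hZ hab K hKa hKcard hKfix
      · have hua : u • a = a := hKa hu
        rw [mul_smul, mul_smul, hgia, hua, hga]
      · intro x hx
        have h1 : u • (g⁻¹ • x) = g⁻¹ • x := by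
          have h0 : g⁻¹ • ((g * u * g⁻¹) • x) = g⁻¹ • x := by rw [hx]
          rw [mul_smul, mul_smul, inv_smul_smul] at h0
          exact h0
        have h2 := hKfix u hu hu1 _ h1
        rw [inv_smul_eq_iff, hga] at h2
        exact h2
  have hKfree : ∀ u ∈ K, ∀ x : α, x ≠ a → u • x = x → u = 1 := by
    intro u hu x hx hux
    by_contra h1
    exact hx (hKfix u hu h1 x hux)
  have hKtr : ∀ x : α, x ≠ a → ∃ u ∈ K, u • b = x :=
    fun x hx => kernel_trans K hKa hKcard hKfix hba hx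
  have hKba : ∀ u ∈ K, u • b ≠ a := by
    intro u hu h
    have hua : u • a = a := hKa hu
    exact hba (smul_left_cancel u (h.trans hua.symm))
  have hreg : ∀ y z : α, y ≠ a → z ≠ a → ∃! u : K, (u : ↥G) • y = z := by
    intro y z hy hz
    obtain ⟨u, hu, huy⟩ := kernel_trans K hKa hKcard hKfix hy hz
    refine ⟨⟨u, hu⟩, huy, ?_⟩
    intro u' hu'
    have h1 : ((u' : ↥G)⁻¹ * u) • y = y := by
      rw [mul_smul, huy, ← hu', inv_smul_smul]
    have h2 := hKfree _ (K.mul_mem (K.inv_mem u'.2) hu) y hy h1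
    exact Subtype.ext (inv_mul_eq_one.mp h2)
  have hFn : (K.subgroupOf (MulAction.stabilizer ↥G a)).Normal := by
    refine ⟨fun n hn g => ?_⟩
    rw [Subgroup.mem_subgroupOf] at hn ⊢
    exact hKn g g.2 n hn
  have hEtr : ∀ x : α, x ≠ a → x ≠ b → ∃ h ∈ E, h • c = x := by
    intro x hxa hxb
    obtain ⟨g, hg, h1, h2, h3⟩ := h3t a b c a b x hab (Ne.symm hca) (Ne.symm hcb) hab
      (Ne.symm hxa) (Ne.symm hxb)
    exact ⟨⟨g, hg⟩, (hEmem _).mpr ⟨h1, h2⟩, h3⟩
  have hEfree : ∀ h ∈ E, h • c = c → h = 1 := by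
    intro h hh hc
    obtain ⟨h1, h2⟩ := (hEmem h).mp hh
    exact Subtype.ext (hsh h h.2 a b c hab (Ne.symm hca) (Ne.symm hcb) h1 h2 hc)
  have hEcard : Nat.card ↥E = Fintype.card α - 2 := by
    have hbij : Function.Bijective (fun h : ↥E => (⟨(h : ↥G) • c, by
        obtain ⟨h1, h2⟩ := (hEmem h).mp h.2
        constructor
        · intro h3
          exact hca (smul_left_cancel (h : ↥G) (h3.trans h1.symm))
        · intro h3
          exact hcb (smul_left_cancel (h : ↥G) (h3.trans h2.symm))⟩ :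
          {x : α // x ≠ a ∧ x ≠ b})) := by
      constructor
      · intro h h' hh
        have h1 : (h : ↥G) • c = (h' : ↥G) • c := congrArg Subtype.val hh
        have h2 : ((h' : ↥G)⁻¹ * (h : ↥G)) • c = c := by
          rw [mul_smul, h1, inv_smul_smul]
        have h3 := hEfree _ (E.mul_mem (E.inv_mem h'.2) h.2) h2
        exact Subtype.ext (inv_mul_eq_one.mp h3).symm
      · intro x
        obtain ⟨h, hh, hx⟩ := hEtr x.1 x.2.1 x.2.2
        exact ⟨⟨h, hh⟩, Subtype.ext hx⟩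
    rw [Nat.card_eq_of_bijective _ hbij, Nat.card_eq_fintype_card, Fintype.card_subtype]
    have hfil : Finset.univ.filter (fun x : α => x ≠ a ∧ x ≠ b)
        = (Finset.univ.erase a).erase b := by
      ext x
      simp [and_comm]
    rw [hfil, Finset.card_erase_of_mem (by simp [hba]), Finset.card_erase_of_mem (Finset.mem_univ _),
      Finset.card_univ]
    omega
  have hd : Fintype.card α - 2
      ≤ 2 * Nat.card ↥(MulAction.stabilizer ↥G a ⊓ MulAction.stabilizer ↥G b) := by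
    rw [← hE, hEcard]
    omega
  obtain ⟨hKcomm, p, f, hp, hKexp, hcardp⟩ := Cfsg.Agent.S0738.result hZ hab hd K hKa hFn hreg
  have hp2 : p = 2 := by
    rcases hp.eq_two_or_odd' with h | h
    · exact h
    · exfalso
      have h1 : Odd (p ^ f) := h.pow
      rw [hcardp] at hodd
      obtain ⟨k, hk⟩ := h1
      obtain ⟨m, hm⟩ := hodd
      omega
  have hK2 : ∀ u ∈ K, u * u = 1 := by
    intro u hu
    have h1 := hKexp u hu
    rw [hp2, sq] at h1
    exact h1
  have hKc : ∀ u ∈ K, ∀ u' ∈ K, u * u' = u' * u := by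
    intro u hu u' hu'
    have h1 := hKcomm.is_comm.comm (⟨u, hu⟩ : K) ⟨u', hu'⟩
    exact congrArg Subtype.val h1
  obtain ⟨v, hv, hva, hvb, hvc⟩ := h3t a b c b a c hab (Ne.symm hca) (Ne.symm hcb) (Ne.symm hab)
    (Ne.symm hcb) (Ne.symm hca)
  have hvinv := hinv ⟨v, hv⟩ hva hvb
  obtain ⟨u₁, hu₁, hu₁b⟩ := hKtr c hca
  have hu₁1 : u₁ ≠ 1 := by
    intro h
    rw [h, one_smul] at hu₁b
    exact hcb hu₁b.symm
  have hEb : ∀ h ∈ E, h • b = b := fun h hh => ((hEmem h).mp hh).2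
  have hEa : ∀ h ∈ E, h • a = a := fun h hh => ((hEmem h).mp hh).1
  have hn : ∀ h ∈ E, ∀ u ∈ K, h * u * h⁻¹ ∈ K := fun h hh u hu => hKn h (hEa h hh) u hu
  have hconj_b : ∀ h ∈ E, ∀ u : ↥G, (h * u * h⁻¹) • b = h • (u • b) := by
    intro h hh u
    have hib : h⁻¹ • b = b := by rw [inv_smul_eq_iff, hEb h hh]
    rw [mul_smul, mul_smul, hib]
  have hr : ∀ w ∈ K, w ≠ 1 → ∃ h ∈ E, h * u₁ * h⁻¹ = w := by
    intro w hw hw1
    have hwb : w • b ≠ b := fun h => hw1 (hKfree w hw b hba h)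
    obtain ⟨h, hh, hhc⟩ := hEtr (w • b) (hKba w hw) hwb
    refine ⟨h, hh, ?_⟩
    have h1 : (w⁻¹ * (h * u₁ * h⁻¹)) • b = b := by
      rw [mul_smul, hconj_b h hh, hu₁b, hhc, inv_smul_smul]
    have h2 := hKfree _ (K.mul_mem (K.inv_mem hw) (hn h hh u₁ hu₁)) b hba h1
    exact (inv_mul_eq_one.mp h2).symm
  have hr' : ∀ h ∈ E, h * u₁ * h⁻¹ = u₁ → h = 1 := by
    intro h hh heq
    apply hEfree h hh
    have h1 := hconj_b h hh u₁
    rw [heq, hu₁b] at h1
    exact h1.symm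
  have hEc : ∀ h ∈ E, ∀ h' ∈ E, h * h' = h' * h := fun h hh h' hh' => hcomm h h' hh hh'
  obtain ⟨F, hField, hFin, hChar, φ, hφK, hφinj, hφsurj, hφ0, hφ1, hφadd, hφmul⟩ :=
    exists_field K E hK2 hKc hEc hn u₁ hu₁ hu₁1 hr hr'
  -- coordinates
  have hex : ∀ x : α, x ≠ a → ∃ t : F, φ t • b = x := by
    intro x hx
    obtain ⟨u, hu, hub⟩ := hKtr x hx
    obtain ⟨t, ht⟩ := hφsurj u hu
    exact ⟨t, by rw [ht]; exact hub⟩
  obtain ⟨κ, hκ⟩ : ∃ κ : α → F, ∀ x : α, x ≠ a → φ (κ x) • b = x :=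
    ⟨fun x => if h : x = a then 0 else Classical.choose (hex x h), fun x hx => by
      simp only [dif_neg hx]
      exact Classical.choose_spec (hex x hx)⟩
  have hφb : ∀ s t : F, φ s • b = φ t • b → s = t := by
    intro s t h
    have h1 : ((φ t)⁻¹ * φ s) • b = b := by rw [mul_smul, h, inv_smul_smul]
    have h2 := hKfree _ (K.mul_mem (K.inv_mem (hφK t)) (hφK s)) b hba h1
    exact hφinj (inv_mul_eq_one.mp h2).symm
  have hκuniq : ∀ x : α, x ≠ a → ∀ t : F, φ t • b = x → κ x = t := by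
    intro x hx t ht
    exact hφb _ _ ((hκ x hx).trans ht.symm)
  have hκinj : ∀ x y, x ≠ a → y ≠ a → κ x = κ y → x = y := by
    intro x y hx hy h
    rw [← hκ x hx, ← hκ y hy, h]
  have hκb : κ b = 0 := by
    apply hκuniq b hba
    rw [hφ0, one_smul]
  have hcardF : Fintype.card F = Nat.card K := by
    rw [← Nat.card_eq_fintype_card]
    apply Nat.card_eq_of_bijective (fun t => (⟨φ t, hφK t⟩ : K))
    constructor
    · intro s t h
      exact hφinj (congrArg Subtype.val h)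
    · intro w
      obtain ⟨t, ht⟩ := hφsurj w.1 w.2
      exact ⟨t, Subtype.ext ht⟩
  have hcardα : Fintype.card α = Fintype.card F + 1 := by rw [hcardF, hKcard]
  have hcardG : (Fintype.card F - 1) * Nat.card G
      = (Fintype.card F ^ 2 - 1) * (Fintype.card F ^ 2 - Fintype.card F) := by
    have h1 := card_G (G := ↥G) (Ω := α) hZ.2.1 hab
    rw [← hE, hEcard, hcardα] at h1
    rw [Nat.card_eq_fintype_card, h1]
    obtain ⟨r, hr⟩ : ∃ r, Fintype.card F = r + 1 := ⟨Fintype.card F - 1, by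
      have := Fintype.card_pos (α := F)
      omega⟩
    rw [hr]
    have e1 : (r + 1 + 1) * (r + 1 + 1) - (r + 1 + 1) = (r + 2) * (r + 1) := by
      rw [Nat.sub_eq_iff_eq_add (by nlinarith)]
      ring
    have e2 : (r + 1) ^ 2 - 1 = r * (r + 2) := by
      rw [Nat.sub_eq_iff_eq_add (by nlinarith)]
      ring
    have e3 : (r + 1) ^ 2 - (r + 1) = (r + 1) * r := by
      rw [Nat.sub_eq_iff_eq_add (by nlinarith)]
      ring
    have e4 : r + 1 + 1 - 2 = r := by omega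
    have e5 : r + 1 - 1 = r := by omega
    rw [e1, e2, e3, e4, e5]
    ring
  have P1 : ∀ t : F, ∃ g ∈ G, g a = a ∧ ∀ x, x ≠ a → κ (g x) = κ x + t := by
    intro t
    refine ⟨(φ t : Equiv.Perm α), (φ t).2, hKa (hφK t), ?_⟩
    intro x hx
    have h1 : φ (t + κ x) • b = φ t • x := by
      rw [hφadd, mul_smul, hκ x hx]
    have h2 : φ t • x ≠ a := by
      rw [← h1]
      exact hKba _ (hφK _)
    have h3 := hκuniq (φ t • x) h2 (t + κ x) h1
    rw [add_comm] at h3
    exact h3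
  have P2 : ∃ v' ∈ G, v' a = b ∧ v' b = a ∧ ∀ x, x ≠ a → x ≠ b → κ (v' x) = (κ x)⁻¹ := by
    refine ⟨v, hv, hva, hvb, ?_⟩
    intro x hxa hxb
    obtain ⟨t, ht⟩ : ∃ t, t = κ x := ⟨_, rfl⟩
    have hxt : φ t • b = x := by rw [ht]; exact hκ x hxa
    have ht0 : t ≠ 0 := by
      intro h
      rw [h, hφ0, one_smul] at hxt
      exact hxb hxt.symm
    have hφt1 : φ t ≠ 1 := by
      intro h
      rw [← hφ0] at h
      exact ht0 (hφinj h)
    obtain ⟨h, hh, hht⟩ := hr (φ t) (hφK t) hφt1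
    have hhinv : h⁻¹ ∈ E := E.inv_mem hh
    have hw : h⁻¹ * u₁ * h ∈ K := by
      have := hn h⁻¹ hhinv u₁ hu₁
      rwa [inv_inv] at this
    obtain ⟨t', ht'⟩ := hφsurj _ hw
    have h1 : φ (t * t') = φ 1 := by
      rw [hφmul h hh t t' hht.symm, ht', hφ1]
      group
    have h2 : t * t' = 1 := hφinj h1
    have h3 : t' = t⁻¹ := eq_inv_of_mul_eq_one_right h2
    have hxc : x = h • c := by
      rw [← hxt, ← hht, hconj_b h hh, hu₁b]
    have hvx : (⟨v, hv⟩ : ↥G) • x = φ t' • b := by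
      rw [ht']
      have h6 : h⁻¹ * u₁ * h = h⁻¹ * u₁ * h⁻¹⁻¹ := by rw [inv_inv]
      rw [h6, hconj_b h⁻¹ hhinv, hu₁b, hxc]
      have h4 : (⟨v, hv⟩ : ↥G) • (h • c)
          = ((⟨v, hv⟩ : ↥G) * h * (⟨v, hv⟩ : ↥G)⁻¹) • ((⟨v, hv⟩ : ↥G) • c) := by
        rw [mul_smul, mul_smul, inv_smul_smul]
      rw [h4, hvinv h hh]
      congr 1
    have hvxa : (⟨v, hv⟩ : ↥G) • x ≠ a := by
      rw [hvx]
      exact hKba _ (hφK _)
    have h5 := hκuniq _ hvxa t' hvx.symm
    rw [← ht, ← h3]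
    exact h5
  exact ⟨F, hField, hFin, hChar, hcardα, sl2_of_coords G a b hab κ hκinj hκb hcardα hcardG P1 P2⟩

end Cfsg.Agent.Lib.helper2.Sharp3
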