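import Mathlib
import Cfsg.Agent.Lib.helper2.SLGen
import Cfsg.Agent.Lib.helper2.PSL2Small

set_option autoImplicit false

namespace Cfsg.Agent.Lib.helper2.Sharp3

open Matrix Matrix.SpecialLinearGroup
open scoped LinearAlgebra.Projectivization

section coords

variable {F : Type*} [Field F]

theorem vec_ne (k : F) : (![k, 1] : Fin 2 → F) ≠ 0 := by
  intro h
  have := congrFun h 1
  simp at this

theorem vec_ne' : (![1, 0] : Fin 2 → F) ≠ 0 := by
  intro h
  have := congrFun h 0
  simp at this

/-- The affine point with coordinate `k`. -/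
noncomputable def pt (k : F) : ℙ F (Fin 2 → F) := Projectivization.mk F ![k, 1] (vec_ne k)

/-- The point at infinity. -/
noncomputable def inf : ℙ F (Fin 2 → F) := Projectivization.mk F ![1, 0] vec_ne'

theorem pt_inj {k k' : F} (h : pt k = pt k') : k = k' := by
  rw [pt, pt, Projectivization.mk_eq_mk_iff] at h
  obtain ⟨c, hc⟩ := h
  have h1 := congrFun hc 1
  have h0 := congrFun hc 0
  simp only [Pi.smul_apply, Matrix.cons_val_one, Matrix.cons_val_zero, Units.smul_def,
    smul_eq_mul, mul_one] at h1 h0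
  rw [h1, one_mul] at h0
  exact h0.symm

theorem pt_ne_inf (k : F) : pt k ≠ inf := by
  intro h
  rw [pt, inf, Projectivization.mk_eq_mk_iff] at h
  obtain ⟨c, hc⟩ := h
  have h1 := congrFun hc 1
  simp only [Pi.smul_apply, Matrix.cons_val_one, Matrix.cons_val_zero, Units.smul_def,
    smul_eq_mul, mul_zero] at h1
  exact zero_ne_one h1

theorem mk_eq_pt (x y : F) (hy : y ≠ 0) (hv : (![x, y] : Fin 2 → F) ≠ 0) :
    Projectivization.mk F ![x, y] hv = pt (x / y) := by
  rw [pt, Projectivization.mk_eq_mk_iff]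
  refine ⟨Units.mk0 y hy, ?_⟩
  ext i
  fin_cases i
  · simp only [Pi.smul_apply, Units.smul_def, Units.val_mk0, smul_eq_mul]
    show y * (x / y) = x
    field_simp
  · simp only [Pi.smul_apply, Units.smul_def, Units.val_mk0, smul_eq_mul]
    show y * 1 = y
    rw [mul_one]

theorem mk_eq_inf (x : F) (hx : x ≠ 0) (hv : (![x, 0] : Fin 2 → F) ≠ 0) :
    Projectivization.mk F ![x, 0] hv = inf := by
  rw [inf, Projectivization.mk_eq_mk_iff]
  refine ⟨Units.mk0 x hx, ?_⟩
  ext i
  fin_cases i
  · simp only [Pi.smul_apply, Units.smul_def, Units.val_mk0, smul_eq_mul]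
    show x * 1 = x
    rw [mul_one]
  · simp only [Pi.smul_apply, Units.smul_def, Units.val_mk0, smul_eq_mul]
    show x * 0 = 0
    rw [mul_zero]

theorem upper_vec (t x y : F) :
    (transvection (show (0 : Fin 2) ≠ 1 by decide) t) • (![x, y] : Fin 2 → F) = ![x + t * y, y] := by
  rw [Matrix.SpecialLinearGroup.smul_def, transvection_coe]
  ext i
  fin_cases i <;>
    simp [Matrix.mulVec, dotProduct, Fin.sum_univ_two, Matrix.add_apply, Matrix.single_apply]

theorem upper_pt (t k : F) :
    (transvection (show (0 : Fin 2) ≠ 1 by decide) t) • pt k = pt (k + t) := by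
  rw [pt, Projectivization.smul_mk]
  have h := upper_vec t k 1
  rw [mul_one] at h
  simp only [h]
  rfl

theorem upper_inf (t : F) :
    (transvection (show (0 : Fin 2) ≠ 1 by decide) t) • (inf : ℙ F (Fin 2 → F)) = inf := by
  rw [inf, Projectivization.smul_mk]
  have h := upper_vec t 1 0
  rw [mul_zero, add_zero] at h
  simp only [h]

/-- The Weyl element in characteristic two. -/
def wEl [CharP F 2] : Matrix.SpecialLinearGroup (Fin 2) F :=
  ⟨!![0, 1; 1, 0], by
    rw [Matrix.det_fin_two_of]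
    have h2 : (2 : F) = 0 := CharTwo.two_eq_zero
    linear_combination (-1 : F) * h2⟩

theorem w_vec [CharP F 2] (x y : F) : (wEl : Matrix.SpecialLinearGroup (Fin 2) F) • (![x, y] : Fin 2 → F) = ![y, x] := by
  rw [Matrix.SpecialLinearGroup.smul_def]
  ext i
  fin_cases i <;> simp [wEl, Matrix.mulVec, dotProduct, Fin.sum_univ_two]

theorem w_inf [CharP F 2] : (wEl : Matrix.SpecialLinearGroup (Fin 2) F) • (inf : ℙ F (Fin 2 → F)) = pt 0 := by
  rw [inf, Projectivization.smul_mk]
  simp only [w_vec]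
  rfl

theorem w_zero [CharP F 2] : (wEl : Matrix.SpecialLinearGroup (Fin 2) F) • (pt 0 : ℙ F (Fin 2 → F)) = inf := by
  rw [pt, Projectivization.smul_mk]
  simp only [w_vec]
  rfl

theorem w_pt [CharP F 2] (k : F) (hk : k ≠ 0) :
    (wEl : Matrix.SpecialLinearGroup (Fin 2) F) • pt k = pt k⁻¹ := by
  rw [pt, Projectivization.smul_mk]
  simp only [w_vec]
  rw [mk_eq_pt 1 k hk, one_div]

theorem wEl_coe [CharP F 2] :
    ((wEl : Matrix.SpecialLinearGroup (Fin 2) F) : Matrix (Fin 2) (Fin 2) F) = !![0, 1; 1, 0] := rfl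

theorem w_mul_w [CharP F 2] : (wEl : Matrix.SpecialLinearGroup (Fin 2) F) * wEl = 1 := by
  apply Subtype.ext
  rw [Matrix.SpecialLinearGroup.coe_mul, wEl_coe, Matrix.SpecialLinearGroup.coe_one]
  ext i j
  fin_cases i <;> fin_cases j <;> simp [Matrix.mul_apply, Fin.sum_univ_two]

theorem lower_eq [CharP F 2] (t : F) :
    transvection (show (1 : Fin 2) ≠ 0 by decide) t
      = wEl * transvection (show (0 : Fin 2) ≠ 1 by decide) t * wEl := by
  apply Subtype.ext
  rw [Matrix.SpecialLinearGroup.coe_mul, Matrix.SpecialLinearGroup.coe_mul, wEl_coe,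
    transvection_coe, transvection_coe]
  ext i j
  fin_cases i <;> fin_cases j <;>
    simp [Matrix.mul_apply, Fin.sum_univ_two, Matrix.add_apply, Matrix.single_apply,
      Matrix.vecMul, dotProduct]

end coords

section main

variable {α : Type*} [Fintype α] [DecidableEq α] {F : Type*} [Field F] [Fintype F] [CharP F 2]

/-- A permutation group containing, in suitable coordinates, all translations and the inversion,
and of the right order, is isomorphic to `SL(2, F)` (characteristic two). -/
theorem sl2_of_coords (G : Subgroup (Equiv.Perm α)) (a b : α) (hab : a ≠ b) (κ : α → F)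
    (hκinj : ∀ x y, x ≠ a → y ≠ a → κ x = κ y → x = y) (hκb : κ b = 0)
    (hcardα : Fintype.card α = Fintype.card F + 1)
    (hcardG : (Fintype.card F - 1) * Nat.card G
      = (Fintype.card F ^ 2 - 1) * (Fintype.card F ^ 2 - Fintype.card F))
    (P1 : ∀ t : F, ∃ g ∈ G, g a = a ∧ ∀ x, x ≠ a → κ (g x) = κ x + t)
    (P2 : ∃ v ∈ G, v a = b ∧ v b = a ∧ ∀ x, x ≠ a → x ≠ b → κ (v x) = (κ x)⁻¹) :
    Nonempty (G ≃* Matrix.SpecialLinearGroup (Fin 2) F) := by
  classical
  obtain ⟨γ, hγ⟩ : ∃ γ : α → ℙ F (Fin 2 → F), γ = fun x => if x = a then inf else pt (κ x) :=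
    ⟨_, rfl⟩
  have hγa : γ a = inf := by rw [hγ]; simp
  have hγx : ∀ x, x ≠ a → γ x = pt (κ x) := by intro x hx; rw [hγ]; simp [hx]
  have hγinj : Function.Injective γ := by
    intro x y hxy
    by_cases hx : x = a
    · by_cases hy : y = a
      · rw [hx, hy]
      · rw [hx, hγa, hγx y hy] at hxy
        exact absurd hxy.symm (pt_ne_inf _)
    · by_cases hy : y = a
      · rw [hy, hγa, hγx x hx] at hxy
        exact absurd hxy (pt_ne_inf _)
      · rw [hγx x hx, hγx y hy] at hxy
        exact hκinj x y hx hy (pt_inj hxy)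
  have hcardP : Nat.card (ℙ F (Fin 2 → F)) = Fintype.card F + 1 := PSL2Small.card_proj
  haveI hfin : Finite (ℙ F (Fin 2 → F)) := Nat.finite_of_card_ne_zero (by omega)
  have hγbij : Function.Bijective γ := by
    rw [Nat.bijective_iff_injective_and_card]
    exact ⟨hγinj, by rw [Nat.card_eq_fintype_card, hcardα, hcardP]⟩
  obtain ⟨β, hβ⟩ : ∃ β : α ≃ ℙ F (Fin 2 → F), ∀ x, β x = γ x :=
    ⟨Equiv.ofBijective γ hγbij, fun x => rfl⟩
  obtain ⟨ψ, hψdef⟩ : ∃ ψ : Matrix.SpecialLinearGroup (Fin 2) F →* Equiv.Perm α,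
      ψ = (Equiv.permCongrHom β.symm).toMonoidHom.comp
        (MulAction.toPermHom (Matrix.SpecialLinearGroup (Fin 2) F) (ℙ F (Fin 2 → F))) := ⟨_, rfl⟩
  have hψ : ∀ (M : Matrix.SpecialLinearGroup (Fin 2) F) (x : α), γ (ψ M x) = M • γ x := by
    intro M x
    rw [← hβ, ← hβ, hψdef]
    show β (β.symm (M • β x)) = M • β x
    rw [Equiv.apply_symm_apply]
  have hψeq : ∀ (M : Matrix.SpecialLinearGroup (Fin 2) F) (g : Equiv.Perm α),
      (∀ x, M • γ x = γ (g x)) → ψ M = g := by
    intro M g h
    ext x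
    apply hγinj
    rw [hψ, h]
  have hupper : ∀ t : F, ψ (transvection (show (0 : Fin 2) ≠ 1 by decide) t) ∈ G := by
    intro t
    obtain ⟨g, hg, hga, hgx⟩ := P1 t
    rw [hψeq _ g]
    · exact hg
    · intro x
      by_cases hx : x = a
      · rw [hx, hga, hγa, upper_inf]
      · have hgx' : g x ≠ a := fun h => hx (g.injective (h.trans hga.symm))
        rw [hγx x hx, hγx _ hgx', upper_pt, hgx x hx]
  have hw : ψ wEl ∈ G := by
    obtain ⟨v, hv, hva, hvb, hvx⟩ := P2
    rw [hψeq _ v]
    · exact hv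
    · intro x
      have hba : b ≠ a := fun h => hab h.symm
      by_cases hx : x = a
      · rw [hx, hva, hγa, hγx b hba, hκb, w_inf]
      · by_cases hxb : x = b
        · rw [hxb, hvb, hγa, hγx b hba, hκb, w_zero]
        · have hvx' : v x ≠ a := fun h => hxb (v.injective (h.trans hvb.symm))
          have hk : κ x ≠ 0 := fun h => hxb (hκinj x b hx hba (h.trans hκb.symm))
          rw [hγx x hx, hγx _ hvx', w_pt _ hk, hvx x hx hxb]
  have hall : ∀ M : Matrix.SpecialLinearGroup (Fin 2) F, ψ M ∈ G := by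
    intro M
    refine SLGen.transvection_induction (fun M => ψ M ∈ G) ?_ ?_ M
    · intro i j hij t
      fin_cases i <;> fin_cases j
      · exact absurd rfl hij
      · exact hupper t
      · show ψ (transvection (show (1 : Fin 2) ≠ 0 by decide) t) ∈ G
        rw [lower_eq, map_mul, map_mul]
        exact G.mul_mem (G.mul_mem hw (hupper t)) hw
      · exact absurd rfl hij
    · intro A B hA hB
      show ψ (A * B) ∈ G
      rw [map_mul]
      exact G.mul_mem hA hB
  have hcenter : Subgroup.center (Matrix.SpecialLinearGroup (Fin 2) F) = ⊥ := by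
    apply Subgroup.eq_bot_of_card_eq
    rw [SLCard.card_center_SL F 2 (by norm_num)]
    obtain ⟨n, -, hn⟩ := FiniteField.card F 2
    rw [hn]
    have hodd : Odd (2 ^ (n : ℕ) - 1) := by
      have hpos : 0 < (n : ℕ) := n.pos
      have h2 : Even (2 ^ (n : ℕ)) := (Nat.even_pow' hpos.ne').mpr even_two
      have h1 : 1 ≤ 2 ^ (n : ℕ) := Nat.one_le_two_pow
      obtain ⟨k, hk⟩ := h2
      exact ⟨k - 1, by omega⟩
    exact Nat.coprime_two_left.mpr hodd
  have hψinj : Function.Injective ψ := by
    rw [injective_iff_map_eq_one]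
    intro M hM
    have h1 : MulAction.toPermHom (Matrix.SpecialLinearGroup (Fin 2) F) (ℙ F (Fin 2 → F)) M
        = 1 := by
      apply (Equiv.permCongrHom β.symm).injective
      rw [map_one]
      rw [hψdef] at hM
      exact hM
    have h2 : M ∈ (MulAction.toPermHom (Matrix.SpecialLinearGroup (Fin 2) F)
        (ℙ F (Fin 2 → F))).ker := h1
    rw [Projectivization.SL_mulAction_ker, hcenter, Subgroup.mem_bot] at h2
    exact h2
  have hcardSL := SLCard.card_SL F 2 (by norm_num)
  rw [Fin.prod_univ_two] at hcardSL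
  simp only [Fin.val_zero, Fin.val_one, pow_zero, pow_one] at hcardSL
  have hq1 : 0 < Fintype.card F - 1 := by
    have := Fintype.one_lt_card (α := F)
    omega
  have hcard : Nat.card G = Nat.card (Matrix.SpecialLinearGroup (Fin 2) F) :=
    Nat.eq_of_mul_eq_mul_left hq1 (hcardG.trans hcardSL.symm)
  have hrange : ψ.range = G := by
    apply Subgroup.eq_of_le_of_card_ge
    · rintro _ ⟨M, rfl⟩
      exact hall M
    · rw [hcard]
      exact le_of_eq (Nat.card_congr (MonoidHom.ofInjective hψinj).toEquiv)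
  exact ⟨((MonoidHom.ofInjective hψinj).trans (MulEquiv.subgroupCongr hrange)).symm⟩

end main

end Cfsg.Agent.Lib.helper2.Sharp3
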