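import Cfsg.Agent.Lib.helper2.Sharp3
import Cfsg.Agent.Lib.helper2.PSL2Small
import Cfsg.Agent.Lib.helper2.SLCard

set_option autoImplicit false

namespace Cfsg.Agent.Lib.helper2.Sharp3

universe u

/-- A triply transitive group of degree `3` is the full symmetric group, hence `SL(2, 2)`. -/
theorem sharp3_small {α : Type u} [Fintype α] [DecidableEq α] (G : Subgroup (Equiv.Perm α))
    (h3 : Fintype.card α = 3)
    (h3t : ∀ a b c a' b' c' : α, a ≠ b → a ≠ c → b ≠ c → a' ≠ b' → a' ≠ c' → b' ≠ c' →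
      ∃ g ∈ G, g a = a' ∧ g b = b' ∧ g c = c') :
    Nonempty (G ≃* Matrix.SpecialLinearGroup (Fin 2) (ZMod 2)) := by
  classical
  have htop : G = ⊤ := by
    rw [eq_top_iff]
    intro σ _
    obtain ⟨a⟩ : Nonempty α := Fintype.card_pos_iff.mp (by omega)
    obtain ⟨b, hba, -⟩ := exists_third (by omega) a a
    obtain ⟨c, hca, hcb⟩ := exists_third (by omega) a b
    obtain ⟨g, hg, h1, h2, h3'⟩ := h3t a b c (σ a) (σ b) (σ c) (Ne.symm hba) (Ne.symm hca)
      (Ne.symm hcb) (σ.injective.ne (Ne.symm hba)) (σ.injective.ne (Ne.symm hca))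
      (σ.injective.ne (Ne.symm hcb))
    have hall : ∀ x, x = a ∨ x = b ∨ x = c := by
      intro x
      have hS : ({a, b, c} : Finset α) = Finset.univ := by
        apply Finset.eq_univ_of_card
        rw [h3, Finset.card_eq_three]
        exact ⟨a, b, c, Ne.symm hba, Ne.symm hca, Ne.symm hcb, rfl⟩
      have hx : x ∈ ({a, b, c} : Finset α) := by rw [hS]; exact Finset.mem_univ _
      simpa using hx
    have hgσ : g = σ := by
      apply Equiv.ext
      intro x
      rcases hall x with rfl | rfl | rfl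
      · exact h1
      · exact h2
      · exact h3'
    rw [← hgσ]
    exact hg
  have e1 : G ≃* Equiv.Perm α := by
    rw [htop]
    exact Subgroup.topEquiv
  have e2 : α ≃ Fin 3 := Fintype.equivFinOfCardEq h3
  obtain ⟨e3⟩ := PSL2Small.SL2_two_iso (F := ZMod 2) (by rw [ZMod.card])
  exact ⟨e1.trans ((Equiv.permCongrHom e2).trans e3.symm)⟩

/-- A sharply triply transitive group of odd degree is `SL(2, F)` for a field of
characteristic `2` with `|F| + 1` the degree. -/
theorem sharp3_main {α : Type u} [Fintype α] [DecidableEq α] (G : Subgroup (Equiv.Perm α))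
    (hodd : Odd (Fintype.card α)) (h3c : 3 ≤ Fintype.card α)
    (h3t : ∀ a b c a' b' c' : α, a ≠ b → a ≠ c → b ≠ c → a' ≠ b' → a' ≠ c' → b' ≠ c' →
      ∃ g ∈ G, g a = a' ∧ g b = b' ∧ g c = c')
    (hsh : ∀ g ∈ G, ∀ a b c : α, a ≠ b → a ≠ c → b ≠ c → g a = a → g b = b → g c = c → g = 1) :
    ∃ (F : Type) (_ : Field F) (_ : Fintype F) (_ : CharP F 2),
      Fintype.card α = Fintype.card F + 1 ∧
        Nonempty (G ≃* Matrix.SpecialLinearGroup (Fin 2) F) := by
  by_cases h5 : 5 ≤ Fintype.card α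
  · exact sharp3_core G hodd h5 h3t hsh
  · have h3' : Fintype.card α = 3 := by
      obtain ⟨k, hk⟩ := hodd
      omega
    refine ⟨ZMod 2, inferInstance, inferInstance, inferInstance, ?_, sharp3_small G h3' h3t⟩
    rw [ZMod.card, h3']

theorem card_two_pow (F : Type) [Field F] [Fintype F] [CharP F 2] :
    ∃ a : ℕ, 1 ≤ a ∧ Fintype.card F = 2 ^ a := by
  obtain ⟨n, -, hn⟩ := FiniteField.card F 2
  exact ⟨n, n.pos, hn⟩

/-- In characteristic `2`, `SL(2, F) ≃* PGL(2, F)`. -/
theorem sl2_equiv_pgl2 (F : Type) [Field F] [Fintype F] [CharP F 2] :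
    Nonempty (Matrix.SpecialLinearGroup (Fin 2) F ≃* Matrix.ProjGenLinGroup (Fin 2) F) := by
  classical
  have hcenter : Subgroup.center (Matrix.SpecialLinearGroup (Fin 2) F) = ⊥ := by
    apply Subgroup.eq_bot_of_card_eq
    rw [SLCard.card_center_SL F 2 (by norm_num)]
    obtain ⟨n, -, hn⟩ := FiniteField.card F 2
    rw [hn]
    have hodd : Odd (2 ^ (n : ℕ) - 1) := by
      have hpos : 0 < (n : ℕ) := n.pos
      have h2 : Even (2 ^ (n : ℕ)) := (Nat.even_pow' hpos.ne').mpr even_two
      have h1 : 1 ≤ 2 ^ (n : ℕ) := Nat.one_le_two_pow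
      obtain ⟨k, hk⟩ := h2
      exact ⟨k - 1, by omega⟩
    exact Nat.coprime_two_left.mpr hodd
  obtain ⟨ψ, hψ⟩ : ∃ ψ : Matrix.SpecialLinearGroup (Fin 2) F →*
      (Matrix.GeneralLinearGroup (Fin 2) F ⧸ Subgroup.center (Matrix.GeneralLinearGroup (Fin 2) F)),
      ψ = (QuotientGroup.mk' (Subgroup.center (Matrix.GeneralLinearGroup (Fin 2) F))).comp
        Matrix.SpecialLinearGroup.toGL := ⟨_, rfl⟩
  have hinj : Function.Injective ψ := by
    rw [injective_iff_map_eq_one]
    intro A hA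
    rw [hψ, MonoidHom.comp_apply, QuotientGroup.mk'_apply, QuotientGroup.eq_one_iff] at hA
    have hAc : A ∈ Subgroup.center (Matrix.SpecialLinearGroup (Fin 2) F) := by
      rw [Subgroup.mem_center_iff]
      intro B
      have h1 := (Subgroup.mem_center_iff.mp hA) (Matrix.SpecialLinearGroup.toGL B)
      rw [← map_mul, ← map_mul] at h1
      apply Matrix.SpecialLinearGroup.ext
      intro i j
      have h2 := congrArg (fun M : Matrix.GeneralLinearGroup (Fin 2) F =>
        (M : Matrix (Fin 2) (Fin 2) F) i j) h1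
      exact h2
    rw [hcenter, Subgroup.mem_bot] at hAc
    exact hAc
  have hbij : Function.Bijective ψ := by
    apply hinj.bijective_of_nat_card_le
    exact le_of_eq (SLCard.card_PGL F 2)
  exact ⟨MulEquiv.ofBijective ψ hbij⟩

end Cfsg.Agent.Lib.helper2.Sharp3
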