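import Mathlib

set_option autoImplicit false

namespace Cfsg.Agent.Lib.helper2.Singer

open scoped Pointwise

/-- A `p`-subgroup is conjugate into any subgroup of index prime to `p`. -/
theorem conj_into {G : Type*} [Group G] [Finite G] {p : ℕ} [Fact p.Prime] (C : Subgroup G)
    (hidx : ¬ p ∣ C.index) (R : Subgroup G) (hR : IsPGroup p R) :
    ∃ g : G, ∀ r ∈ R, g * r * g⁻¹ ∈ C := by
  obtain ⟨S, hRS⟩ := hR.exists_le_sylow
  obtain ⟨Q₀⟩ : Nonempty (Sylow p C) := inferInstance
  have hidx0 : C.index ≠ 0 := by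
    intro h
    rw [h] at hidx
    exact hidx (dvd_zero p)
  have hcard : Nat.card ((Q₀ : Subgroup C).map C.subtype) = p ^ (Nat.card G).factorization p := by
    rw [Nat.card_congr
      ((Q₀ : Subgroup C).equivMapOfInjective C.subtype C.subtype_injective).symm.toEquiv,
      Sylow.card_eq_multiplicity]
    congr 1
    rw [← Subgroup.card_mul_index C, Nat.factorization_mul Nat.card_pos.ne' hidx0,
      Finsupp.add_apply, Nat.factorization_eq_zero_of_not_dvd hidx, add_zero]
  obtain ⟨g, hg⟩ := MulAction.exists_smul_eq G S (Sylow.ofCard _ hcard)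
  refine ⟨g, fun r hr => ?_⟩
  have h1 : r ∈ (S : Subgroup G) := hRS hr
  have h2 : g * r * g⁻¹ ∈ ((g • S : Sylow p G) : Subgroup G) := by
    rw [Sylow.coe_subgroup_smul]
    exact Subgroup.smul_mem_pointwise_smul r (MulAut.conj g) _ h1
  rw [hg, Sylow.coe_ofCard] at h2
  obtain ⟨c, -, hc⟩ := Subgroup.mem_map.1 h2
  rw [← hc]
  exact c.2

/-- A subgroup conjugate into a cyclic subgroup is cyclic. -/
theorem cyclic_of_conj_into {G : Type*} [Group G] (C R : Subgroup G) [IsCyclic C] (g : G)
    (h : ∀ r ∈ R, g * r * g⁻¹ ∈ C) : IsCyclic R := by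
  let ψ : R →* C := ((MulAut.conj g).toMonoidHom.comp R.subtype).codRestrict C (fun r => h r r.2)
  have hinj : Function.Injective ψ := by
    intro a b hab
    have h1 : g * a * g⁻¹ = g * b * g⁻¹ := congrArg Subtype.val hab
    have h2 : (a : G) = b := by
      have := mul_right_cancel h1
      exact mul_left_cancel this
    exact Subtype.ext h2
  exact isCyclic_of_injective ψ hinj

/-- Every `p`-subgroup is cyclic if some cyclic subgroup has index prime to `p`. -/
theorem cyclic_of_index {G : Type*} [Group G] [Finite G] {p : ℕ} [Fact p.Prime] (C : Subgroup G)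
    [IsCyclic C] (hidx : ¬ p ∣ C.index) (R : Subgroup G) (hR : IsPGroup p R) : IsCyclic R := by
  obtain ⟨g, hg⟩ := conj_into C hidx R hR
  exact cyclic_of_conj_into C R g hg

section singer

variable {F : Type*} [Field F] {K : Type*} [Field K] [Algebra F K]
  (b : Module.Basis (Fin 4) F K)

/-- The regular representation of `Kˣ` in `GL₄(F)`. -/
noncomputable def sing : Kˣ →* Matrix.GeneralLinearGroup (Fin 4) F :=
  Units.map ((Algebra.leftMulMatrix b : K →ₐ[F] Matrix (Fin 4) (Fin 4) F) :
    K →* Matrix (Fin 4) (Fin 4) F)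

theorem sing_injective : Function.Injective (sing b) :=
  Units.map_injective (Algebra.leftMulMatrix_injective b)

theorem sing_val (x : Kˣ) : (sing b x).val = Algebra.leftMulMatrix b (x : K) := rfl

theorem mem_range_of_commute (ζ : K) (hζ : Algebra.adjoin F {ζ} = ⊤)
    (A : Matrix.GeneralLinearGroup (Fin 4) F)
    (hA : A.val * Algebra.leftMulMatrix b ζ = Algebra.leftMulMatrix b ζ * A.val) :
    A ∈ (sing b).range := by
  have hall : ∀ x : K, A.val * Algebra.leftMulMatrix b x = Algebra.leftMulMatrix b x * A.val := by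
    intro x
    have hx : x ∈ Algebra.adjoin F {ζ} := by rw [hζ]; trivial
    induction hx using Algebra.adjoin_induction with
    | mem y hy =>
      rw [Set.mem_singleton_iff.1 hy]
      exact hA
    | algebraMap r =>
      rw [AlgHom.commutes]
      exact (Algebra.commutes r A.val).symm
    | add x y _ _ hx hy => rw [map_add, mul_add, add_mul, hx, hy]
    | mul x y _ _ hx hy => rw [map_mul, ← mul_assoc, hx, mul_assoc, hy, mul_assoc]
  have hLx : ∀ x z : K, Matrix.toLin b b A.val (x * z) = x * Matrix.toLin b b A.val z := by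
    intro x z
    have h1 := congrArg (Matrix.toLin b b) (hall x)
    rw [Matrix.toLin_mul b b b, Matrix.toLin_mul b b b, Algebra.leftMulMatrix_apply,
      Matrix.toLin_toMatrix] at h1
    have h2 := congrArg (fun f : K →ₗ[F] K => f z) h1
    simpa using h2
  have hL1 : ∀ z, Matrix.toLin b b A.val z = Matrix.toLin b b A.val 1 * z := by
    intro z
    have h3 := hLx z 1
    rw [mul_one] at h3
    rw [h3, mul_comm]
  have hA2 : A.val = Algebra.leftMulMatrix b (Matrix.toLin b b A.val 1) := by
    have h4 : Matrix.toLin b b A.val = Algebra.lmul F K (Matrix.toLin b b A.val 1) :=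
      LinearMap.ext (fun z => by rw [hL1 z]; rfl)
    calc A.val = LinearMap.toMatrix b b (Matrix.toLin b b A.val) := by
          rw [LinearMap.toMatrix_toLin]
      _ = Algebra.leftMulMatrix b (Matrix.toLin b b A.val 1) := by
          rw [Algebra.leftMulMatrix_apply, ← h4]
  have hne : Matrix.toLin b b A.val 1 ≠ 0 := by
    intro h0
    rw [h0, map_zero] at hA2
    exact A.ne_zero hA2
  refine ⟨Units.mk0 _ hne, Units.ext ?_⟩
  rw [sing_val]
  exact hA2.symm

theorem adjoin_eq_top [Fintype F] [Finite K] (hK : Module.finrank F K = 4) {p : ℕ} (ζ : Kˣ)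
    (hζ : orderOf ζ = p) (h1 : ¬ p ∣ Fintype.card F - 1) (h2 : ¬ p ∣ Fintype.card F ^ 2 - 1) :
    Algebra.adjoin F {(ζ : K)} = ⊤ := by
  classical
  have hfd : Module.Finite F K := Module.finite_of_finrank_pos (by rw [hK]; norm_num)
  have halg : IsAlgebraic F (ζ : K) := IsAlgebraic.of_finite F _
  rw [← IntermediateField.adjoin_simple_toSubalgebra_of_isAlgebraic halg]
  have hd : Module.finrank F (IntermediateField.adjoin F {(ζ : K)}) ∣ 4 := by
    rw [← hK, ← Module.finrank_mul_finrank F (IntermediateField.adjoin F {(ζ : K)}) K]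
    exact dvd_mul_right _ _
  have hcardE : Nat.card (IntermediateField.adjoin F {(ζ : K)})
      = Fintype.card F ^ Module.finrank F (IntermediateField.adjoin F {(ζ : K)}) := by
    rw [Module.natCard_eq_pow_finrank (K := F), Nat.card_eq_fintype_card]
  have hζE : (ζ : K) ∈ IntermediateField.adjoin F {(ζ : K)} :=
    IntermediateField.mem_adjoin_simple_self F _
  have hpow : (ζ : K) ^ (Fintype.card F ^ Module.finrank F (IntermediateField.adjoin F {(ζ : K)})
      - 1) = 1 := by
    have : Fintype (IntermediateField.adjoin F {(ζ : K)}) := Fintype.ofFinite _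
    have h3 := FiniteField.pow_card_sub_one_eq_one
      (⟨ζ, hζE⟩ : IntermediateField.adjoin F {(ζ : K)}) (by
        intro h
        exact ζ.ne_zero (congrArg Subtype.val h))
    rw [← Nat.card_eq_fintype_card, hcardE] at h3
    have h4 := congrArg Subtype.val h3
    simpa using h4
  have hdvd : p ∣ Fintype.card F ^ Module.finrank F (IntermediateField.adjoin F {(ζ : K)}) - 1 := by
    rw [← hζ]
    apply orderOf_dvd_of_pow_eq_one
    ext
    simpa using hpow
  have hd4 : Module.finrank F (IntermediateField.adjoin F {(ζ : K)}) = 4 := by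
    have hle : Module.finrank F (IntermediateField.adjoin F {(ζ : K)}) ≤ 4 :=
      Nat.le_of_dvd (by norm_num) hd
    generalize Module.finrank F (IntermediateField.adjoin F {(ζ : K)}) = d at hd hle hdvd
    interval_cases d
    · simp at hd
    · exact absurd (by simpa using hdvd) h1
    · exact absurd hdvd h2
    · norm_num at hd
    · rfl
  have h5 : (IntermediateField.adjoin F {(ζ : K)}).toSubalgebra.toSubmodule = ⊤ :=
    Submodule.eq_top_of_finrank_eq (by rw [hK]; exact hd4)
  exact Algebra.toSubmodule_eq_top.1 h5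

end singer

section gl4

variable {F : Type*} [Field F] [Fintype F]

theorem card_GL4 : Nat.card (Matrix.GeneralLinearGroup (Fin 4) F)
    = (Fintype.card F ^ 4 - 1) * ((Fintype.card F ^ 4 - Fintype.card F)
      * (Fintype.card F ^ 4 - Fintype.card F ^ 2) * (Fintype.card F ^ 4 - Fintype.card F ^ 3)) := by
  rw [Matrix.card_GL_field, Fin.prod_univ_four]
  simp
  ring

theorem gl4_key {p : ℕ} [Fact p.Prime] (h0 : ¬ p ∣ Fintype.card F)
    (h1 : ¬ p ∣ Fintype.card F - 1) (h2 : ¬ p ∣ Fintype.card F ^ 2 - 1)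
    (h3 : ¬ p ∣ Fintype.card F ^ 3 - 1) :
    ∃ (K : Type) (_ : Field K) (_ : Algebra F K) (_ : Finite K) (b : Module.Basis (Fin 4) F K),
      Module.finrank F K = 4 ∧ ¬ p ∣ (sing b).range.index := by
  have hp : p.Prime := Fact.out
  have hc : CharP F (ringChar F) := ringChar.charP F
  have hcp : Fact (ringChar F).Prime := ⟨CharP.char_is_prime F (ringChar F)⟩
  have hK := FiniteField.finrank_extension F (ringChar F) 4
  refine ⟨FiniteField.Extension F (ringChar F) 4, inferInstance, inferInstance, inferInstance,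
    Module.finBasisOfFinrankEq F _ hK, hK, ?_⟩
  set b := Module.finBasisOfFinrankEq F (FiniteField.Extension F (ringChar F) 4) hK with hb
  have hcardK : Nat.card (FiniteField.Extension F (ringChar F) 4) = Fintype.card F ^ 4 := by
    rw [FiniteField.natCard_extension, Nat.card_eq_fintype_card]
  have hcardR : Nat.card (sing b).range = Fintype.card F ^ 4 - 1 := by
    rw [← Nat.card_congr (MonoidHom.ofInjective (sing_injective b)).toEquiv, Nat.card_units,
      hcardK]
  have h4 := Subgroup.card_mul_index (sing b).range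
  rw [hcardR, card_GL4] at h4
  have hq1 : 1 < Fintype.card F := Fintype.one_lt_card
  have hpos : 0 < Fintype.card F ^ 4 - 1 := by
    have : 1 < Fintype.card F ^ 4 := Nat.one_lt_pow (by norm_num) hq1
    omega
  have h5 := Nat.eq_of_mul_eq_mul_left hpos h4
  rw [h5]
  have e1 : Fintype.card F * (Fintype.card F ^ 3 - 1) = Fintype.card F ^ 4 - Fintype.card F := by
    rw [Nat.mul_sub, mul_one, ← pow_succ']
  have e2 : Fintype.card F ^ 2 * (Fintype.card F ^ 2 - 1)
      = Fintype.card F ^ 4 - Fintype.card F ^ 2 := by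
    rw [Nat.mul_sub, mul_one, ← pow_add]
  have e3 : Fintype.card F ^ 3 * (Fintype.card F - 1)
      = Fintype.card F ^ 4 - Fintype.card F ^ 3 := by
    rw [Nat.mul_sub, mul_one, ← pow_succ]
  rw [← e1, ← e2, ← e3]
  intro hdvd
  rcases (Nat.Prime.dvd_mul hp).1 hdvd with h | h
  · rcases (Nat.Prime.dvd_mul hp).1 h with h | h
    · rcases (Nat.Prime.dvd_mul hp).1 h with h | h
      · exact h0 h
      · exact h3 h
    · rcases (Nat.Prime.dvd_mul hp).1 h with h | h
      · exact h0 (hp.dvd_of_dvd_pow h)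
      · exact h2 h
  · rcases (Nat.Prime.dvd_mul hp).1 h with h | h
    · exact h0 (hp.dvd_of_dvd_pow h)
    · exact h1 h

/-- `p`-subgroups of `GL₄(F)` are cyclic when `p` divides none of `q`, `q-1`, `q²-1`, `q³-1`. -/
theorem gl4_cyclic {p : ℕ} [Fact p.Prime] (h0 : ¬ p ∣ Fintype.card F)
    (h1 : ¬ p ∣ Fintype.card F - 1) (h2 : ¬ p ∣ Fintype.card F ^ 2 - 1)
    (h3 : ¬ p ∣ Fintype.card F ^ 3 - 1) (R : Subgroup (Matrix.GeneralLinearGroup (Fin 4) F))
    (hR : IsPGroup p R) : IsCyclic R := by
  obtain ⟨K, _, _, _, b, hK, hidx⟩ := gl4_key h0 h1 h2 h3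
  have : IsCyclic (sing b).range :=
    isCyclic_of_surjective (sing b).rangeRestrict (MonoidHom.rangeRestrict_surjective _)
  exact cyclic_of_index _ hidx R hR

/-- The centralizer in `GL₄(F)` of an element of such a prime order is commutative. -/
theorem gl4_centralizer_comm {p : ℕ} [Fact p.Prime] (h0 : ¬ p ∣ Fintype.card F)
    (h1 : ¬ p ∣ Fintype.card F - 1) (h2 : ¬ p ∣ Fintype.card F ^ 2 - 1)
    (h3 : ¬ p ∣ Fintype.card F ^ 3 - 1) (y : Matrix.GeneralLinearGroup (Fin 4) F)
    (hy : orderOf y = p) (A B : Matrix.GeneralLinearGroup (Fin 4) F)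
    (hA : A * y = y * A) (hB : B * y = y * B) : A * B = B * A := by
  obtain ⟨K, _, _, _, b, hK, hidx⟩ := gl4_key h0 h1 h2 h3
  have hR : IsPGroup p (Subgroup.zpowers y) :=
    IsPGroup.of_card (n := 1) (by rw [Nat.card_zpowers, hy, pow_one])
  obtain ⟨g, hg⟩ := conj_into _ hidx _ hR
  obtain ⟨ζ, hζ⟩ := hg y (Subgroup.mem_zpowers y)
  have hord : orderOf ζ = p := by
    rw [← orderOf_injective (sing b) (sing_injective b) ζ, hζ, ← hy]
    exact orderOf_injective (MulAut.conj g).toMonoidHom (MulAut.conj g).injective y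
  have hadj := adjoin_eq_top hK ζ hord h1 h2
  have key : ∀ A : Matrix.GeneralLinearGroup (Fin 4) F, A * y = y * A →
      g * A * g⁻¹ ∈ (sing b).range := by
    intro A hA
    apply mem_range_of_commute b (ζ : K) hadj
    have h4 : g * A * g⁻¹ * sing b ζ = sing b ζ * (g * A * g⁻¹) := by
      rw [hζ]
      calc g * A * g⁻¹ * (g * y * g⁻¹) = g * (A * y) * g⁻¹ := by group
        _ = g * (y * A) * g⁻¹ := by rw [hA]
        _ = g * y * g⁻¹ * (g * A * g⁻¹) := by group
    exact congrArg Units.val h4
  obtain ⟨α, hα⟩ := key A hA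
  obtain ⟨β, hβ⟩ := key B hB
  have h5 : g * A * g⁻¹ * (g * B * g⁻¹) = g * B * g⁻¹ * (g * A * g⁻¹) := by
    rw [← hα, ← hβ, ← map_mul, ← map_mul, mul_comm]
  have h6 : g * (A * B) * g⁻¹ = g * (B * A) * g⁻¹ := by
    calc g * (A * B) * g⁻¹ = g * A * g⁻¹ * (g * B * g⁻¹) := by group
      _ = g * B * g⁻¹ * (g * A * g⁻¹) := h5
      _ = g * (B * A) * g⁻¹ := by group
  exact mul_left_cancel (mul_right_cancel h6)

end gl4

end Cfsg.Agent.Lib.helper2.Singer
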