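import Mathlib
import Cfsg.Prelude.Def_LieExceptional
import Cfsg.Agent.Lib.helper2.Ovoid

set_option autoImplicit false

namespace Cfsg.Agent.Lib.helper2.Suzuki

open Cfsg.Agent.Lib.helper2.Ovoid (N)
open Matrix
open scoped Pointwise

/-- The hypotheses on the field `F` and the exponent `s` used for the Suzuki groups. -/
structure Hyp (F : Type*) [Field F] [Fintype F] (s : ℕ) : Prop where
  h2 : (2 : F) = 0
  hs2 : ∀ x : F, (x ^ s) ^ s = x ^ 2
  hadd : ∀ x y : F, (x + y) ^ s = x ^ s + y ^ s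
  hs : 2 < s
  hcard : s + 2 < Fintype.card F

theorem hyp_of_card {F : Type*} [Field F] [Fintype F] {m : ℕ} (hm : 1 ≤ m)
    (hF : Fintype.card F = 2 ^ (2 * m + 1)) : Hyp F (2 ^ (m + 1)) := by
  have h2 := Ovoid.two_eq_zero hF
  refine ⟨h2, Ovoid.pow_sigma_sq hF, Ovoid.add_pow_two_pow h2 (m + 1), ?_, ?_⟩
  · have : 2 ^ 1 < 2 ^ (m + 1) := Nat.pow_lt_pow_right (by norm_num) (by omega)
    simpa using this
  · rw [hF]
    have e : 2 ^ (2 * m + 1) = 2 ^ (m + 1) * 2 ^ m := by rw [← pow_add]; congr 1; omega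
    have h1 : 2 ^ 1 ≤ 2 ^ m := Nat.pow_le_pow_right (by norm_num) hm
    have h3 : 2 ^ 2 ≤ 2 ^ (m + 1) := Nat.pow_le_pow_right (by norm_num) (by omega)
    rw [e]
    nlinarith

section field

variable {F : Type*} [Field F] [Fintype F] {s : ℕ} (H : Hyp F s)
include H

theorem add_self (x : F) : x + x = 0 := by linear_combination x * H.h2

theorem neg_eq (x : F) : -x = x := by linear_combination -x * H.h2

theorem sq_inj {x y : F} (h : x ^ 2 = y ^ 2) : x = y := by
  have h1 : (x - y) ^ 2 = 0 := by linear_combination h + (y ^ 2 - x * y) * H.h2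
  have h3 := pow_eq_zero_iff (two_ne_zero) |>.1 h1
  linear_combination h3

theorem pow_s_inj {x y : F} (h : x ^ s = y ^ s) : x = y := by
  apply sq_inj H
  rw [← H.hs2 x, ← H.hs2 y, h]

theorem s_ne_zero : s ≠ 0 := by have := H.hs; omega

theorem exists_sqrt (a : F) : ∃ b : F, b ^ 2 = a :=
  Finite.surjective_of_injective (f := fun x : F => x ^ 2) (fun _ _ h => sq_inj H h) a

theorem exists_sqrt_unit (a : Fˣ) : ∃ b : Fˣ, b ^ 2 = a := by
  obtain ⟨b, hb⟩ := exists_sqrt H (a : F)
  have hb0 : b ≠ 0 := by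
    rintro rfl
    have : (a : F) = 0 := by rw [← hb]; simp
    exact a.ne_zero this
  refine ⟨Units.mk0 b hb0, ?_⟩
  ext
  simpa using hb

theorem fourth_root {x : F} (h : x ^ 4 = 1) : x = 1 := by
  apply sq_inj H
  apply sq_inj H
  rw [← pow_mul]
  simpa using h

theorem pow_s1_eq_one {x : F} (h : x ^ (s + 1) = 1) : x = 1 := by
  have h1 : x ^ s * x = 1 := by rw [← pow_succ]; exact h
  have h2' : x ^ 2 * x ^ s = 1 := by rw [← H.hs2 x, ← mul_pow, h1, one_pow]
  linear_combination h2' - x * h1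

theorem pow_s2_eq_one {x : F} (h : x ^ (s + 2) = 1) : x = 1 := by
  have h1 : x ^ s * x ^ 2 = 1 := by rw [← pow_add]; exact h
  have h2' : x ^ 2 * (x ^ s) ^ 2 = 1 := by
    have e : (x ^ 2) ^ s = (x ^ s) ^ 2 := by rw [← pow_mul, ← pow_mul, mul_comm]
    rw [← H.hs2 x, ← e, ← mul_pow, h1, one_pow]
  apply sq_inj H
  linear_combination (-x ^ 2) * h2' + (x ^ s * x ^ 2 + 1) * h1

theorem exists_ne01 : ∃ t : F, t ≠ 0 ∧ t ≠ 1 := by
  classical
  by_contra hcon
  push Not at hcon
  have hsub : (Finset.univ : Finset F) ⊆ {0, 1} := by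
    intro t _
    by_cases h0 : t = 0
    · simp [h0]
    · simp [hcon t h0]
  have h1 := Finset.card_le_card hsub
  have h3 : ({0, 1} : Finset F).card ≤ 2 := Finset.card_le_two
  rw [Finset.card_univ] at h1
  have := H.hcard
  have := H.hs
  omega

theorem pow_s_fix {t : F} (h : t ^ s = t) : t = 0 ∨ t = 1 := by
  have h1 : t ^ 2 = t := by rw [← H.hs2 t, h, h]
  have : t * (t - 1) = 0 := by linear_combination h1
  rcases mul_eq_zero.1 this with h | h
  · left; exact h
  · right; linear_combination h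

theorem poly_lemma {A B C : F} (h : ∀ x : F, A * x ^ 2 + B * x ^ (s + 2) + C * x ^ s = 0) :
    A = 0 ∧ B = 0 ∧ C = 0 := by
  classical
  have hs := H.hs
  let p : Polynomial F := Polynomial.C A * Polynomial.X ^ 2
    + Polynomial.C B * Polynomial.X ^ (s + 2) + Polynomial.C C * Polynomial.X ^ s
  have hdeg : p.natDegree ≤ s + 2 := by
    simp only [p]
    compute_degree
  have hp : p = 0 := by
    apply Polynomial.eq_zero_of_natDegree_lt_card_of_eval_eq_zero p (f := id)
      Function.injective_id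
    · intro x
      simp only [p, id]
      simpa using h x
    · exact lt_of_le_of_lt hdeg H.hcard
  have c2 := congrArg (fun p => Polynomial.coeff p 2) hp
  have cs := congrArg (fun p => Polynomial.coeff p s) hp
  have cs2 := congrArg (fun p => Polynomial.coeff p (s + 2)) hp
  simp only [p, Polynomial.coeff_add, Polynomial.coeff_C_mul, Polynomial.coeff_X_pow,
    Polynomial.coeff_zero] at c2 cs cs2
  have e1 : ¬ (2 = s + 2) := by omega
  have e2 : ¬ (2 = s) := by omega
  have e3 : ¬ (s = s + 2) := by omega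
  have e4 : ¬ (s = 2) := by omega
  have e5 : ¬ (s + 2 = 2) := by omega
  have e6 : ¬ (s + 2 = s) := by omega
  simp only [e1, e2, e3, e4, e5, e6, if_true, if_false, mul_one, mul_zero, add_zero, zero_add]
    at c2 cs cs2
  exact ⟨c2, cs2, cs⟩

end field

section defs

variable {F : Type*} [Field F] (s : ℕ)

/-- The affine vector `(N(x,y), y, x, 1)`. -/
def aff (x y : F) : Fin 4 → F := ![N s x y, y, x, 1]

/-- The vector `(1, 0, 0, 0)`. -/
def e0 (F : Type*) [Field F] : Fin 4 → F := ![1, 0, 0, 0]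

theorem aff_ne_zero (x y : F) : aff s x y ≠ 0 := by
  intro h
  have := congrFun h 3
  simp [aff] at this

theorem e0_ne_zero : e0 F ≠ 0 := by
  intro h
  have := congrFun h 0
  simp [e0] at this

/-- The affine point of the ovoid with parameters `x`, `y`. -/
def P (x y : F) : Projectivization F (Fin 4 → F) :=
  Projectivization.mk F (aff s x y) (aff_ne_zero s x y)

/-- The point at infinity. -/
def inf (F : Type*) [Field F] : Projectivization F (Fin 4 → F) :=
  Projectivization.mk F (e0 F) e0_ne_zero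

/-- The ovoid with exponent `s`. -/
def ov (F : Type*) [Field F] (s : ℕ) : Set (Projectivization F (Fin 4 → F)) :=
  {p | ∃ (v : Fin 4 → F) (hv : v ≠ 0), p = Projectivization.mk F v hv ∧
    (v = ![1, 0, 0, 0] ∨ ∃ x y : F, v = ![x * y + x ^ (s + 2) + y ^ s, y, x, 1])}

theorem mem_ov {p : Projectivization F (Fin 4 → F)} :
    p ∈ ov F s ↔ p = inf F ∨ ∃ x y, p = P s x y := by
  constructor
  · rintro ⟨v, hv, rfl, h | ⟨x, y, h⟩⟩
    · left
      subst h
      rfl
    · right
      subst h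
      exact ⟨x, y, rfl⟩
  · rintro (h | ⟨x, y, h⟩)
    · exact ⟨_, e0_ne_zero, h, Or.inl rfl⟩
    · exact ⟨_, aff_ne_zero s x y, h, Or.inr ⟨x, y, rfl⟩⟩

theorem inf_mem : inf F ∈ ov F s := (mem_ov s).2 (Or.inl rfl)

theorem P_mem (x y : F) : P s x y ∈ ov F s := (mem_ov s).2 (Or.inr ⟨x, y, rfl⟩)

theorem P_ne_inf (x y : F) : P s x y ≠ inf F := by
  intro h
  rw [P, inf, Projectivization.mk_eq_mk_iff'] at h
  obtain ⟨a, ha⟩ := h
  have := congrFun ha 3
  simp [aff, e0] at this

theorem P_inj {x y x' y' : F} (h : P s x y = P s x' y') : x = x' ∧ y = y' := by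
  rw [P, P, Projectivization.mk_eq_mk_iff'] at h
  obtain ⟨a, ha⟩ := h
  have h3 := congrFun ha 3
  have h2 := congrFun ha 2
  have h1 := congrFun ha 1
  simp [aff] at h3 h2 h1
  subst h3
  simp at h2 h1
  exact ⟨h2.symm, h1.symm⟩

theorem mulVec_vec (M : Matrix (Fin 4) (Fin 4) F) (v0 v1 v2 v3 : F) (i : Fin 4) :
    (M *ᵥ ![v0, v1, v2, v3]) i = M i 0 * v0 + M i 1 * v1 + M i 2 * v2 + M i 3 * v3 := by
  simp [Matrix.mulVec, dotProduct, Fin.sum_univ_four]

theorem smul_mk_eq {g : Matrix.SpecialLinearGroup (Fin 4) F} {v w : Fin 4 → F} (hv : v ≠ 0)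
    (hw : w ≠ 0) {c : F} (h : g.val *ᵥ v = c • w) :
    g • Projectivization.mk F v hv = Projectivization.mk F w hw := by
  rw [Projectivization.smul_mk, Projectivization.mk_eq_mk_iff']
  exact ⟨c, h.symm⟩

theorem smul_mk_eq_iff {g : Matrix.SpecialLinearGroup (Fin 4) F} {v w : Fin 4 → F} (hv : v ≠ 0)
    (hw : w ≠ 0) :
    g • Projectivization.mk F v hv = Projectivization.mk F w hw ↔ ∃ c : F, g.val *ᵥ v = c • w := by
  rw [Projectivization.smul_mk, Projectivization.mk_eq_mk_iff']
  constructor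
  · rintro ⟨c, h⟩
    exact ⟨c, h.symm⟩
  · rintro ⟨c, h⟩
    exact ⟨c, h.symm⟩

/-- The translation matrix. -/
def tm (a b : F) : Matrix (Fin 4) (Fin 4) F :=
  !![1, a, a ^ (s + 1) + b, N s a b; 0, 1, a ^ s, b; 0, 0, 1, a; 0, 0, 0, 1]

/-- The diagonal matrix. -/
def em (l : Fˣ) : Matrix (Fin 4) (Fin 4) F :=
  !![(l : F) ^ (s + 2), 0, 0, 0; 0, (l : F) ^ s, 0, 0; 0, 0, ((l : F) ^ s)⁻¹, 0;
    0, 0, 0, ((l : F) ^ (s + 2))⁻¹]

/-- The antidiagonal permutation matrix. -/
def wm (F : Type*) [Field F] : Matrix (Fin 4) (Fin 4) F :=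
  !![0, 0, 0, 1; 0, 0, 1, 0; 0, 1, 0, 0; 1, 0, 0, 0]

theorem det_tm (a b : F) : (tm s a b).det = 1 := by
  rw [Matrix.det_of_isUpperTriangular]
  · simp [tm, Fin.prod_univ_four]
  · intro i j hij
    fin_cases i <;> fin_cases j <;> first | rfl | (exfalso; revert hij; decide)

theorem det_em (l : Fˣ) : (em s l).det = 1 := by
  rw [Matrix.det_of_isUpperTriangular]
  · simp [em, Fin.prod_univ_four]
  · intro i j hij
    fin_cases i <;> fin_cases j <;> first | rfl | (exfalso; revert hij; decide)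

theorem det_wm : (wm F).det = 1 := by
  rw [Matrix.det_succ_row_zero]
  simp [Fin.sum_univ_succ, wm, Matrix.det_fin_three, Fin.succAbove, Matrix.submatrix]
  norm_num

/-- The translation as an element of `SL₄`. -/
def tS (a b : F) : Matrix.SpecialLinearGroup (Fin 4) F := ⟨tm s a b, det_tm s a b⟩

/-- The diagonal element of `SL₄`. -/
def eS (l : Fˣ) : Matrix.SpecialLinearGroup (Fin 4) F := ⟨em s l, det_em s l⟩

/-- The antidiagonal element of `SL₄`. -/
def wS (F : Type*) [Field F] : Matrix.SpecialLinearGroup (Fin 4) F := ⟨wm F, det_wm⟩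

theorem tS_smul_inf (a b : F) : tS s a b • inf F = inf F := by
  apply smul_mk_eq (c := 1)
  ext i
  fin_cases i <;> simp [tS, tm, e0, Matrix.mulVec, dotProduct, Fin.sum_univ_four]

theorem eS_smul_inf (l : Fˣ) : eS s l • inf F = inf F := by
  apply smul_mk_eq (c := (l : F) ^ (s + 2))
  ext i
  fin_cases i <;> simp [eS, em, e0, Matrix.mulVec, dotProduct, Fin.sum_univ_four]

end defs

section act

variable {F : Type*} [Field F] [Fintype F] {s : ℕ} (H : Hyp F s)
include H

theorem N_zero : N s (0 : F) 0 = 0 := by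
  have := s_ne_zero H
  simp [N, this]

theorem N_trans (x y a b : F) :
    N s (x + a) (y + b + a ^ s * x)
      = N s x y + a * y + (a ^ (s + 1) + b) * x + N s a b := by
  simp only [N]
  rw [pow_add (x + a) s 2, H.hadd x a, H.hadd (y + b) (a ^ s * x), H.hadd y b, mul_pow, H.hs2 a]
  linear_combination (a ^ s * x ^ 2 + x ^ s * a ^ 2 + x * x ^ s * a + x * a * a ^ s) * H.h2

theorem N_scale (l x y : F) :
    N s (l ^ 2 * x) (l ^ (2 * s + 2) * y) = l ^ (2 * s + 4) * N s x y := by
  simp only [N]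
  have e1 : (l ^ (2 * s + 2)) ^ s = ((l ^ s) ^ s) ^ 2 * (l ^ s) ^ 2 := by ring
  rw [mul_pow _ y s, e1, H.hs2]
  ring

theorem tS_smul_P (a b x y : F) : tS s a b • P s x y = P s (x + a) (y + b + a ^ s * x) := by
  apply smul_mk_eq (c := 1)
  ext i
  fin_cases i
  · simp only [tS, tm, aff, mulVec_vec]
    simp
    rw [N_trans H]
  · simp only [tS, tm, aff, mulVec_vec]
    simp
    ring
  · simp only [tS, tm, aff, mulVec_vec]
    simp
  · simp only [tS, tm, aff, mulVec_vec]
    simp

theorem eS_smul_P (l : Fˣ) (x y : F) :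
    eS s l • P s x y = P s ((l : F) ^ 2 * x) ((l : F) ^ (2 * s + 2) * y) := by
  apply smul_mk_eq (c := ((l : F) ^ (s + 2))⁻¹)
  have hl : (l : F) ≠ 0 := l.ne_zero
  ext i
  fin_cases i
  · simp only [eS, em, aff, mulVec_vec]
    simp
    rw [N_scale H]
    field_simp
    ring
  · simp only [eS, em, aff, mulVec_vec]
    simp
    field_simp
    ring
  · simp only [eS, em, aff, mulVec_vec]
    simp
    field_simp
    ring
  · simp only [eS, em, aff, mulVec_vec]
    simp

theorem wS_smul_inf : wS F • inf F = P s 0 0 := by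
  apply smul_mk_eq (c := 1)
  ext i
  fin_cases i <;> simp [wS, wm, e0, aff, N_zero H, Matrix.mulVec, dotProduct, Fin.sum_univ_four]

theorem wS_smul_P00 : wS F • P s 0 0 = inf F := by
  apply smul_mk_eq (c := 1)
  ext i
  fin_cases i <;> simp [wS, wm, e0, aff, N_zero H, Matrix.mulVec, dotProduct, Fin.sum_univ_four]

theorem N_ne_zero {x y : F} (h : ¬ (x = 0 ∧ y = 0)) : N s x y ≠ 0 :=
  fun h0 => h (Ovoid.aniso H.h2 H.hs2 H.hadd h0)

theorem wS_smul_P {x y : F} (h : ¬ (x = 0 ∧ y = 0)) :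
    wS F • P s x y = P s (y * (N s x y)⁻¹) (x * (N s x y)⁻¹) := by
  have hn := N_ne_zero H h
  have hN := Ovoid.inv_N H.h2 H.hs2 H.hadd (x := x) (y := y) (u := (N s x y)⁻¹)
    (inv_mul_cancel₀ hn)
  apply smul_mk_eq (c := N s x y)
  ext i
  fin_cases i
  · simp only [wS, wm, aff, mulVec_vec]
    simp
    rw [hN]
    field_simp
  · simp only [wS, wm, aff, mulVec_vec]
    simp
    field_simp
  · simp only [wS, wm, aff, mulVec_vec]
    simp
    field_simp
  · simp only [wS, wm, aff, mulVec_vec]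
    simp

/-- The group: the stabilizer of the ovoid. -/
abbrev Gs (F : Type*) [Field F] (s : ℕ) : Subgroup (Matrix.SpecialLinearGroup (Fin 4) F) :=
  MulAction.stabilizer (Matrix.SpecialLinearGroup (Fin 4) F) (ov F s)

omit H in
theorem mem_Gs_iff {g : Matrix.SpecialLinearGroup (Fin 4) F} :
    g ∈ Gs F s ↔ ∀ p ∈ ov F s, g • p ∈ ov F s := by
  rw [MulAction.mem_stabilizer_set' (Set.toFinite _)]

omit H in
theorem tS_mem' (h : ∀ a b x y : F, tS s a b • P s x y = P s (x + a) (y + b + a ^ s * x))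
    (a b : F) : tS s a b ∈ Gs F s := by
  rw [mem_Gs_iff]
  intro p hp
  rcases (mem_ov s).1 hp with rfl | ⟨x, y, rfl⟩
  · rw [tS_smul_inf]; exact inf_mem s
  · rw [h]; exact P_mem s _ _

theorem tS_mem (a b : F) : tS s a b ∈ Gs F s := tS_mem' (tS_smul_P H) a b

theorem eS_mem (l : Fˣ) : eS s l ∈ Gs F s := by
  rw [mem_Gs_iff]
  intro p hp
  rcases (mem_ov s).1 hp with rfl | ⟨x, y, rfl⟩
  · rw [eS_smul_inf]; exact inf_mem s
  · rw [eS_smul_P H]; exact P_mem s _ _

theorem wS_mem : wS F ∈ Gs F s := by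
  rw [mem_Gs_iff]
  intro p hp
  rcases (mem_ov s).1 hp with rfl | ⟨x, y, rfl⟩
  · rw [wS_smul_inf H]; exact P_mem s _ _
  · by_cases h : x = 0 ∧ y = 0
    · obtain ⟨rfl, rfl⟩ := h
      rw [wS_smul_P00 H]; exact inf_mem s
    · rw [wS_smul_P H h]; exact P_mem s _ _

end act

section struct

variable {F : Type*} [Field F] [Fintype F] {s : ℕ} (H : Hyp F s)
include H

omit H [Fintype F] in
theorem fix_inf_col {g : Matrix.SpecialLinearGroup (Fin 4) F} (h : g • inf F = inf F) :
    g.val 1 0 = 0 ∧ g.val 2 0 = 0 ∧ g.val 3 0 = 0 := by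
  rw [inf, smul_mk_eq_iff] at h
  obtain ⟨c, hc⟩ := h
  have h1 := congrFun hc 1
  have h2 := congrFun hc 2
  have h3 := congrFun hc 3
  simp only [e0, mulVec_vec] at h1 h2 h3
  simp at h1 h2 h3
  exact ⟨h1, h2, h3⟩

omit H in
theorem smul_P_of_fix_inf {g : Matrix.SpecialLinearGroup (Fin 4) F} (hg : g ∈ Gs F s)
    (h : g • inf F = inf F) (x y : F) : ∃ x' y', g • P s x y = P s x' y' := by
  have h1 : g • P s x y ∈ ov F s := (mem_Gs_iff.1 hg) _ (P_mem s x y)
  rcases (mem_ov s).1 h1 with h2 | h2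
  · exfalso
    rw [← h] at h2
    exact P_ne_inf s x y (MulAction.injective g h2)
  · exact h2

omit H [Fintype F] in
theorem smul_P_coord {g : Matrix.SpecialLinearGroup (Fin 4) F} {x y x' y' : F}
    (h : g • P s x y = P s x' y') :
    (g.val *ᵥ aff s x y) 3 ≠ 0 ∧
      g.val *ᵥ aff s x y = (g.val *ᵥ aff s x y) 3 • aff s x' y' := by
  rw [P, P, smul_mk_eq_iff] at h
  obtain ⟨c, hc⟩ := h
  have h3 : (g.val *ᵥ aff s x y) 3 = c := by rw [hc]; simp [aff]
  rw [h3]
  refine ⟨?_, hc⟩
  rintro rfl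
  rw [zero_smul] at hc
  have h4 : (g⁻¹).val *ᵥ (g.val *ᵥ aff s x y) = 0 := by rw [hc]; simp
  rw [Matrix.mulVec_mulVec, ← Matrix.SpecialLinearGroup.coe_mul, inv_mul_cancel] at h4
  simp at h4
  exact aff_ne_zero s x y h4

omit H in
theorem fix_inf_row {g : Matrix.SpecialLinearGroup (Fin 4) F} (hg : g ∈ Gs F s)
    (h : g • inf F = inf F) : g.val 3 1 = 0 ∧ g.val 3 2 = 0 := by
  obtain ⟨-, -, h30⟩ := fix_inf_col h
  have key : ∀ x y : F, g.val 3 1 * y + g.val 3 2 * x + g.val 3 3 ≠ 0 := by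
    intro x y h0
    obtain ⟨x', y', hxy⟩ := smul_P_of_fix_inf hg h x y
    apply (smul_P_coord hxy).1
    simp only [aff, mulVec_vec]
    rw [h30]
    linear_combination h0
  constructor
  · by_contra h31
    exact key 0 (-(g.val 3 3) / g.val 3 1) (by field_simp; ring)
  · by_contra h32
    exact key (-(g.val 3 3) / g.val 3 2) 0 (by field_simp; ring)

theorem fix_two {g : Matrix.SpecialLinearGroup (Fin 4) F} (hg : g ∈ Gs F s)
    (h1 : g • inf F = inf F) (h0 : g • P s (0 : F) 0 = P s 0 0) : ∃ l : Fˣ, g = eS s l := by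
  obtain ⟨c10, c20, c30⟩ := fix_inf_col h1
  obtain ⟨r31, r32⟩ := fix_inf_row hg h1
  have g33 : g.val 3 3 ≠ 0 := by
    have := (smul_P_coord h0).1
    simpa [aff, mulVec_vec, N_zero H] using this
  have c03 : g.val 0 3 = 0 := by
    have := congrFun (smul_P_coord h0).2 0
    simpa [aff, mulVec_vec, N_zero H] using this
  have c13 : g.val 1 3 = 0 := by
    have := congrFun (smul_P_coord h0).2 1
    simpa [aff, mulVec_vec, N_zero H] using this
  have c23 : g.val 2 3 = 0 := by
    have := congrFun (smul_P_coord h0).2 2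
    simpa [aff, mulVec_vec, N_zero H] using this
  have hw : wS F * g * wS F ∈ Gs F s := mul_mem (mul_mem (wS_mem H) hg) (wS_mem H)
  have hwfix : (wS F * g * wS F) • inf F = inf F := by
    rw [mul_smul, mul_smul, wS_smul_inf H, h0, wS_smul_P00 H]
  obtain ⟨q31, q32⟩ := fix_inf_row hw hwfix
  have r01 : g.val 0 1 = 0 := by
    have e : (wS F * g * wS F).val 3 2 = g.val 0 1 := by
      rw [Matrix.SpecialLinearGroup.coe_mul, Matrix.SpecialLinearGroup.coe_mul]
      have hwv : (wS F).val = wm F := rfl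
      rw [hwv]
      simp [wm, Matrix.mul_apply, Matrix.vecMul, dotProduct, Fin.sum_univ_four]
    rw [← e]; exact q32
  have r02 : g.val 0 2 = 0 := by
    have e : (wS F * g * wS F).val 3 1 = g.val 0 2 := by
      rw [Matrix.SpecialLinearGroup.coe_mul, Matrix.SpecialLinearGroup.coe_mul]
      have hwv : (wS F).val = wm F := rfl
      rw [hwv]
      simp [wm, Matrix.mul_apply, Matrix.vecMul, dotProduct, Fin.sum_univ_four]
    rw [← e]; exact q31
  have key : ∀ x y : F, N s (g.val 2 2 / g.val 3 3 * x + g.val 2 1 / g.val 3 3 * y)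
      (g.val 1 2 / g.val 3 3 * x + g.val 1 1 / g.val 3 3 * y)
      = g.val 0 0 / g.val 3 3 * N s x y := by
    intro x y
    obtain ⟨x', y', hxy⟩ := smul_P_of_fix_inf hg h1 x y
    obtain ⟨-, hv⟩ := smul_P_coord hxy
    have e3' : (g.val *ᵥ aff s x y) 3 = g.val 3 3 := by
      simp [aff, mulVec_vec, c30, r31, r32]
    rw [e3'] at hv
    have e0' : g.val 0 0 * N s x y = g.val 3 3 * N s x' y' := by
      have := congrFun hv 0
      simpa [aff, mulVec_vec, r01, r02, c03] using this
    have e1' : g.val 1 1 * y + g.val 1 2 * x = g.val 3 3 * y' := by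
      have := congrFun hv 1
      simpa [aff, mulVec_vec, c10, c13] using this
    have e2' : g.val 2 1 * y + g.val 2 2 * x = g.val 3 3 * x' := by
      have := congrFun hv 2
      simpa [aff, mulVec_vec, c20, c23] using this
    have hx' : g.val 2 2 / g.val 3 3 * x + g.val 2 1 / g.val 3 3 * y = x' := by
      field_simp
      linear_combination e2'
    have hy' : g.val 1 2 / g.val 3 3 * x + g.val 1 1 / g.val 3 3 * y = y' := by
      field_simp
      linear_combination e1'
    rw [hx', hy']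
    field_simp
    linear_combination -e0'
  generalize hα : g.val 2 2 / g.val 3 3 = α at key
  generalize hβ : g.val 2 1 / g.val 3 3 = β at key
  generalize hγ : g.val 1 2 / g.val 3 3 = γ at key
  generalize hδ : g.val 1 1 / g.val 3 3 = δ at key
  generalize hc : g.val 0 0 / g.val 3 3 = c at key
  have hs0 := s_ne_zero H
  obtain ⟨k1, k2, k3⟩ := poly_lemma H (A := α * γ) (B := α ^ (s + 2) - c) (C := γ ^ s) (by
    intro x
    have := key x 0
    simp only [N, mul_zero, add_zero, zero_pow hs0] at this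
    rw [mul_pow, mul_pow] at this
    linear_combination this)
  obtain ⟨k4, k5, k6⟩ := poly_lemma H (A := β * δ) (B := β ^ (s + 2)) (C := δ ^ s - c) (by
    intro y
    have := key 0 y
    have e : (0 : F) ^ (s + 2) = 0 := zero_pow (by omega)
    simp only [N, mul_zero, zero_add, zero_mul, e] at this
    rw [mul_pow, mul_pow] at this
    linear_combination this)
  have hγ0 : γ = 0 := (pow_eq_zero_iff hs0).1 k3
  have hβ0 : β = 0 := (pow_eq_zero_iff (by omega)).1 k5
  have k7 : α * δ = c := by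
    have := key 1 1
    rw [hγ0, hβ0] at this
    simp only [N, mul_one, add_zero, zero_add, one_pow] at this
    linear_combination this - k2 - k6
  have g12 : g.val 1 2 = 0 := by
    rw [hγ0] at hγ
    exact (div_eq_zero_iff.1 hγ).resolve_right g33
  have g21 : g.val 2 1 = 0 := by
    rw [hβ0] at hβ
    exact (div_eq_zero_iff.1 hβ).resolve_right g33
  have g22 : g.val 2 2 = α * g.val 3 3 := by rw [← hα]; field_simp
  have g11 : g.val 1 1 = δ * g.val 3 3 := by rw [← hδ]; field_simp
  have g00 : g.val 0 0 = c * g.val 3 3 := by rw [← hc]; field_simp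
  have hdet : g.val 0 0 * g.val 1 1 * g.val 2 2 * g.val 3 3 = 1 := by
    have h := g.2
    rw [Matrix.det_of_isUpperTriangular] at h
    · rw [Fin.prod_univ_four] at h
      exact h
    · intro i j hij
      fin_cases i <;> fin_cases j <;>
        first | assumption | (exfalso; revert hij; decide)
  rw [g00, g11, g22] at hdet
  have hα0 : α ≠ 0 := by
    rintro rfl
    rw [zero_mul, mul_zero, zero_mul] at hdet
    exact zero_ne_one hdet
  have hδ' : δ = α ^ (s + 1) := by
    have : α * (δ - α ^ (s + 1)) = 0 := by linear_combination k7 - k2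
    rcases mul_eq_zero.1 this with h | h
    · exact absurd h hα0
    · linear_combination h
  have hc' : c = α ^ (s + 2) := by linear_combination -k2
  obtain ⟨l, hl⟩ := exists_sqrt H α
  have hl0 : l ≠ 0 := by
    rintro rfl
    apply hα0
    rw [← hl]
    simp
  have h4 : l ^ (s + 2) * g.val 3 3 = 1 := by
    apply fourth_root H
    rw [hc', hδ', ← hl] at hdet
    linear_combination hdet
  have e33 : g.val 3 3 = (l ^ (s + 2))⁻¹ := eq_inv_of_mul_eq_one_right h4
  have e22 : g.val 2 2 = (l ^ s)⁻¹ := by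
    rw [g22, e33, ← hl]
    field_simp
    ring
  have e11 : g.val 1 1 = l ^ s := by
    rw [g11, e33, hδ', ← hl]
    field_simp
    ring
  have e00 : g.val 0 0 = l ^ (s + 2) := by
    rw [g00, e33, hc', ← hl]
    field_simp
    ring
  refine ⟨Units.mk0 l hl0, ?_⟩
  apply Subtype.ext
  ext i j
  fin_cases i <;> fin_cases j <;> simp [eS, em] <;> assumption

end struct

end Cfsg.Agent.Lib.helper2.Suzuki
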