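import Mathlib
import Cfsg.Prelude.Def_LieExceptional
import Cfsg.Agent.Lib.helper2.Suzuki1

set_option autoImplicit false

namespace Cfsg.Agent.Lib.helper2.Suzuki

open Cfsg.Agent.Lib.helper2.Ovoid (N)
open Matrix
open scoped Pointwise

section grp

variable {F : Type*} [Field F] [Fintype F] {s : ℕ} (H : Hyp F s)
include H

theorem tS_smul_P00 (a b : F) : tS s a b • P s (0 : F) 0 = P s a b := by
  rw [tS_smul_P H]
  congr 1 <;> simp

theorem tS_inv_smul_P (a b : F) : (tS s a b)⁻¹ • P s a b = P s (0 : F) 0 := by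
  rw [inv_smul_eq_iff, tS_smul_P00 H]

omit H [Fintype F] in
theorem tS_inv_smul_inf (a b : F) : (tS s a b)⁻¹ • inf F = inf F := by
  rw [inv_smul_eq_iff, tS_smul_inf]

theorem stab_inf {g : Matrix.SpecialLinearGroup (Fin 4) F} (hg : g ∈ Gs F s)
    (h : g • inf F = inf F) : ∃ a b l, g = tS s a b * eS s l := by
  obtain ⟨a, b, hab⟩ := smul_P_of_fix_inf hg h 0 0
  have hg' : (tS s a b)⁻¹ * g ∈ Gs F s := mul_mem (inv_mem (tS_mem H a b)) hg
  have h1 : ((tS s a b)⁻¹ * g) • inf F = inf F := by rw [mul_smul, h, tS_inv_smul_inf]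
  have h0 : ((tS s a b)⁻¹ * g) • P s (0 : F) 0 = P s 0 0 := by
    rw [mul_smul, hab, tS_inv_smul_P H]
  obtain ⟨l, hl⟩ := fix_two H hg' h1 h0
  exact ⟨a, b, l, by rw [← hl]; group⟩

theorem exists_smul_inf {p : Projectivization F (Fin 4 → F)} (hp : p ∈ ov F s) :
    ∃ g ∈ Gs F s, g • inf F = p := by
  rcases (mem_ov s).1 hp with rfl | ⟨x, y, rfl⟩
  · exact ⟨1, one_mem _, one_smul _ _⟩
  · exact ⟨tS s x y * wS F, mul_mem (tS_mem H x y) (wS_mem H), by
      rw [mul_smul, wS_smul_inf H, tS_smul_P00 H]⟩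

theorem decomp {g : Matrix.SpecialLinearGroup (Fin 4) F} (hg : g ∈ Gs F s) :
    (∃ a b l, g = tS s a b * eS s l) ∨
      (∃ a b a' b' l, g = tS s a b * wS F * (tS s a' b' * eS s l)) := by
  have h1 : g • inf F ∈ ov F s := mem_Gs_iff.1 hg _ (inf_mem s)
  rcases (mem_ov s).1 h1 with h | ⟨x, y, h⟩
  · left; exact stab_inf H hg h
  · right
    have hk : tS s x y * wS F ∈ Gs F s := mul_mem (tS_mem H x y) (wS_mem H)
    have h2 : ((tS s x y * wS F)⁻¹ * g) • inf F = inf F := by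
      rw [mul_smul, h, inv_smul_eq_iff, mul_smul, wS_smul_inf H, tS_smul_P00 H]
    obtain ⟨a', b', l, hl⟩ := stab_inf H (mul_mem (inv_mem hk) hg) h2
    exact ⟨x, y, a', b', l, by rw [← hl]; group⟩

theorem two_trans {p q : Projectivization F (Fin 4 → F)} (hp : p ∈ ov F s) (hq : q ∈ ov F s)
    (hpq : p ≠ q) : ∃ g ∈ Gs F s, g • p = inf F ∧ g • q = P s (0 : F) 0 := by
  obtain ⟨g1, hg1, h1⟩ := exists_smul_inf H hp
  have h2 : g1⁻¹ • q ∈ ov F s := mem_Gs_iff.1 (inv_mem hg1) _ hq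
  rcases (mem_ov s).1 h2 with h | ⟨x, y, h⟩
  · exfalso
    apply hpq
    rw [← h1, ← h, smul_inv_smul]
  · refine ⟨(tS s x y)⁻¹ * g1⁻¹, mul_mem (inv_mem (tS_mem H x y)) (inv_mem hg1), ?_, ?_⟩
    · rw [mul_smul, ← h1, inv_smul_smul, tS_inv_smul_inf]
    · rw [mul_smul, h, tS_inv_smul_P H]

omit H [Fintype F] in
theorem eS_one : eS s (1 : Fˣ) = 1 := by
  apply Subtype.ext
  ext i j
  fin_cases i <;> fin_cases j <;> simp [eS, em]

theorem fix_three {g : Matrix.SpecialLinearGroup (Fin 4) F} (hg : g ∈ Gs F s)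
    (h1 : g • inf F = inf F) (h0 : g • P s (0 : F) 0 = P s 0 0) {x y : F}
    (hxy : ¬ (x = 0 ∧ y = 0)) (h : g • P s x y = P s x y) : g = 1 := by
  obtain ⟨l, rfl⟩ := fix_two H hg h1 h0
  rw [eS_smul_P H] at h
  obtain ⟨e1, e2⟩ := P_inj s h
  have hl2 : (l : F) ^ 2 = 1 := by
    by_cases hx : x = 0
    · have hy : y ≠ 0 := fun hy => hxy ⟨hx, hy⟩
      have h3 : (l : F) ^ (2 * s + 2) = 1 := by
        have : ((l : F) ^ (2 * s + 2) - 1) * y = 0 := by linear_combination e2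
        rcases mul_eq_zero.1 this with h | h
        · linear_combination h
        · exact absurd h hy
      have h4 : ((l : F) ^ 2) ^ (s + 1) = 1 := by
        have e : 2 * (s + 1) = 2 * s + 2 := by ring
        rw [← pow_mul, e, h3]
      exact pow_s1_eq_one H h4
    · have : ((l : F) ^ 2 - 1) * x = 0 := by linear_combination e1
      rcases mul_eq_zero.1 this with h | h
      · linear_combination h
      · exact absurd h hx
  have hl1 : l = 1 := by
    ext
    apply sq_inj H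
    simpa using hl2
  rw [hl1, eS_one]

theorem faithful {g : Matrix.SpecialLinearGroup (Fin 4) F} (hg : g ∈ Gs F s)
    (h : ∀ p ∈ ov F s, g • p = p) : g = 1 :=
  fix_three H hg (h _ (inf_mem s)) (h _ (P_mem s 0 0)) (x := 1) (y := 0) (by simp)
    (h _ (P_mem s 1 0))

theorem eq_of_smul_eq {g h : Matrix.SpecialLinearGroup (Fin 4) F} (hg : g ∈ Gs F s)
    (hh : h ∈ Gs F s) (e : ∀ p ∈ ov F s, g • p = h • p) : g = h := by
  have h1 : h⁻¹ * g = 1 := faithful H (mul_mem (inv_mem hh) hg) (fun p hp => by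
    rw [mul_smul, e p hp, inv_smul_smul])
  exact (inv_mul_eq_one.1 h1).symm

theorem tS_mul (a b a' b' : F) :
    tS s a b * tS s a' b' = tS s (a + a') (b + b' + a ^ s * a') := by
  apply eq_of_smul_eq H (mul_mem (tS_mem H a b) (tS_mem H a' b')) (tS_mem H _ _)
  intro p hp
  rcases (mem_ov s).1 hp with rfl | ⟨x, y, rfl⟩
  · rw [mul_smul, tS_smul_inf, tS_smul_inf, tS_smul_inf]
  · rw [mul_smul, tS_smul_P H, tS_smul_P H, tS_smul_P H]
    congr 1
    · ring
    · rw [H.hadd]; ring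

theorem tS_zero : tS s (0 : F) 0 = 1 := by
  apply eq_of_smul_eq H (tS_mem H 0 0) (one_mem _)
  intro p hp
  rcases (mem_ov s).1 hp with rfl | ⟨x, y, rfl⟩
  · rw [tS_smul_inf, one_smul]
  · rw [tS_smul_P H, one_smul]
    congr 1 <;> simp [s_ne_zero H]

theorem tS_inj {a b a' b' : F} (h : tS s a b = tS s a' b') : a = a' ∧ b = b' := by
  have h1 := congrArg (fun g => g • P s (0 : F) 0) h
  simp only [tS_smul_P00 H] at h1
  exact P_inj s h1

theorem tS_inv (a b : F) : (tS s a b)⁻¹ = tS s a (b + a ^ (s + 1)) := by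
  apply inv_eq_of_mul_eq_one_right
  rw [tS_mul H, ← tS_zero H]
  congr 1
  · exact add_self H a
  · linear_combination (b + a ^ (s + 1)) * H.h2

theorem eS_mul (l l' : Fˣ) : eS s l * eS s l' = eS s (l * l') := by
  apply eq_of_smul_eq H (mul_mem (eS_mem H l) (eS_mem H l')) (eS_mem H _)
  intro p hp
  rcases (mem_ov s).1 hp with rfl | ⟨x, y, rfl⟩
  · rw [mul_smul, eS_smul_inf, eS_smul_inf, eS_smul_inf]
  · rw [mul_smul, eS_smul_P H, eS_smul_P H, eS_smul_P H]
    congr 1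
    · push_cast; ring
    · push_cast; ring

theorem eS_inj {l l' : Fˣ} (h : eS s l = eS s l') : l = l' := by
  have h1 := congrArg (fun g => g • P s (1 : F) 0) h
  simp only [eS_smul_P H] at h1
  obtain ⟨e1, -⟩ := P_inj s h1
  ext
  apply sq_inj H
  simpa using e1

theorem eS_tS (l : Fˣ) (a b : F) :
    eS s l * tS s a b = tS s ((l : F) ^ 2 * a) ((l : F) ^ (2 * s + 2) * b) * eS s l := by
  apply eq_of_smul_eq H (mul_mem (eS_mem H l) (tS_mem H a b))
    (mul_mem (tS_mem H _ _) (eS_mem H l))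
  intro p hp
  rcases (mem_ov s).1 hp with rfl | ⟨x, y, rfl⟩
  · rw [mul_smul, mul_smul, tS_smul_inf, eS_smul_inf, tS_smul_inf]
  · rw [mul_smul, mul_smul, tS_smul_P H, eS_smul_P H, eS_smul_P H, tS_smul_P H]
    congr 1
    · ring
    · rw [mul_pow]; ring

omit H [Fintype F] in
theorem wS_mul_self : wS F * wS F = 1 := by
  apply Subtype.ext
  rw [Matrix.SpecialLinearGroup.coe_mul]
  have hwv : (wS F).val = wm F := rfl
  rw [hwv]
  ext i j
  fin_cases i <;> fin_cases j <;>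
    simp [wm, Matrix.mul_apply, Fin.sum_univ_four]

omit H [Fintype F] in
theorem wS_inv : (wS F)⁻¹ = wS F := inv_eq_of_mul_eq_one_right wS_mul_self

omit H [Fintype F] in
theorem wS_eS (l : Fˣ) : wS F * eS s l * wS F = eS s l⁻¹ := by
  apply Subtype.ext
  rw [Matrix.SpecialLinearGroup.coe_mul, Matrix.SpecialLinearGroup.coe_mul]
  have hwv : (wS F).val = wm F := rfl
  have hev : ∀ k : Fˣ, (eS s k).val = em s k := fun _ => rfl
  rw [hwv, hev, hev]
  ext i j
  fin_cases i <;> fin_cases j <;>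
    simp [wm, em, Matrix.mul_apply, Fin.sum_univ_four]

end grp

end Cfsg.Agent.Lib.helper2.Suzuki
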