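import Mathlib
import Cfsg.Prelude.Def_LieExceptional
import Cfsg.Agent.Lib.helper2.Suzuki2

set_option autoImplicit false

namespace Cfsg.Agent.Lib.helper2.Suzuki

open Cfsg.Agent.Lib.helper2.Ovoid (N)
open Matrix
open scoped Pointwise

section cnt

variable {F : Type*} [Field F] [Fintype F] {s : ℕ} (H : Hyp F s)
include H

omit H in
theorem card_ov : Nat.card (ov F s) = Fintype.card F ^ 2 + 1 := by
  classical
  let φ : Option (F × F) → ov F s := fun o =>
    match o with
    | none => ⟨inf F, inf_mem s⟩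
    | some (x, y) => ⟨P s x y, P_mem s x y⟩
  have hbij : Function.Bijective φ := by
    constructor
    · intro o1 o2 h
      have h' := congrArg Subtype.val h
      rcases o1 with _ | ⟨x, y⟩ <;> rcases o2 with _ | ⟨x', y'⟩
      · rfl
      · exact absurd h'.symm (P_ne_inf s x' y')
      · exact absurd h' (P_ne_inf s x y)
      · obtain ⟨rfl, rfl⟩ := P_inj s h'
        rfl
    · rintro ⟨p, hp⟩
      rcases (mem_ov s).1 hp with rfl | ⟨x, y, rfl⟩
      · exact ⟨none, rfl⟩
      · exact ⟨some (x, y), rfl⟩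
  rw [← Nat.card_eq_of_bijective φ hbij, Nat.card_eq_fintype_card, Fintype.card_option,
    Fintype.card_prod, sq]

theorem eS_smul_P00 (l : Fˣ) : eS s l • P s (0 : F) 0 = P s 0 0 := by
  rw [eS_smul_P H]
  congr 1 <;> simp

theorem card_stab_inf :
    Nat.card (MulAction.stabilizer (Gs F s) (inf F))
      = Fintype.card F ^ 2 * (Fintype.card F - 1) := by
  let φ : F × F × Fˣ → MulAction.stabilizer (Gs F s) (inf F) := fun x =>
    ⟨⟨tS s x.1 x.2.1 * eS s x.2.2, mul_mem (tS_mem H _ _) (eS_mem H _)⟩, by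
      rw [MulAction.mem_stabilizer_iff]
      show (tS s x.1 x.2.1 * eS s x.2.2) • inf F = inf F
      rw [mul_smul, eS_smul_inf, tS_smul_inf]⟩
  have hbij : Function.Bijective φ := by
    constructor
    · rintro ⟨a, b, l⟩ ⟨a', b', l'⟩ h
      have h1 : tS s a b * eS s l = tS s a' b' * eS s l' := congrArg (fun g => g.1.1) h
      have h2 := congrArg (fun g => g • P s (0 : F) 0) h1
      simp only [mul_smul] at h2
      rw [eS_smul_P00 H, eS_smul_P00 H, tS_smul_P00 H, tS_smul_P00 H] at h2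
      obtain ⟨rfl, rfl⟩ := P_inj s h2
      have h3 : eS s l = eS s l' := mul_left_cancel h1
      rw [eS_inj H h3]
    · rintro ⟨⟨g, hg⟩, hfix⟩
      rw [MulAction.mem_stabilizer_iff] at hfix
      obtain ⟨a, b, l, rfl⟩ := stab_inf H hg hfix
      exact ⟨(a, b, l), rfl⟩
  rw [← Nat.card_eq_of_bijective φ hbij, Nat.card_prod, Nat.card_prod, Nat.card_units,
    Nat.card_eq_fintype_card]
  ring

theorem two_point_equiv :
    Nonempty (↥(MulAction.stabilizer (Gs F s) (inf F) ⊓
      MulAction.stabilizer (Gs F s) (P s (0 : F) 0)) ≃* Fˣ) := by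
  let φ : Fˣ →* ↥(MulAction.stabilizer (Gs F s) (inf F) ⊓
      MulAction.stabilizer (Gs F s) (P s (0 : F) 0)) :=
    { toFun := fun l => ⟨⟨eS s l, eS_mem H l⟩, Subgroup.mem_inf.2
        ⟨MulAction.mem_stabilizer_iff.2 (eS_smul_inf s l),
          MulAction.mem_stabilizer_iff.2 (eS_smul_P00 H l)⟩⟩
      map_one' := by
        apply Subtype.ext
        apply Subtype.ext
        exact eS_one
      map_mul' := fun l l' => by
        apply Subtype.ext
        apply Subtype.ext
        exact (eS_mul H l l').symm }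
  have hbij : Function.Bijective φ := by
    constructor
    · intro l l' h
      have h1 : eS s l = eS s l' := congrArg (fun g => g.1.1) h
      exact eS_inj H h1
    · rintro ⟨⟨g, hg⟩, hfix⟩
      obtain ⟨hfix1, hfix0⟩ := Subgroup.mem_inf.1 hfix
      have hfix1' : g • inf F = inf F := MulAction.mem_stabilizer_iff.1 hfix1
      have hfix0' : g • P s (0 : F) 0 = P s 0 0 := MulAction.mem_stabilizer_iff.1 hfix0
      obtain ⟨l, rfl⟩ := fix_two H hg hfix1' hfix0'
      exact ⟨l, rfl⟩
  exact ⟨(MulEquiv.ofBijective φ hbij).symm⟩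

theorem orbit_inf : MulAction.orbit (Gs F s) (inf F) = ov F s := by
  ext p
  constructor
  · rintro ⟨g, rfl⟩
    exact mem_Gs_iff.1 g.2 _ (inf_mem s)
  · intro hp
    obtain ⟨g, hg, rfl⟩ := exists_smul_inf H hp
    exact ⟨⟨g, hg⟩, rfl⟩

theorem card_Gs :
    Nat.card (Gs F s)
      = Fintype.card F ^ 2 * (Fintype.card F ^ 2 + 1) * (Fintype.card F - 1) := by
  have h1 := Subgroup.card_mul_index (MulAction.stabilizer (Gs F s) (inf F))
  rw [MulAction.index_stabilizer, orbit_inf H, ← Nat.card_coe_set_eq, card_ov,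
    card_stab_inf H] at h1
  rw [← h1]
  ring

theorem form_tm (a b : F) :
    (tm s a b)ᵀ * Cfsg.suzukiForm F * tm s a b = Cfsg.suzukiForm F := by
  ext i j
  fin_cases i <;> fin_cases j <;>
    simp [tm, Cfsg.suzukiForm, Matrix.mul_apply, Fin.sum_univ_four]
  all_goals first
    | exact add_self H _
    | linear_combination (b + a ^ (s + 1)) * H.h2
    | linear_combination (N s a b + a * b) * H.h2

omit H [Fintype F] in
theorem form_em (l : Fˣ) :
    (em s l)ᵀ * Cfsg.suzukiForm F * em s l = Cfsg.suzukiForm F := by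
  ext i j
  fin_cases i <;> fin_cases j <;>
    simp [em, Cfsg.suzukiForm, Matrix.mul_apply, Fin.sum_univ_four]

omit H [Fintype F] in
theorem form_wm :
    (wm F)ᵀ * Cfsg.suzukiForm F * wm F = Cfsg.suzukiForm F := by
  ext i j
  fin_cases i <;> fin_cases j <;>
    simp [wm, Cfsg.suzukiForm, Matrix.mul_apply, Fin.sum_univ_four]

omit H [Fintype F] in
theorem pres_mul {A B : Matrix (Fin 4) (Fin 4) F}
    (hA : Aᵀ * Cfsg.suzukiForm F * A = Cfsg.suzukiForm F)
    (hB : Bᵀ * Cfsg.suzukiForm F * B = Cfsg.suzukiForm F) :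
    (A * B)ᵀ * Cfsg.suzukiForm F * (A * B) = Cfsg.suzukiForm F := by
  rw [Matrix.transpose_mul]
  calc Bᵀ * Aᵀ * Cfsg.suzukiForm F * (A * B)
      = Bᵀ * (Aᵀ * Cfsg.suzukiForm F * A) * B := by simp only [Matrix.mul_assoc]
    _ = Cfsg.suzukiForm F := by rw [hA, hB]

theorem form_pres {g : Matrix.SpecialLinearGroup (Fin 4) F} (hg : g ∈ Gs F s) :
    g.valᵀ * Cfsg.suzukiForm F * g.val = Cfsg.suzukiForm F := by
  have ht : ∀ a b : F, (tS s a b).valᵀ * Cfsg.suzukiForm F * (tS s a b).val
      = Cfsg.suzukiForm F := fun a b => form_tm H a b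
  have he : ∀ l : Fˣ, (eS s l).valᵀ * Cfsg.suzukiForm F * (eS s l).val
      = Cfsg.suzukiForm F := fun l => form_em l
  have hw : (wS F).valᵀ * Cfsg.suzukiForm F * (wS F).val = Cfsg.suzukiForm F := form_wm
  rcases decomp H hg with ⟨a, b, l, rfl⟩ | ⟨a, b, a', b', l, rfl⟩
  · rw [Matrix.SpecialLinearGroup.coe_mul]
    exact pres_mul (ht a b) (he l)
  · simp only [Matrix.SpecialLinearGroup.coe_mul]
    exact pres_mul (pres_mul (ht a b) hw) (pres_mul (ht a' b') (he l))

end cnt

section concrete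

variable {F : Type*} [Field F] {m : ℕ}

theorem ovoid_eq : Cfsg.suzukiOvoid F m = ov F (2 ^ (m + 1)) := rfl

theorem Sz_eq : Cfsg.Sz F m = Gs F (2 ^ (m + 1)) := rfl

theorem inf_eq : Cfsg.suzukiPointInfinity F = inf F := rfl

theorem zero_eq : Cfsg.suzukiPointZero F = P (2 ^ (m + 1)) (0 : F) 0 := by
  unfold Cfsg.suzukiPointZero P
  congr 1
  simp [aff, N]

end concrete

end Cfsg.Agent.Lib.helper2.Suzuki
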