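import Mathlib
import Cfsg.Prelude.Def_LieExceptional
import Cfsg.Agent.Lib.helper2.Suzuki3

set_option autoImplicit false

namespace Cfsg.Agent.Lib.helper2.Suzuki

open Cfsg.Agent.Lib.helper2.Ovoid (N)
open Matrix
open scoped Pointwise

/-- A normal subgroup on which two commuting-type involutions and their product act without
nontrivial fixed points is trivial. -/
theorem no_regular_aux {K : Type*} [Group K] (Nn : Subgroup K) [Nn.Normal] [Finite Nn]
    (t1 t2 : K) (h1 : t1 * t1 = 1) (h2 : t2 * t2 = 1)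
    (f1 : ∀ n ∈ Nn, t1 * n * t1⁻¹ = n → n = 1) (f2 : ∀ n ∈ Nn, t2 * n * t2⁻¹ = n → n = 1)
    (f12 : ∀ n ∈ Nn, (t1 * t2) * n * (t1 * t2)⁻¹ = n → n = 1) : Nn = ⊥ := by
  have key : ∀ t : K, t * t = 1 → (∀ n ∈ Nn, t * n * t⁻¹ = n → n = 1) →
      ∀ n ∈ Nn, t * n * t⁻¹ = n⁻¹ := by
    intro t ht hf n hn
    let φ : Nn →* Nn := (MulAut.conjNormal t : MulAut Nn).toMonoidHom
    have hφ : ∀ x : Nn, ((φ x : Nn) : K) = t * x * t⁻¹ := fun x => rfl
    have hfpf : MonoidHom.FixedPointFree φ := by
      intro x hx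
      have h3 := congrArg Subtype.val hx
      rw [hφ] at h3
      exact Subtype.ext (hf x x.2 h3)
    have hinv : Function.Involutive φ := by
      intro x
      apply Subtype.ext
      rw [hφ, hφ]
      have e : t⁻¹ = t := inv_eq_of_mul_eq_one_right ht
      rw [e]
      calc t * (t * (x : K) * t) * t = (t * t) * x * (t * t) := by group
        _ = x := by rw [ht]; simp
    have h3 := hfpf.coe_eq_inv_of_involutive hinv
    have h4 := congrFun h3 ⟨n, hn⟩
    have h5 := congrArg Subtype.val h4
    rw [hφ] at h5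
    exact h5
  rw [Subgroup.eq_bot_iff_forall]
  intro n hn
  apply f12 n hn
  have k1 := key t1 h1 f1
  have k2 := key t2 h2 f2
  calc t1 * t2 * n * (t1 * t2)⁻¹ = t1 * (t2 * n * t2⁻¹) * t1⁻¹ := by group
    _ = t1 * n⁻¹ * t1⁻¹ := by rw [k2 n hn]
    _ = (n⁻¹)⁻¹ := k1 n⁻¹ (inv_mem hn)
    _ = n := inv_inv n

section zass

variable {F : Type*} [Field F] [Fintype F] {s : ℕ} (H : Hyp F s)
include H

theorem zassenhaus : Cfsg.IsZassenhausGroup (Gs F s) (ov F s) := by
  refine ⟨?_, ?_, ?_, ?_, ?_⟩
  · constructor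
    intro g h hgh
    apply Subtype.ext
    apply eq_of_smul_eq H g.2 h.2
    intro p hp
    exact congrArg Subtype.val (hgh ⟨p, hp⟩)
  · rw [MulAction.is_two_pretransitive_iff]
    intro a b c d hab hcd
    obtain ⟨g1, hg1, h1a, h1b⟩ := two_trans H a.2 b.2 (fun h => hab (Subtype.ext h))
    obtain ⟨g2, hg2, h2c, h2d⟩ := two_trans H c.2 d.2 (fun h => hcd (Subtype.ext h))
    refine ⟨⟨g2⁻¹ * g1, mul_mem (inv_mem hg2) hg1⟩, Subtype.ext ?_, Subtype.ext ?_⟩
    · show (g2⁻¹ * g1) • (a : Projectivization F (Fin 4 → F)) = c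
      rw [mul_smul, h1a, ← h2c, inv_smul_smul]
    · show (g2⁻¹ * g1) • (b : Projectivization F (Fin 4 → F)) = d
      rw [mul_smul, h1b, ← h2d, inv_smul_smul]
  · intro g a b c hab hbc hac ha hb hc
    obtain ⟨k, hk, hka, hkb⟩ := two_trans H a.2 b.2 (fun h => hab (Subtype.ext h))
    have ha' : (g : Matrix.SpecialLinearGroup (Fin 4) F) • (a : Projectivization F (Fin 4 → F))
        = a := congrArg Subtype.val ha
    have hb' : (g : Matrix.SpecialLinearGroup (Fin 4) F) • (b : Projectivization F (Fin 4 → F))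
        = b := congrArg Subtype.val hb
    have hc' : (g : Matrix.SpecialLinearGroup (Fin 4) F) • (c : Projectivization F (Fin 4 → F))
        = c := congrArg Subtype.val hc
    have hkc : k • (c : Projectivization F (Fin 4 → F)) ∈ ov F s := mem_Gs_iff.1 hk _ c.2
    rcases (mem_ov s).1 hkc with h | ⟨x, y, h⟩
    · exfalso
      apply hac
      apply Subtype.ext
      exact (MulAction.injective k (h.trans hka.symm)).symm
    · have hxy : ¬ (x = 0 ∧ y = 0) := by
        rintro ⟨rfl, rfl⟩
        apply hbc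
        apply Subtype.ext
        exact (MulAction.injective k (h.trans hkb.symm)).symm
      have h1 : k * g * k⁻¹ ∈ Gs F s := mul_mem (mul_mem hk g.2) (inv_mem hk)
      have e1 : (k * g * k⁻¹) • inf F = inf F := by
        rw [mul_smul, mul_smul, ← hka, inv_smul_smul, ha']
      have e2 : (k * g * k⁻¹) • P s (0 : F) 0 = P s 0 0 := by
        rw [mul_smul, mul_smul, ← hkb, inv_smul_smul, hb']
      have e3 : (k * g * k⁻¹) • P s x y = P s x y := by
        rw [mul_smul, mul_smul, ← h, inv_smul_smul, hc']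
      have h3 := fix_three H h1 e1 e2 hxy e3
      apply Subtype.ext
      have h4 : (g : Matrix.SpecialLinearGroup (Fin 4) F) = k⁻¹ * (k * g * k⁻¹) * k := by group
      rw [h4, h3]
      simp
  · obtain ⟨t, ht0, ht1⟩ := exists_ne01 H
    refine ⟨⟨eS s (Units.mk0 t ht0), eS_mem H _⟩, ?_, ⟨inf F, inf_mem s⟩,
      ⟨P s 0 0, P_mem s 0 0⟩, ?_, Subtype.ext ?_, Subtype.ext ?_⟩
    · intro h
      have h' : eS s (Units.mk0 t ht0) = 1 := congrArg Subtype.val h
      rw [← eS_one (s := s)] at h'
      have h3 := congrArg Units.val (eS_inj H h')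
      apply ht1
      simpa using h3
    · intro h
      exact P_ne_inf s 0 0 (congrArg Subtype.val h).symm
    · exact eS_smul_inf s _
    · exact eS_smul_P00 H _
  · intro Nn hN htrans
    by_contra hcon
    push Not at hcon
    obtain ⟨c, hc0, hc1⟩ := exists_ne01 H
    let tG : F → Gs F s := fun b => ⟨tS s 0 b, tS_mem H 0 b⟩
    have htt : ∀ b b', tG b * tG b' = tG (b + b') := by
      intro b b'
      apply Subtype.ext
      show tS s 0 b * tS s 0 b' = tS s 0 (b + b')
      rw [tS_mul H]
      congr 1 <;> simp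
    have ht0 : tG 0 = 1 := Subtype.ext (tS_zero H)
    have hsq : ∀ b, tG b * tG b = 1 := by
      intro b
      rw [htt, add_self H, ht0]
    have hfix : ∀ b, b ≠ 0 → ∀ n ∈ Nn, tG b * n * (tG b)⁻¹ = n → n = 1 := by
      intro b hb n hn hcomm
      have h1 : tG b * n = n * tG b := by
        nth_rewrite 2 [← hcomm]
        group
      have h2 : tS s 0 b • ((n : Matrix.SpecialLinearGroup (Fin 4) F) • inf F)
          = (n : Matrix.SpecialLinearGroup (Fin 4) F) • inf F := by
        have h3 := congrArg (fun g : Gs F s =>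
          (g : Matrix.SpecialLinearGroup (Fin 4) F) • inf F) h1
        simp only [Subgroup.coe_mul, mul_smul] at h3
        rw [show ((tG b : Gs F s) : Matrix.SpecialLinearGroup (Fin 4) F) = tS s 0 b from rfl,
          tS_smul_inf] at h3
        exact h3
      have h3 : (n : Matrix.SpecialLinearGroup (Fin 4) F) • inf F ∈ ov F s :=
        mem_Gs_iff.1 n.2 _ (inf_mem s)
      have h4 : (n : Matrix.SpecialLinearGroup (Fin 4) F) • inf F = inf F := by
        rcases (mem_ov s).1 h3 with h | ⟨x, y, h⟩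
        · exact h
        · exfalso
          rw [h, tS_smul_P H] at h2
          obtain ⟨-, e⟩ := P_inj s h2
          apply hb
          have e0 : (0 : F) ^ s = 0 := zero_pow (s_ne_zero H)
          rw [e0] at e
          linear_combination e
      have h5 : (⟨n, hn⟩ : Nn) ∈ MulAction.stabilizer Nn (⟨inf F, inf_mem s⟩ : ov F s) := by
        rw [MulAction.mem_stabilizer_iff]
        apply Subtype.ext
        exact h4
      rw [hcon] at h5
      exact congrArg Subtype.val (Subgroup.mem_bot.1 h5)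
    have hbot : Nn = ⊥ := no_regular_aux Nn (tG 1) (tG c) (hsq 1) (hsq c)
      (hfix 1 one_ne_zero) (hfix c hc0) (by
        rw [htt]
        apply hfix
        intro h
        apply hc1
        linear_combination h - H.h2)
    obtain ⟨n, hn⟩ := MulAction.exists_smul_eq Nn (⟨inf F, inf_mem s⟩ : ov F s)
      ⟨P s 0 0, P_mem s 0 0⟩
    have hn1 : n = 1 := Subtype.ext ((Subgroup.eq_bot_iff_forall Nn).1 hbot n n.2)
    rw [hn1, one_smul] at hn
    exact P_ne_inf s 0 0 (congrArg Subtype.val hn).symm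

end zass

end Cfsg.Agent.Lib.helper2.Suzuki
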