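import Mathlib
import Cfsg.Prelude.Def_LieExceptional
import Cfsg.Agent.Lib.helper2.Suzuki4

set_option autoImplicit false

namespace Cfsg.Agent.Lib.helper2.Suzuki

open Cfsg.Agent.Lib.helper2.Ovoid (N)
open Matrix
open scoped Pointwise
open scoped commutatorElement

section simple

variable {F : Type*} [Field F] [Fintype F] {s : ℕ} (H : Hyp F s)
include H

theorem eS_inv (l : Fˣ) : (eS s l)⁻¹ = eS s l⁻¹ := by
  apply inv_eq_of_mul_eq_one_right
  rw [eS_mul H, mul_inv_cancel, eS_one]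

omit H [Fintype F] in
theorem comm_le : ⁅Gs F s, Gs F s⁆ ≤ Gs F s := by
  rw [Subgroup.commutator_le]
  intro g1 h1 g2 h2
  rw [commutatorElement_def]
  exact mul_mem (mul_mem (mul_mem h1 h2) (inv_mem h1)) (inv_mem h2)

theorem perfect_amb : Gs F s ≤ ⁅Gs F s, Gs F s⁆ := by
  have hconj : ∀ k ∈ Gs F s, ∀ x ∈ ⁅Gs F s, Gs F s⁆, k * x * k⁻¹ ∈ ⁅Gs F s, Gs F s⁆ := by
    intro k hk x hx
    have e : k * x * k⁻¹ = ⁅k, x⁆ * x := by rw [commutatorElement_def]; group
    rw [e]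
    exact mul_mem (Subgroup.commutator_mem_commutator hk (comm_le hx)) hx
  obtain ⟨c, hc0, hc1⟩ := exists_ne01 H
  have hc2 : c ^ 2 ≠ 1 := by
    intro h
    apply hc1
    apply sq_inj H
    rw [h, one_pow]
  have hl2 : c ^ 2 + 1 ≠ 0 := by
    intro h
    apply hc2
    linear_combination h - H.h2
  have hl3 : c ^ (2 * s + 2) + 1 ≠ 0 := by
    intro h
    apply hc2
    apply pow_s1_eq_one H
    rw [← pow_mul]
    have e : 2 * (s + 1) = 2 * s + 2 := by ring
    rw [e]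
    linear_combination h - H.h2
  have hT : ∀ a b : F, tS s a b ∈ ⁅Gs F s, Gs F s⁆ := by
    intro a' b'
    obtain ⟨a, ha⟩ : ∃ a : F, (c ^ 2 + 1) * a = a' := ⟨a' / (c ^ 2 + 1), by field_simp⟩
    obtain ⟨b, hb⟩ : ∃ b : F, (c ^ (2 * s + 2) + 1) * b = b' - (c ^ (2 * s) + 1) * a ^ (s + 1) :=
      ⟨(b' - (c ^ (2 * s) + 1) * a ^ (s + 1)) / (c ^ (2 * s + 2) + 1), by field_simp⟩
    have hcomm : ⁅eS s (Units.mk0 c hc0), tS s a b⁆ = tS s a' b' := by
      rw [commutatorElement_def, eS_tS H, mul_assoc (tS s _ _) (eS s _), mul_inv_cancel, mul_one,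
        tS_inv H, tS_mul H]
      simp only [Units.val_mk0]
      congr 1
      · linear_combination ha
      · linear_combination hb
    rw [← hcomm]
    exact Subgroup.commutator_mem_commutator (eS_mem H _) (tS_mem H a b)
  have hE : ∀ k : Fˣ, eS s k ∈ ⁅Gs F s, Gs F s⁆ := by
    intro k
    obtain ⟨r, hr⟩ := exists_sqrt_unit H k
    have hcomm : ⁅wS F, eS s r⁻¹⁆ = eS s k := by
      rw [commutatorElement_def, wS_inv, wS_eS, inv_inv, eS_inv H, inv_inv, eS_mul H, ← hr, sq]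
    rw [← hcomm]
    exact Subgroup.commutator_mem_commutator (wS_mem H) (eS_mem H _)
  have hB : ∀ g ∈ Gs F s, g • inf F = inf F → g ∈ ⁅Gs F s, Gs F s⁆ := by
    intro g hg h
    obtain ⟨a, b, l', rfl⟩ := stab_inf H hg h
    exact mul_mem (hT a b) (hE l')
  have hW : wS F ∈ ⁅Gs F s, Gs F s⁆ := by
    have hkG : tS s (1 : F) 1 * wS F ∈ Gs F s := mul_mem (tS_mem H 1 1) (wS_mem H)
    have hk1 : (tS s (1 : F) 1 * wS F) • inf F = P s (1 : F) 1 := by
      rw [mul_smul, wS_smul_inf H, tS_smul_P00 H]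
    have hw11 : wS F • P s (1 : F) 1 = P s 1 1 := by
      rw [wS_smul_P H (by simp)]
      have e : N s (1 : F) 1 = 1 := by
        simp only [N, one_pow, mul_one]
        linear_combination H.h2
      rw [e]
      simp
    have h1 : ((tS s (1 : F) 1 * wS F)⁻¹ * wS F * (tS s (1 : F) 1 * wS F)) • inf F = inf F := by
      rw [mul_smul, mul_smul, hk1, hw11, ← hk1, inv_smul_smul]
    have h2 := hB _ (mul_mem (mul_mem (inv_mem hkG) (wS_mem H)) hkG) h1
    have h3 := hconj _ hkG _ h2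
    have e : tS s (1 : F) 1 * wS F * ((tS s (1 : F) 1 * wS F)⁻¹ * wS F * (tS s (1 : F) 1 * wS F))
        * (tS s (1 : F) 1 * wS F)⁻¹ = wS F := by group
    rw [e] at h3
    exact h3
  intro g hg
  rcases decomp H hg with ⟨a, b, l', rfl⟩ | ⟨a, b, a', b', l', rfl⟩
  · exact mul_mem (hT a b) (hE l')
  · exact mul_mem (mul_mem (hT a b) hW) (mul_mem (hT a' b') (hE l'))

theorem perfect : commutator (Gs F s) = ⊤ := by
  have h := Subgroup.map_subtype_commutator (Gs F s)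
  apply Subgroup.map_injective (Subgroup.subtype_injective (Gs F s))
  rw [h, ← MonoidHom.range_eq_map, Subgroup.range_subtype]
  exact le_antisymm comm_le (perfect_amb H)

end simple

section solv

variable {F : Type*} [Field F] [Fintype F] {s : ℕ}

/-- Stabilizer of infinity (inside the ambient special linear group). -/
def Bs (F : Type*) [Field F] (s : ℕ) : Subgroup (Matrix.SpecialLinearGroup (Fin 4) F) :=
  Gs F s ⊓ MulAction.stabilizer (Matrix.SpecialLinearGroup (Fin 4) F) (inf F)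

omit [Fintype F] in
theorem mem_Bs {g : Matrix.SpecialLinearGroup (Fin 4) F} :
    g ∈ Bs F s ↔ g ∈ Gs F s ∧ g • inf F = inf F := by
  rw [Bs, Subgroup.mem_inf]
  exact and_congr Iff.rfl MulAction.mem_stabilizer_iff

/-- The group of translations. -/
def Us (H : Hyp F s) : Subgroup (Matrix.SpecialLinearGroup (Fin 4) F) where
  carrier := {g | ∃ a b, g = tS s a b}
  mul_mem' := by
    rintro _ _ ⟨a, b, rfl⟩ ⟨a', b', rfl⟩
    exact ⟨_, _, tS_mul H a b a' b'⟩
  one_mem' := ⟨0, 0, (tS_zero H).symm⟩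
  inv_mem' := by
    rintro _ ⟨a, b, rfl⟩
    exact ⟨_, _, tS_inv H a b⟩

/-- The centre of the group of translations. -/
def Zs (H : Hyp F s) : Subgroup (Matrix.SpecialLinearGroup (Fin 4) F) where
  carrier := {g | ∃ b, g = tS s 0 b}
  mul_mem' := by
    rintro _ _ ⟨b, rfl⟩ ⟨b', rfl⟩
    exact ⟨b + b' + 0 ^ s * 0, by rw [tS_mul H, add_zero]⟩
  one_mem' := ⟨0, (tS_zero H).symm⟩
  inv_mem' := by
    rintro _ ⟨b, rfl⟩
    exact ⟨_, tS_inv H 0 b⟩

theorem mem_Us (H : Hyp F s) {g : Matrix.SpecialLinearGroup (Fin 4) F} :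
    g ∈ Us H ↔ ∃ a b, g = tS s a b := Iff.rfl

theorem mem_Zs (H : Hyp F s) {g : Matrix.SpecialLinearGroup (Fin 4) F} :
    g ∈ Zs H ↔ ∃ b, g = tS s 0 b := Iff.rfl

theorem Zs_le_Us (H : Hyp F s) : Zs H ≤ Us H := by
  rintro _ ⟨b, rfl⟩
  exact ⟨0, b, rfl⟩

theorem Us_le_Bs (H : Hyp F s) : Us H ≤ Bs F s := by
  rintro _ ⟨a, b, rfl⟩
  exact mem_Bs.2 ⟨tS_mem H a b, tS_smul_inf s a b⟩

theorem Us_le_Gs (H : Hyp F s) : Us H ≤ Gs F s := by
  rintro _ ⟨a, b, rfl⟩
  exact tS_mem H a b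

omit [Fintype F] in
theorem tS_23 (a b : F) : (tS s a b).val 2 3 = a := by
  simp [tS, tm]

/-- The `(3,3)` entry as a homomorphism on the stabilizer of infinity. -/
def phi1 : ↥(Bs F s) →* F where
  toFun g := g.1.val 3 3
  map_one' := by simp
  map_mul' g h := by
    obtain ⟨hgG, hgf⟩ := mem_Bs.1 g.2
    obtain ⟨-, -, c30⟩ := fix_inf_col hgf
    obtain ⟨r31, r32⟩ := fix_inf_row hgG hgf
    show (g.1 * h.1).val 3 3 = g.1.val 3 3 * h.1.val 3 3
    rw [Matrix.SpecialLinearGroup.coe_mul, Matrix.mul_apply, Fin.sum_univ_four, c30, r31, r32]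
    ring

/-- The `(2,3)` entry as a homomorphism on the translation group. -/
def phi2 (H : Hyp F s) : ↥(Us H) →* Multiplicative F where
  toFun g := Multiplicative.ofAdd (g.1.val 2 3)
  map_one' := by simp
  map_mul' g h := by
    obtain ⟨a, b, hg⟩ := g.2
    obtain ⟨a', b', hh⟩ := h.2
    show Multiplicative.ofAdd ((g.1 * h.1).val 2 3)
      = Multiplicative.ofAdd (g.1.val 2 3) * Multiplicative.ofAdd (h.1.val 2 3)
    rw [hg, hh, tS_mul H, ← ofAdd_add, tS_23, tS_23, tS_23]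

theorem solvable_Z (H : Hyp F s) : Group.IsSolvable ↥(Zs H) := by
  apply Group.isSolvable_of_comm
  rintro ⟨_, b, rfl⟩ ⟨_, b', rfl⟩
  apply Subtype.ext
  show tS s 0 b * tS s 0 b' = tS s 0 b' * tS s 0 b
  rw [tS_mul H, tS_mul H]
  congr 1
  ring

theorem solvable_U (H : Hyp F s) : Group.IsSolvable ↥(Us H) := by
  have := solvable_Z H
  apply Group.isSolvable_of_ker_le_range (Subgroup.inclusion (Zs_le_Us H)) (phi2 H)
  intro g hg
  rw [MonoidHom.mem_ker] at hg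
  obtain ⟨a, b, hab⟩ := g.2
  have h1 : Multiplicative.ofAdd (g.1.val 2 3) = 1 := hg
  rw [hab, tS_23] at h1
  have h2 : a = 0 := by simpa using h1
  rw [h2] at hab
  exact MonoidHom.mem_range.2 ⟨⟨g.1, ⟨b, hab⟩⟩, Subtype.ext rfl⟩

theorem solvable_B (H : Hyp F s) : Group.IsSolvable ↥(Bs F s) := by
  have := solvable_U H
  apply Group.isSolvable_of_ker_le_range (Subgroup.inclusion (Us_le_Bs H))
    (MonoidHom.toHomUnits (phi1 (F := F) (s := s)))
  intro g hg
  rw [MonoidHom.mem_ker] at hg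
  have h1 : g.1.val 3 3 = 1 := congrArg Units.val hg
  obtain ⟨hgG, hgf⟩ := mem_Bs.1 g.2
  obtain ⟨a, b, l, hl⟩ := stab_inf H hgG hgf
  have h2 : (tS s a b * eS s l).val 3 3 = ((l : F) ^ (s + 2))⁻¹ := by
    rw [Matrix.SpecialLinearGroup.coe_mul]
    have htv : (tS s a b).val = tm s a b := rfl
    have hev : (eS s l).val = em s l := rfl
    rw [htv, hev]
    simp [tm, em, Matrix.mul_apply, Fin.sum_univ_four]
  rw [hl, h2] at h1
  have h3 : (l : F) ^ (s + 2) = 1 := inv_eq_one.1 h1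
  have h4 : l = 1 := Units.ext (pow_s2_eq_one H h3)
  rw [h4, eS_one, mul_one] at hl
  exact MonoidHom.mem_range.2 ⟨⟨g.1, ⟨a, b, hl⟩⟩, Subtype.ext rfl⟩

theorem simple (H : Hyp F s) : IsSimpleGroup (Gs F s) := by
  have : Nontrivial (Gs F s) := ⟨⟨⟨tS s 0 1, tS_mem H 0 1⟩, 1, fun h => by
    have h1 : tS s (0 : F) 1 = 1 := congrArg Subtype.val h
    rw [← tS_zero H] at h1
    exact one_ne_zero (tS_inj H h1).2⟩⟩
  refine ⟨fun M hM => ?_⟩
  by_cases hbot : M = ⊥
  · left; exact hbot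
  right
  have htr : ∀ g : Gs F s, ∃ m ∈ M, (m : Matrix.SpecialLinearGroup (Fin 4) F) • inf F
      = (g : Matrix.SpecialLinearGroup (Fin 4) F) • inf F := by
    intro g
    by_cases hg : (g : Matrix.SpecialLinearGroup (Fin 4) F) • inf F = inf F
    · exact ⟨1, one_mem _, by rw [hg]; simp⟩
    · obtain ⟨⟨m0, hm0⟩, hm01⟩ := Subgroup.ne_bot_iff_exists_ne_one.1 hbot
      have hm01' : m0 ≠ 1 := fun h => hm01 (Subtype.ext h)
      have hex : ∃ p ∈ ov F s, (m0 : Matrix.SpecialLinearGroup (Fin 4) F) • p ≠ p := by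
        by_contra hcon
        push Not at hcon
        exact hm01' (Subtype.ext (faithful H m0.2 hcon))
      obtain ⟨p, hp, hmp⟩ := hex
      obtain ⟨k1, hk1, e1, e2⟩ := two_trans H hp (mem_Gs_iff.1 m0.2 _ hp) (Ne.symm hmp)
      obtain ⟨k2, hk2, e3, e4⟩ := two_trans H (inf_mem s) (mem_Gs_iff.1 g.2 _ (inf_mem s))
        (Ne.symm hg)
      let k : Gs F s := ⟨k2⁻¹ * k1, mul_mem (inv_mem hk2) hk1⟩
      refine ⟨k * m0 * k⁻¹, hM.conj_mem m0 hm0 k, ?_⟩
      have hcoe : ((k * m0 * k⁻¹ : Gs F s) : Matrix.SpecialLinearGroup (Fin 4) F)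
          = k2⁻¹ * k1 * (m0 : Matrix.SpecialLinearGroup (Fin 4) F) * (k2⁻¹ * k1)⁻¹ := rfl
      have a1 : (k2⁻¹ * k1)⁻¹ • inf F = p := by
        rw [inv_smul_eq_iff, mul_smul, e1, eq_inv_smul_iff, e3]
      rw [hcoe, mul_smul, a1, mul_smul, mul_smul, e2, inv_smul_eq_iff, e4]
  let f : ↥(Bs F s) →* (Gs F s) ⧸ M :=
    (QuotientGroup.mk' M).comp (Subgroup.inclusion (inf_le_left : Bs F s ≤ Gs F s))
  have hf : Function.Surjective f := by
    intro x
    obtain ⟨g, rfl⟩ := QuotientGroup.mk_surjective x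
    obtain ⟨m, hm, hmg⟩ := htr g
    have hmem : ((m⁻¹ * g : Gs F s) : Matrix.SpecialLinearGroup (Fin 4) F) ∈ Bs F s := by
      refine mem_Bs.2 ⟨(m⁻¹ * g).2, ?_⟩
      show ((m : Matrix.SpecialLinearGroup (Fin 4) F)⁻¹ * g) • inf F = inf F
      rw [mul_smul, ← hmg, inv_smul_smul]
    refine ⟨⟨_, hmem⟩, ?_⟩
    show (QuotientGroup.mk (m⁻¹ * g) : (Gs F s) ⧸ M) = QuotientGroup.mk g
    rw [QuotientGroup.eq]
    have e : (m⁻¹ * g)⁻¹ * g = g⁻¹ * m * g⁻¹⁻¹ := by group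
    rw [e]
    exact hM.conj_mem m hm g⁻¹
  have := solvable_B H
  have : Group.IsSolvable ((Gs F s) ⧸ M) := Group.isSolvable_of_surjective hf
  have hperf : commutator ((Gs F s) ⧸ M) = ⊤ := by
    have h1 := Subgroup.map_commutator (⊤ : Subgroup (Gs F s)) ⊤ (QuotientGroup.mk' M)
    rw [Subgroup.map_top_of_surjective _ (QuotientGroup.mk'_surjective M), ← commutator_def,
      ← commutator_def, perfect H,
      Subgroup.map_top_of_surjective _ (QuotientGroup.mk'_surjective M)] at h1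
    exact h1.symm
  by_contra hne
  have : Nontrivial ((Gs F s) ⧸ M) := by
    by_contra hnt
    rw [not_nontrivial_iff_subsingleton] at hnt
    exact hne (QuotientGroup.subgroup_eq_top_of_subsingleton M hnt)
  have h3 := Group.IsSolvable.commutator_lt_top_of_nontrivial ((Gs F s) ⧸ M)
  rw [hperf] at h3
  exact lt_irrefl _ h3

end solv

end Cfsg.Agent.Lib.helper2.Suzuki
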