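import Mathlib
import Cfsg.Prelude.Def_LieExceptional
import Cfsg.Agent.Lib.helper2.Suzuki5

set_option autoImplicit false

namespace Cfsg.Agent.Lib.helper2.Suzuki

open Cfsg.Agent.Lib.helper2.Ovoid (N)
open Matrix
open scoped Pointwise
open scoped commutatorElement

/-- Transfer of the four Sylow properties along a group isomorphism. -/
theorem props_of_equiv {A B : Type*} [Group A] [Group B] (e : A ≃* B) {n k : ℕ}
    (h : Nat.card B = n ∧ Monoid.exponent B = 4 ∧ Subgroup.center B = commutator B ∧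
      Nat.card (Subgroup.center B) = k) :
    Nat.card A = n ∧ Monoid.exponent A = 4 ∧ Subgroup.center A = commutator A ∧
      Nat.card (Subgroup.center A) = k := by
  obtain ⟨h1, h2, h3, h4⟩ := h
  have hc : (Subgroup.center A).map e.toMonoidHom = Subgroup.center B := by
    ext x
    rw [Subgroup.mem_map_equiv, Subgroup.mem_center_iff, Subgroup.mem_center_iff]
    constructor
    · intro hx g
      have h5 := congrArg e (hx (e.symm g))
      simpa using h5
    · intro hx g
      have h5 := hx (e g)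
      apply e.injective
      simpa using h5
  have hk : (commutator A).map e.toMonoidHom = commutator B := by
    rw [commutator_def, Subgroup.map_commutator, commutator_def]
    have e1 : (⊤ : Subgroup A).map e.toMonoidHom = ⊤ :=
      Subgroup.map_top_of_surjective _ e.surjective
    rw [e1]
  refine ⟨by rw [Nat.card_congr e.toEquiv, h1], ?_, ?_, ?_⟩
  · rw [← h2]
    exact Monoid.exponent_eq_of_mulEquiv e
  · apply Subgroup.map_injective (f := e.toMonoidHom) e.injective
    rw [hc, hk, h3]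
  · rw [← h4, ← hc]
    exact Nat.card_congr (e.subgroupMap (Subgroup.center A)).toEquiv

section syl

variable {F : Type*} [Field F] [Fintype F] {s : ℕ} (H : Hyp F s)
include H

theorem card_U : Nat.card ↥(Us H) = Fintype.card F ^ 2 := by
  let φ : F × F → ↥(Us H) := fun x => ⟨tS s x.1 x.2, ⟨x.1, x.2, rfl⟩⟩
  have hbij : Function.Bijective φ := by
    constructor
    · rintro ⟨a, b⟩ ⟨a', b'⟩ h
      have h1 : tS s a b = tS s a' b' := congrArg Subtype.val h
      obtain ⟨rfl, rfl⟩ := tS_inj H h1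
      rfl
    · rintro ⟨_, a, b, rfl⟩
      exact ⟨(a, b), rfl⟩
  rw [← Nat.card_eq_of_bijective φ hbij, Nat.card_prod, Nat.card_eq_fintype_card, sq]

theorem tS_sq (a b : F) : tS s a b * tS s a b = tS s 0 (a ^ (s + 1)) := by
  rw [tS_mul H]
  congr 1
  · exact add_self H a
  · linear_combination b * H.h2

theorem tS_pow_four (a b : F) : (tS s a b) ^ 4 = 1 := by
  have e : (tS s a b) ^ 4 = (tS s a b * tS s a b) * (tS s a b * tS s a b) := by
    rw [← sq, ← sq, ← pow_mul]
  rw [e, tS_sq H, tS_mul H, ← tS_zero H]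
  congr 1
  · simp
  · rw [add_self H]
    simp

theorem exponent_U : Monoid.exponent ↥(Us H) = 4 := by
  have h4 : ∀ g : ↥(Us H), g ^ 4 = 1 := by
    rintro ⟨_, a, b, rfl⟩
    apply Subtype.ext
    exact tS_pow_four H a b
  have hd : Monoid.exponent ↥(Us H) ∣ 4 := Monoid.exponent_dvd_of_forall_pow_eq_one h4
  have hnd : ¬ Monoid.exponent ↥(Us H) ∣ 2 := by
    intro h
    have h1 := Monoid.exponent_dvd_iff_forall_pow_eq_one.1 h
      (⟨tS s 1 0, ⟨1, 0, rfl⟩⟩ : ↥(Us H))
    have h2 : (tS s (1 : F) 0) ^ 2 = 1 := congrArg Subtype.val h1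
    rw [sq, tS_sq H, ← tS_zero H] at h2
    have h3 := (tS_inj H h2).2
    simp at h3
  have hd' : Monoid.exponent ↥(Us H) ∣ 2 ^ 2 := by
    norm_num
    exact hd
  obtain ⟨k, hk, hke⟩ := (Nat.dvd_prime_pow Nat.prime_two (m := 2)).1 hd'
  interval_cases k
  · rw [hke] at hnd
    exact absurd (by norm_num) hnd
  · rw [hke] at hnd
    exact absurd (by norm_num) hnd
  · rw [hke]
    norm_num

omit H in
/-- The centre inside the translation group. -/
def ZU (H : Hyp F s) : Subgroup ↥(Us H) := (Zs H).subgroupOf (Us H)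

theorem mem_ZU {g : ↥(Us H)} : g ∈ ZU H ↔ ∃ b, g.1 = tS s 0 b := Subgroup.mem_subgroupOf

theorem center_U : Subgroup.center ↥(Us H) = ZU H := by
  obtain ⟨t, ht0, ht1⟩ := exists_ne01 H
  ext g
  obtain ⟨g, a, b, rfl⟩ := g
  rw [Subgroup.mem_center_iff, mem_ZU]
  constructor
  · intro hcen
    have h1 := hcen ⟨tS s (t * a) 0, ⟨_, _, rfl⟩⟩
    have h2 : tS s (t * a) 0 * tS s a b = tS s a b * tS s (t * a) 0 := congrArg Subtype.val h1
    rw [tS_mul H, tS_mul H] at h2
    obtain ⟨-, e⟩ := tS_inj H h2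
    have hts : t ^ s ≠ t := fun h => by
      rcases pow_s_fix H h with h | h
      · exact ht0 h
      · exact ht1 h
    have ha : a = 0 := by
      have h3 : a ^ (s + 1) * (t ^ s - t) = 0 := by
        rw [mul_pow] at e
        linear_combination e
      rcases mul_eq_zero.1 h3 with h | h
      · exact (pow_eq_zero_iff (by omega)).1 h
      · exact absurd (sub_eq_zero.1 h) hts
    exact ⟨b, by rw [ha]⟩
  · rintro ⟨b', hb'⟩
    rintro ⟨_, a', b'', rfl⟩
    apply Subtype.ext
    show tS s a' b'' * tS s a b = tS s a b * tS s a' b''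
    have hb2 : tS s a b = tS s 0 b' := hb'
    rw [hb2, tS_mul H, tS_mul H]
    congr 1
    · ring
    · simp [s_ne_zero H]
      ring

theorem pow_s1_surj (c : F) : ∃ a : F, a ^ (s + 1) = c := by
  apply Finite.surjective_of_injective (f := fun x : F => x ^ (s + 1))
  intro x y h
  have h' : x ^ (s + 1) = y ^ (s + 1) := h
  by_cases hy : y = 0
  · rw [hy, zero_pow (by omega)] at h'
    rw [hy]
    exact (pow_eq_zero_iff (by omega)).1 h'
  · have h1 : (x / y) ^ (s + 1) = 1 := by
      rw [div_pow, h']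
      exact div_self (pow_ne_zero _ hy)
    have h2 := pow_s1_eq_one H h1
    field_simp at h2
    exact h2

theorem comm_tS (a b a' b' : F) :
    tS s a b * tS s a' b' * (tS s a b)⁻¹ * (tS s a' b')⁻¹ = tS s 0 (a ^ s * a' + a' ^ s * a) := by
  rw [tS_inv H, tS_inv H, tS_mul H, tS_mul H, tS_mul H]
  congr 1
  · linear_combination (a + a') * H.h2
  · rw [H.hadd (a + a') a, H.hadd a a']
    linear_combination (b + b' + a ^ (s + 1) + a' ^ (s + 1) + a ^ s * a') * H.h2

theorem commutator_U : commutator ↥(Us H) = ZU H := by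
  apply le_antisymm
  · have h1 : commutator ↥(Us H) ≤ (phi2 H).ker := Abelianization.commutator_subset_ker (phi2 H)
    refine h1.trans ?_
    intro g hg
    rw [MonoidHom.mem_ker] at hg
    obtain ⟨a, b, hab⟩ := g.2
    have h2 : Multiplicative.ofAdd (g.1.val 2 3) = 1 := hg
    rw [hab, tS_23] at h2
    have h3 : a = 0 := by simpa using h2
    rw [h3] at hab
    exact (mem_ZU H).2 ⟨b, hab⟩
  · intro g hg
    obtain ⟨b, hb⟩ := (mem_ZU H).1 hg
    obtain ⟨t, ht0, ht1⟩ := exists_ne01 H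
    have hts : t + t ^ s ≠ 0 := by
      intro h
      have h1 : t ^ s = t := by linear_combination h - t * H.h2
      rcases pow_s_fix H h1 with h | h
      · exact ht0 h
      · exact ht1 h
    obtain ⟨a, ha⟩ := pow_s1_surj H (b / (t + t ^ s))
    have ha' : a ^ (s + 1) * (t + t ^ s) = b := by
      rw [ha]
      field_simp
    have hcomm : ⁅(⟨tS s a 0, ⟨a, 0, rfl⟩⟩ : ↥(Us H)), ⟨tS s (t * a) 0, ⟨t * a, 0, rfl⟩⟩⁆ = g := by
      apply Subtype.ext
      show tS s a 0 * tS s (t * a) 0 * (tS s a 0)⁻¹ * (tS s (t * a) 0)⁻¹ = g.1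
      rw [hb, comm_tS H]
      congr 1
      rw [mul_pow]
      linear_combination ha'
    rw [← hcomm, commutator_def]
    exact Subgroup.commutator_mem_commutator (Subgroup.mem_top _) (Subgroup.mem_top _)

theorem card_ZU : Nat.card (ZU H) = Fintype.card F := by
  let φ : F → ZU H := fun b => ⟨⟨tS s 0 b, ⟨0, b, rfl⟩⟩, (mem_ZU H).2 ⟨b, rfl⟩⟩
  have hbij : Function.Bijective φ := by
    constructor
    · intro b b' h
      have h1 : tS s 0 b = tS s 0 b' := congrArg (fun g => g.1.1) h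
      exact (tS_inj H h1).2
    · rintro ⟨⟨g, hgU⟩, hg⟩
      obtain ⟨b, hb⟩ := (mem_ZU H).1 hg
      exact ⟨b, Subtype.ext (Subtype.ext hb.symm)⟩
  rw [← Nat.card_eq_of_bijective φ hbij, Nat.card_eq_fintype_card]

theorem U_props : Nat.card ↥(Us H) = Fintype.card F ^ 2 ∧ Monoid.exponent ↥(Us H) = 4 ∧
    Subgroup.center ↥(Us H) = commutator ↥(Us H) ∧
    Nat.card (Subgroup.center ↥(Us H)) = Fintype.card F := by
  refine ⟨card_U H, exponent_U H, ?_, ?_⟩
  · rw [center_U H, commutator_U H]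
  · rw [center_U H, card_ZU H]

end syl

section sylc

variable {F : Type*} [Field F] [Fintype F] {m : ℕ}

theorem sylow_props (hm : 1 ≤ m) (hF : Fintype.card F = 2 ^ (2 * m + 1))
    (P : Sylow 2 (Gs F (2 ^ (m + 1)))) :
    Nat.card P = (2 ^ (2 * m + 1)) ^ 2 ∧ Monoid.exponent P = 4 ∧
      Subgroup.center P = commutator P ∧ Nat.card (Subgroup.center P) = 2 ^ (2 * m + 1) := by
  have H := hyp_of_card hm hF
  have eUK : ↥((Us H).subgroupOf (Gs F (2 ^ (m + 1)))) ≃* ↥(Us H) :=
    Subgroup.subgroupOfEquivOfLe (Us_le_Gs H)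
  have hcardUK : Nat.card ↥((Us H).subgroupOf (Gs F (2 ^ (m + 1)))) = (2 ^ (2 * m + 1)) ^ 2 := by
    rw [Nat.card_congr eUK.toEquiv, card_U H, hF]
  have hp : IsPGroup 2 ↥((Us H).subgroupOf (Gs F (2 ^ (m + 1)))) :=
    IsPGroup.of_card (n := (2 * m + 1) * 2) (by rw [hcardUK, ← pow_mul])
  have hidx : ¬ 2 ∣ ((Us H).subgroupOf (Gs F (2 ^ (m + 1)))).index := by
    have h1 := Subgroup.card_mul_index ((Us H).subgroupOf (Gs F (2 ^ (m + 1))))
    rw [hcardUK, card_Gs H, hF] at h1
    have hq : 0 < (2 ^ (2 * m + 1)) ^ 2 := by positivity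
    have h2 : ((Us H).subgroupOf (Gs F (2 ^ (m + 1)))).index
        = ((2 ^ (2 * m + 1)) ^ 2 + 1) * (2 ^ (2 * m + 1) - 1) := by
      apply Nat.eq_of_mul_eq_mul_left hq
      rw [h1]
      ring
    rw [h2]
    intro hdvd
    have hev : Even (2 ^ (2 * m + 1)) := by
      rw [pow_succ]
      exact even_two.mul_left _
    have hodd : Odd (((2 ^ (2 * m + 1)) ^ 2 + 1) * (2 ^ (2 * m + 1) - 1)) := by
      apply Odd.mul
      · exact Even.add_one (hev.pow_of_ne_zero (by norm_num))
      · exact Nat.Even.sub_odd (Nat.one_le_two_pow) hev odd_one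
    exact (Nat.not_even_iff_odd.2 hodd) (even_iff_two_dvd.2 hdvd)
  have : Fact (Nat.Prime 2) := ⟨Nat.prime_two⟩
  let Q : Sylow 2 (Gs F (2 ^ (m + 1))) := hp.toSylow hidx
  have e1 : ↥P ≃* ↥Q := Sylow.equiv P Q
  have e2 : ↥Q ≃* ↥(Us H) := eUK
  have hU := U_props H
  rw [hF] at hU
  exact props_of_equiv (e1.trans e2) hU

end sylc

end Cfsg.Agent.Lib.helper2.Suzuki
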