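import Mathlib
import Cfsg.Prelude.Def_LieExceptional
import Cfsg.Agent.Lib.helper2.Suzuki6
import Cfsg.Agent.Lib.helper2.Singer

set_option autoImplicit false

namespace Cfsg.Agent.Lib.helper2.Suzuki

open Cfsg.Agent.Lib.helper2.Ovoid (N)
open Matrix
open scoped Pointwise
open scoped commutatorElement

theorem nt_aux {p q : ℕ} [Fact p.Prime] (hp : p ≠ 2) (hq : 1 ≤ q) (h : p ∣ q ^ 2 + 1) :
    ¬ p ∣ q - 1 ∧ ¬ p ∣ q ^ 2 - 1 ∧ ¬ p ∣ q ^ 3 - 1 := by
  have hpp : p.Prime := Fact.out
  have hx : (q : ZMod p) ^ 2 + 1 = 0 := by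
    have h1 := (ZMod.natCast_eq_zero_iff (q ^ 2 + 1) p).2 h
    push_cast at h1
    exact h1
  have h2 : (2 : ZMod p) ≠ 0 := by
    intro h2
    have h3 : ((2 : ℕ) : ZMod p) = 0 := by exact_mod_cast h2
    have h4 := (ZMod.natCast_eq_zero_iff 2 p).1 h3
    exact hp ((Nat.prime_dvd_prime_iff_eq hpp Nat.prime_two).1 h4)
  refine ⟨fun h1 => ?_, fun h1 => ?_, fun h1 => ?_⟩
  · have h3 := (ZMod.natCast_eq_zero_iff (q - 1) p).2 h1
    rw [Nat.cast_sub hq] at h3
    push_cast at h3
    apply h2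
    linear_combination hx - ((q : ZMod p) + 1) * h3
  · have h3 := (ZMod.natCast_eq_zero_iff (q ^ 2 - 1) p).2 h1
    rw [Nat.cast_sub (Nat.one_le_pow _ _ hq)] at h3
    push_cast at h3
    apply h2
    linear_combination hx - h3
  · have h3 := (ZMod.natCast_eq_zero_iff (q ^ 3 - 1) p).2 h1
    rw [Nat.cast_sub (Nat.one_le_pow _ _ hq)] at h3
    push_cast at h3
    apply h2
    linear_combination (1 - (q : ZMod p) * ((q : ZMod p) - 1)) * hx + ((q : ZMod p) - 1) * h3

section cent

variable {F : Type*} [Field F] [Fintype F] {s : ℕ} (H : Hyp F s)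
include H

theorem unit_sq_eq_one {l : Fˣ} (h : (l : F) ^ 2 = 1) : l = 1 := by
  ext
  apply sq_inj H
  simpa using h

theorem unit_pow_eq_one {l : Fˣ} (h : (l : F) ^ (2 * s + 2) = 1) : l = 1 := by
  apply unit_sq_eq_one H
  apply pow_s1_eq_one H
  rw [← pow_mul]
  have e : 2 * (s + 1) = 2 * s + 2 := by ring
  rw [e, h]

/-- The centralizer of a nontrivial translation consists of translations. -/
theorem cent_tS {a b : F} (hab : ¬ (a = 0 ∧ b = 0)) {c : Matrix.SpecialLinearGroup (Fin 4) F}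
    (hc : c ∈ Gs F s) (hcomm : c * tS s a b = tS s a b * c) : ∃ a' b', c = tS s a' b' := by
  have hfix : tS s a b • (c • inf F) = c • inf F := by
    rw [← mul_smul, ← hcomm, mul_smul, tS_smul_inf]
  have h1 : c • inf F ∈ ov F s := mem_Gs_iff.1 hc _ (inf_mem s)
  have h2 : c • inf F = inf F := by
    rcases (mem_ov s).1 h1 with h | ⟨x, y, h⟩
    · exact h
    · exfalso
      rw [h, tS_smul_P H] at hfix
      obtain ⟨e1, e2⟩ := P_inj s hfix
      have ha : a = 0 := by linear_combination e1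
      apply hab
      refine ⟨ha, ?_⟩
      rw [ha, zero_pow (s_ne_zero H)] at e2
      linear_combination e2
  obtain ⟨a', b', l', rfl⟩ := stab_inf H hc h2
  have h3 : tS s (a' + (l' : F) ^ 2 * a) (b' + (l' : F) ^ (2 * s + 2) * b
      + a' ^ s * ((l' : F) ^ 2 * a)) * eS s l' = tS s (a + a') (b + b' + a ^ s * a') * eS s l' := by
    rw [← tS_mul H, ← tS_mul H, mul_assoc, ← eS_tS H, ← mul_assoc, hcomm, mul_assoc]
  obtain ⟨e1, e2⟩ := tS_inj H (mul_right_cancel h3)
  have hl : l' = 1 := by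
    by_cases ha : a = 0
    · have hb : b ≠ 0 := fun hb => hab ⟨ha, hb⟩
      rw [ha, zero_pow (s_ne_zero H)] at e2
      apply unit_pow_eq_one H
      have h4 : ((l' : F) ^ (2 * s + 2) - 1) * b = 0 := by linear_combination e2
      rcases mul_eq_zero.1 h4 with h | h
      · linear_combination h
      · exact absurd h hb
    · apply unit_sq_eq_one H
      have h4 : ((l' : F) ^ 2 - 1) * a = 0 := by linear_combination e1
      rcases mul_eq_zero.1 h4 with h | h
      · linear_combination h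
      · exact absurd h ha
  exact ⟨a', b', by rw [hl, eS_one, mul_one]⟩

/-- The centralizer of a nontrivial diagonal element consists of diagonal elements. -/
theorem cent_eS {l : Fˣ} (hl : l ≠ 1) {c : Matrix.SpecialLinearGroup (Fin 4) F}
    (hc : c ∈ Gs F s) (hcomm : c * eS s l = eS s l * c) : ∃ l', c = eS s l' := by
  have hl2 : (l : F) ^ 2 ≠ 1 := fun h => hl (unit_sq_eq_one H h)
  have hl3 : (l : F) ^ (2 * s + 2) ≠ 1 := fun h => hl (unit_pow_eq_one H h)
  have hfixed : ∀ p ∈ ov F s, eS s l • p = p → p = inf F ∨ p = P s (0 : F) 0 := by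
    intro p hp hfix
    rcases (mem_ov s).1 hp with h | ⟨x, y, h⟩
    · left; exact h
    · right
      rw [h, eS_smul_P H] at hfix
      obtain ⟨e1, e2⟩ := P_inj s hfix
      have hx : x = 0 := by
        have h4 : ((l : F) ^ 2 - 1) * x = 0 := by linear_combination e1
        rcases mul_eq_zero.1 h4 with h | h
        · exact absurd (by linear_combination h) hl2
        · exact h
      have hy : y = 0 := by
        have h4 : ((l : F) ^ (2 * s + 2) - 1) * y = 0 := by linear_combination e2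
        rcases mul_eq_zero.1 h4 with h | h
        · exact absurd (by linear_combination h) hl3
        · exact h
      rw [h, hx, hy]
  have hmove : ∀ p : Projectivization F (Fin 4 → F), eS s l • p = p →
      eS s l • (c • p) = c • p := by
    intro p hp
    rw [← mul_smul, ← hcomm, mul_smul, hp]
  have h1 := hfixed _ (mem_Gs_iff.1 hc _ (inf_mem s)) (hmove _ (eS_smul_inf s l))
  have h0 := hfixed _ (mem_Gs_iff.1 hc _ (P_mem s 0 0)) (hmove _ (eS_smul_P00 H l))
  have hne : c • inf F ≠ c • P s (0 : F) 0 := fun h =>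
    P_ne_inf s 0 0 (MulAction.injective c h).symm
  rcases h1 with h1 | h1
  · have h0' : c • P s (0 : F) 0 = P s 0 0 := by
      rcases h0 with h0 | h0
      · exact absurd (h1.trans h0.symm) hne
      · exact h0
    exact fix_two H hc h1 h0'
  · exfalso
    have h0' : c • P s (0 : F) 0 = inf F := by
      rcases h0 with h0 | h0
      · exact h0
      · exact absurd (h1.trans h0.symm) hne
    have hw : wS F * c ∈ Gs F s := mul_mem (wS_mem H) hc
    have e1 : (wS F * c) • inf F = inf F := by rw [mul_smul, h1, wS_smul_P00 H]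
    have e0 : (wS F * c) • P s (0 : F) 0 = P s 0 0 := by rw [mul_smul, h0', wS_smul_inf H]
    obtain ⟨l', hl'⟩ := fix_two H hw e1 e0
    have hc' : c = wS F * eS s l' := by
      rw [← hl', ← mul_assoc, wS_mul_self, one_mul]
    rw [hc'] at hcomm
    have h5 : eS s l' * eS s l = eS s l⁻¹ * eS s l' := by
      calc eS s l' * eS s l = wS F * (wS F * eS s l' * eS s l) := by
            rw [← mul_assoc, ← mul_assoc, wS_mul_self, one_mul]
        _ = wS F * (eS s l * (wS F * eS s l')) := by rw [hcomm]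
        _ = (wS F * eS s l * wS F) * eS s l' := by simp only [mul_assoc]
        _ = eS s l⁻¹ * eS s l' := by rw [wS_eS]
    rw [eS_mul H, eS_mul H] at h5
    have h6 := eS_inj H h5
    have h7 : l * l = 1 := by
      have : l' * l = l' * l⁻¹ := by rw [h6, mul_comm]
      have h8 := mul_left_cancel this
      nth_rewrite 2 [h8]
      exact mul_inv_cancel l
    apply hl
    apply unit_sq_eq_one H
    have h9 := congrArg Units.val h7
    rw [sq]
    simpa using h9

/-- The diagonal torus as a homomorphism. -/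
def epsHom : Fˣ →* Gs F s where
  toFun l := ⟨eS s l, eS_mem H l⟩
  map_one' := Subtype.ext eS_one
  map_mul' l l' := Subtype.ext (eS_mul H l l').symm

theorem epsHom_injective : Function.Injective (epsHom H) :=
  fun _ _ h => eS_inj H (congrArg Subtype.val h)

end cent

section conc

variable {F : Type*} [Field F] [Fintype F] {m : ℕ}

theorem not_dvd_q {p : ℕ} [Fact p.Prime] (hp : p ≠ 2) (k : ℕ) : ¬ p ∣ 2 ^ k := by
  have hpp : p.Prime := Fact.out
  intro h
  exact hp ((Nat.prime_dvd_prime_iff_eq hpp Nat.prime_two).1 (hpp.dvd_of_dvd_pow h))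

theorem index_eps (hm : 1 ≤ m) (hF : Fintype.card F = 2 ^ (2 * m + 1)) {p : ℕ} [Fact p.Prime]
    (hp : p ≠ 2) (hc1 : p ∣ 2 ^ (2 * m + 1) - 1) :
    ¬ p ∣ (epsHom (hyp_of_card hm hF)).range.index := by
  have hpp : p.Prime := Fact.out
  have H := hyp_of_card hm hF
  have hcardR : Nat.card (epsHom H).range = 2 ^ (2 * m + 1) - 1 := by
    rw [← Nat.card_congr (MonoidHom.ofInjective (epsHom_injective H)).toEquiv, Nat.card_units,
      Nat.card_eq_fintype_card, hF]
  have h4 := Subgroup.card_mul_index (epsHom H).range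
  rw [hcardR, card_Gs H, hF] at h4
  have hpos : 0 < 2 ^ (2 * m + 1) - 1 := by
    have : 2 ^ 1 ≤ 2 ^ (2 * m + 1) := Nat.pow_le_pow_right (by norm_num) (by omega)
    omega
  have h5 : (epsHom H).range.index = (2 ^ (2 * m + 1)) ^ 2 * ((2 ^ (2 * m + 1)) ^ 2 + 1) := by
    apply Nat.eq_of_mul_eq_mul_left hpos
    rw [h4]
    ring
  rw [h5]
  intro hdvd
  rcases (Nat.Prime.dvd_mul hpp).1 hdvd with h | h
  · exact not_dvd_q hp _ (hpp.dvd_of_dvd_pow h)
  · exact (nt_aux hp Nat.one_le_two_pow h).1 hc1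

theorem index_UK (hm : 1 ≤ m) (hF : Fintype.card F = 2 ^ (2 * m + 1)) :
    ¬ 2 ∣ ((Us (hyp_of_card hm hF)).subgroupOf (Gs F (2 ^ (m + 1)))).index := by
  have H := hyp_of_card hm hF
  have eUK : ↥((Us H).subgroupOf (Gs F (2 ^ (m + 1)))) ≃* ↥(Us H) :=
    Subgroup.subgroupOfEquivOfLe (Us_le_Gs H)
  have hcardUK : Nat.card ↥((Us H).subgroupOf (Gs F (2 ^ (m + 1)))) = (2 ^ (2 * m + 1)) ^ 2 := by
    rw [Nat.card_congr eUK.toEquiv, card_U H, hF]
  have h1 := Subgroup.card_mul_index ((Us H).subgroupOf (Gs F (2 ^ (m + 1))))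
  rw [hcardUK, card_Gs H, hF] at h1
  have hq : 0 < (2 ^ (2 * m + 1)) ^ 2 := by positivity
  have h2 : ((Us H).subgroupOf (Gs F (2 ^ (m + 1)))).index
      = ((2 ^ (2 * m + 1)) ^ 2 + 1) * (2 ^ (2 * m + 1) - 1) := by
    apply Nat.eq_of_mul_eq_mul_left hq
    rw [h1]
    ring
  rw [h2]
  intro hdvd
  have hev : Even (2 ^ (2 * m + 1)) := by
    rw [pow_succ]
    exact even_two.mul_left _
  have hodd : Odd (((2 ^ (2 * m + 1)) ^ 2 + 1) * (2 ^ (2 * m + 1) - 1)) := by
    apply Odd.mul
    · exact Even.add_one (hev.pow_of_ne_zero (by norm_num))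
    · exact Nat.Even.sub_odd (Nat.one_le_two_pow) hev odd_one
  exact (Nat.not_even_iff_odd.2 hodd) (even_iff_two_dvd.2 hdvd)

theorem sylow_odd_cyclic (hm : 1 ≤ m) (hF : Fintype.card F = 2 ^ (2 * m + 1)) {p : ℕ}
    [Fact p.Prime] (hp : p ≠ 2) (P : Sylow p (Gs F (2 ^ (m + 1)))) : IsCyclic P := by
  have H := hyp_of_card hm hF
  have hpp : p.Prime := Fact.out
  have hpq : ¬ p ∣ 2 ^ (2 * m + 1) := not_dvd_q hp _
  by_cases hc1 : p ∣ 2 ^ (2 * m + 1) - 1
  · have : IsCyclic (epsHom H).range :=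
      isCyclic_of_surjective (epsHom H).rangeRestrict (MonoidHom.rangeRestrict_surjective _)
    exact Singer.cyclic_of_index (epsHom H).range (index_eps hm hF hp hc1) P P.isPGroup'
  · by_cases hc2 : p ∣ (2 ^ (2 * m + 1)) ^ 2 + 1
    · obtain ⟨n1, n2, n3⟩ := nt_aux hp Nat.one_le_two_pow hc2
      have hι : Function.Injective ((Matrix.SpecialLinearGroup.toGL :
          Matrix.SpecialLinearGroup (Fin 4) F →* Matrix.GeneralLinearGroup (Fin 4) F).comp
          (Subgroup.subtype (Gs F (2 ^ (m + 1))))) :=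
        Matrix.SpecialLinearGroup.toGL_injective.comp (Subgroup.subtype_injective _)
      have hR : IsPGroup p ((P : Subgroup (Gs F (2 ^ (m + 1)))).map
          ((Matrix.SpecialLinearGroup.toGL :
          Matrix.SpecialLinearGroup (Fin 4) F →* Matrix.GeneralLinearGroup (Fin 4) F).comp
          (Subgroup.subtype (Gs F (2 ^ (m + 1)))))) := P.isPGroup'.map _
      have hcyc := Singer.gl4_cyclic (F := F) (by rw [hF]; exact hpq) (by rw [hF]; exact n1)
        (by rw [hF]; exact n2) (by rw [hF]; exact n3) _ hR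
      exact isCyclic_of_injective
        ((P : Subgroup (Gs F (2 ^ (m + 1)))).equivMapOfInjective _ hι).toMonoidHom
        (MulEquiv.injective _)
    · have hidx : ¬ p ∣ (⊥ : Subgroup (Gs F (2 ^ (m + 1)))).index := by
        rw [Subgroup.index_bot, card_Gs H, hF]
        intro hdvd
        rcases (Nat.Prime.dvd_mul hpp).1 hdvd with h | h
        · rcases (Nat.Prime.dvd_mul hpp).1 h with h | h
          · exact hpq (hpp.dvd_of_dvd_pow h)
          · exact hc2 h
        · exact hc1 h
      exact Singer.cyclic_of_index ⊥ hidx P P.isPGroup'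

end conc

end Cfsg.Agent.Lib.helper2.Suzuki
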