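import Mathlib
import Cfsg.Prelude.Def_LieExceptional
import Cfsg.Agent.Lib.helper2.Suzuki7

set_option autoImplicit false

namespace Cfsg.Agent.Lib.helper2.Suzuki

open Cfsg.Agent.Lib.helper2.Ovoid (N)
open Matrix
open scoped Pointwise
open scoped commutatorElement

section cn

variable {F : Type*} [Field F] [Fintype F] {m : ℕ}

theorem conj_comm {G : Type*} [Group G] {k c x : G} (hc : c * x = x * c) :
    k * c * k⁻¹ * (k * x * k⁻¹) = k * x * k⁻¹ * (k * c * k⁻¹) := by
  calc k * c * k⁻¹ * (k * x * k⁻¹) = k * (c * x) * k⁻¹ := by group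
    _ = k * (x * c) * k⁻¹ := by rw [hc]
    _ = k * x * k⁻¹ * (k * c * k⁻¹) := by group

theorem eq_one_of_conj {G : Type*} [Group G] {k x : G} (h : k * x * k⁻¹ = 1) : x = 1 := by
  have e : x = k⁻¹ * (k * x * k⁻¹) * k := by group
  rw [e, h]
  group

theorem good_cent (hm : 1 ≤ m) (hF : Fintype.card F = 2 ^ (2 * m + 1))
    (x : Gs F (2 ^ (m + 1))) {p : ℕ} [Fact p.Prime] (hx : orderOf x = p) :
    (∀ c ∈ Subgroup.centralizer ({x} : Set (Gs F (2 ^ (m + 1)))), c ^ 4 = 1) ∨
    (∀ c ∈ Subgroup.centralizer ({x} : Set (Gs F (2 ^ (m + 1)))),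
      ∀ c' ∈ Subgroup.centralizer ({x} : Set (Gs F (2 ^ (m + 1)))), c * c' = c' * c) := by
  have H := hyp_of_card hm hF
  have hpp : p.Prime := Fact.out
  have hx1 : x ≠ 1 := by
    rintro rfl
    rw [orderOf_one] at hx
    exact hpp.ne_one hx.symm
  have hR : IsPGroup p (Subgroup.zpowers x) :=
    IsPGroup.of_card (n := 1) (by rw [Nat.card_zpowers, hx, pow_one])
  by_cases hp2 : p = 2
  · subst hp2
    left
    obtain ⟨k, hk⟩ := Singer.conj_into _ (index_UK hm hF) _ hR
    have h1 := hk x (Subgroup.mem_zpowers x)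
    obtain ⟨a, b, hab⟩ := (mem_Us H).1 (Subgroup.mem_subgroupOf.1 h1)
    have hab0 : ¬ (a = 0 ∧ b = 0) := by
      rintro ⟨rfl, rfl⟩
      rw [tS_zero H] at hab
      exact hx1 (eq_one_of_conj (Subtype.ext hab))
    intro c hc
    rw [Subgroup.mem_centralizer_singleton_iff] at hc
    have hcomm : ((k * c * k⁻¹ : Gs F (2 ^ (m + 1))) : Matrix.SpecialLinearGroup (Fin 4) F)
        * tS (2 ^ (m + 1)) a b
        = tS (2 ^ (m + 1)) a b
          * ((k * c * k⁻¹ : Gs F (2 ^ (m + 1))) : Matrix.SpecialLinearGroup (Fin 4) F) := by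
      rw [← hab, ← Subgroup.coe_mul, ← Subgroup.coe_mul, conj_comm hc]
    obtain ⟨a', b', hc'⟩ := cent_tS H hab0 (k * c * k⁻¹).2 hcomm
    have h4 : (k * c * k⁻¹) ^ 4 = 1 := by
      apply Subtype.ext
      rw [Subgroup.coe_pow, hc', tS_pow_four H]
      rfl
    rw [conj_pow] at h4
    exact eq_one_of_conj h4
  · right
    by_cases hc1 : p ∣ 2 ^ (2 * m + 1) - 1
    · obtain ⟨k, hk⟩ := Singer.conj_into _ (index_eps hm hF hp2 hc1) _ hR
      obtain ⟨l, hl⟩ := hk x (Subgroup.mem_zpowers x)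
      have hl1 : l ≠ 1 := by
        rintro rfl
        rw [map_one] at hl
        exact hx1 (eq_one_of_conj hl.symm)
      have key : ∀ c ∈ Subgroup.centralizer ({x} : Set (Gs F (2 ^ (m + 1)))), ∃ l',
          ((k * c * k⁻¹ : Gs F (2 ^ (m + 1))) : Matrix.SpecialLinearGroup (Fin 4) F)
            = eS (2 ^ (m + 1)) l' := by
        intro c hc
        rw [Subgroup.mem_centralizer_singleton_iff] at hc
        apply cent_eS H hl1 (k * c * k⁻¹).2
        have h2 : ((epsHom H l : Gs F (2 ^ (m + 1))) : Matrix.SpecialLinearGroup (Fin 4) F)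
            = eS (2 ^ (m + 1)) l := rfl
        rw [← h2, hl, ← Subgroup.coe_mul, ← Subgroup.coe_mul, conj_comm hc]
      intro c hc c' hc'
      obtain ⟨l1, h1⟩ := key c hc
      obtain ⟨l2, h2⟩ := key c' hc'
      have h3 : (k * c * k⁻¹) * (k * c' * k⁻¹) = (k * c' * k⁻¹) * (k * c * k⁻¹) := by
        apply Subtype.ext
        show ((k * c * k⁻¹ : Gs F (2 ^ (m + 1))) : Matrix.SpecialLinearGroup (Fin 4) F)
            * ((k * c' * k⁻¹ : Gs F (2 ^ (m + 1))) : Matrix.SpecialLinearGroup (Fin 4) F)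
          = ((k * c' * k⁻¹ : Gs F (2 ^ (m + 1))) : Matrix.SpecialLinearGroup (Fin 4) F)
            * ((k * c * k⁻¹ : Gs F (2 ^ (m + 1))) : Matrix.SpecialLinearGroup (Fin 4) F)
        rw [h1, h2, eS_mul H, eS_mul H, mul_comm]
      have h4 : k * (c * c') * k⁻¹ = k * (c' * c) * k⁻¹ := by
        calc k * (c * c') * k⁻¹ = (k * c * k⁻¹) * (k * c' * k⁻¹) := by group
          _ = (k * c' * k⁻¹) * (k * c * k⁻¹) := h3
          _ = k * (c' * c) * k⁻¹ := by group
      exact mul_left_cancel (mul_right_cancel h4)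
    · have hdvd : p ∣ Nat.card (Gs F (2 ^ (m + 1))) := by
        rw [← hx]
        exact orderOf_dvd_natCard x
      rw [card_Gs H, hF] at hdvd
      have hpq : ¬ p ∣ 2 ^ (2 * m + 1) := not_dvd_q hp2 _
      have hc2 : p ∣ (2 ^ (2 * m + 1)) ^ 2 + 1 := by
        rcases (Nat.Prime.dvd_mul hpp).1 hdvd with h | h
        · rcases (Nat.Prime.dvd_mul hpp).1 h with h | h
          · exact absurd (hpp.dvd_of_dvd_pow h) hpq
          · exact h
        · exact absurd h hc1
      obtain ⟨n1, n2, n3⟩ := nt_aux hp2 Nat.one_le_two_pow hc2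
      have hι : Function.Injective ((Matrix.SpecialLinearGroup.toGL :
          Matrix.SpecialLinearGroup (Fin 4) F →* Matrix.GeneralLinearGroup (Fin 4) F).comp
          (Subgroup.subtype (Gs F (2 ^ (m + 1))))) :=
        Matrix.SpecialLinearGroup.toGL_injective.comp (Subgroup.subtype_injective _)
      have hy := orderOf_injective _ hι x
      rw [hx] at hy
      intro c hc c' hc'
      rw [Subgroup.mem_centralizer_singleton_iff] at hc hc'
      apply hι
      rw [map_mul, map_mul]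
      exact Singer.gl4_centralizer_comm (F := F) (by rw [hF]; exact hpq) (by rw [hF]; exact n1)
        (by rw [hF]; exact n2) (by rw [hF]; exact n3) _ hy _ _
        (by rw [← map_mul, ← map_mul, hc]) (by rw [← map_mul, ← map_mul, hc'])

theorem cn_group (hm : 1 ≤ m) (hF : Fintype.card F = 2 ^ (2 * m + 1)) :
    Cfsg.IsCNGroup (Gs F (2 ^ (m + 1))) := by
  intro g hg1
  have hord : orderOf g ≠ 1 := fun h => hg1 (orderOf_eq_one_iff.1 h)
  obtain ⟨p, hpp, hpd⟩ := Nat.exists_prime_and_dvd hord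
  have : Fact p.Prime := ⟨hpp⟩
  have hx : orderOf (g ^ (orderOf g / p)) = p :=
    orderOf_pow_orderOf_div (orderOf_pos g).ne' hpd
  have hle : Subgroup.centralizer ({g} : Set (Gs F (2 ^ (m + 1))))
      ≤ Subgroup.centralizer {g ^ (orderOf g / p)} := by
    intro c hc
    rw [Subgroup.mem_centralizer_singleton_iff] at hc ⊢
    exact Commute.pow_right hc _
  rcases good_cent hm hF _ hx with h4 | hcomm
  · have : Fact (Nat.Prime 2) := ⟨Nat.prime_two⟩
    have hP : IsPGroup 2 (Subgroup.centralizer ({g} : Set (Gs F (2 ^ (m + 1))))) := by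
      intro c
      refine ⟨2, Subtype.ext ?_⟩
      have h5 := h4 c.1 (hle c.2)
      simpa using h5
    exact hP.isNilpotent
  · let _ : CommGroup (Subgroup.centralizer ({g} : Set (Gs F (2 ^ (m + 1))))) :=
      { (inferInstance : Group (Subgroup.centralizer ({g} : Set (Gs F (2 ^ (m + 1)))))) with
        mul_comm := fun a b => Subtype.ext (hcomm a.1 (hle a.2) b.1 (hle b.2)) }
    exact CommGroup.isNilpotent

end cn

end Cfsg.Agent.Lib.helper2.Suzuki
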