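import Mathlib
import Cfsg.Prelude.Def_LieExceptional

set_option autoImplicit false

namespace Cfsg.Agent.Lib.helper2.ZassCount

open Cfsg

variable {G Ω : Type*} [Group G] [Fintype G] [MulAction G Ω] [Fintype Ω] [DecidableEq Ω]

/-- Number of fixed points. -/
def fixN (g : G) : ℕ := (Finset.univ.filter (fun c : Ω => g • c = c)).card

omit [Fintype G] in
theorem fixN_one : fixN (Ω := Ω) (1 : G) = Fintype.card Ω := by
  unfold fixN
  simp

omit [Fintype G] in
theorem fixN_eq_zero_iff (g : G) : fixN (Ω := Ω) g = 0 ↔ ∀ c : Ω, g • c ≠ c := by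
  unfold fixN
  rw [Finset.card_eq_zero, Finset.filter_eq_empty_iff]
  simp

omit [Fintype G] in
theorem fixN_conj (g h : G) : fixN (Ω := Ω) (h * g * h⁻¹) = fixN (Ω := Ω) g := by
  unfold fixN
  apply Finset.card_bij (fun c _ => h⁻¹ • c)
  · intro c hc
    rw [Finset.mem_filter] at hc ⊢
    refine ⟨Finset.mem_univ _, ?_⟩
    have h1 := hc.2
    rw [mul_smul, mul_smul] at h1
    have h3 := congrArg (fun z => h⁻¹ • z) h1
    simpa using h3
  · intro c _ d _ hcd
    exact smul_left_cancel _ hcd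
  · intro d hd
    rw [Finset.mem_filter] at hd
    refine ⟨h • d, ?_, inv_smul_smul h d⟩
    rw [Finset.mem_filter]
    refine ⟨Finset.mem_univ _, ?_⟩
    rw [mul_smul, mul_smul, inv_smul_smul, hd.2]

omit [Fintype Ω] in
theorem card_move (h2 : MulAction.IsMultiplyPretransitive G Ω 2) {a b : Ω} (hab : a ≠ b)
    {c d c' d' : Ω} (hcd : c ≠ d) (hcd' : c' ≠ d') :
    (Finset.univ.filter (fun g : G => g • c = c' ∧ g • d = d')).card
      = Nat.card ↥(MulAction.stabilizer G a ⊓ MulAction.stabilizer G b : Subgroup G) := by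
  obtain ⟨g₁, hg₁a, hg₁b⟩ := MulAction.is_two_pretransitive_iff.mp h2 hab hcd
  obtain ⟨g₂, hg₂a, hg₂b⟩ := MulAction.is_two_pretransitive_iff.mp h2 hab hcd'
  rw [← Fintype.card_subtype, ← Nat.card_eq_fintype_card]
  apply Nat.card_congr
  refine ⟨fun g => ⟨g₂⁻¹ * g.1 * g₁, ?_⟩, fun x => ⟨g₂ * x.1 * g₁⁻¹, ?_⟩, ?_, ?_⟩
  · rw [Subgroup.mem_inf, MulAction.mem_stabilizer_iff, MulAction.mem_stabilizer_iff]
    constructor
    · rw [mul_smul, mul_smul, hg₁a, g.2.1, ← hg₂a, inv_smul_smul]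
    · rw [mul_smul, mul_smul, hg₁b, g.2.2, ← hg₂b, inv_smul_smul]
  · have hx := x.2
    rw [Subgroup.mem_inf, MulAction.mem_stabilizer_iff, MulAction.mem_stabilizer_iff] at hx
    constructor
    · rw [mul_smul, mul_smul, ← hg₁a, inv_smul_smul, hx.1, hg₂a]
    · rw [mul_smul, mul_smul, ← hg₁b, inv_smul_smul, hx.2, hg₂b]
  · intro g
    apply Subtype.ext
    simp [mul_assoc]
  · intro x
    apply Subtype.ext
    simp [mul_assoc]

theorem card_G (h2 : MulAction.IsMultiplyPretransitive G Ω 2) {a b : Ω} (hab : a ≠ b) :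
    Fintype.card G = (Fintype.card Ω * Fintype.card Ω - Fintype.card Ω)
      * Nat.card ↥(MulAction.stabilizer G a ⊓ MulAction.stabilizer G b : Subgroup G) := by
  have h1 := Finset.card_eq_sum_card_fiberwise (s := (Finset.univ : Finset G))
    (t := (Finset.univ : Finset Ω).offDiag) (f := fun g : G => (g • a, g • b))
    (by
      intro g _
      rw [Finset.mem_coe, Finset.mem_offDiag]
      exact ⟨Finset.mem_univ _, Finset.mem_univ _, fun h => hab (smul_left_cancel g h)⟩)
  rw [Finset.card_univ] at h1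
  rw [h1, ← Finset.card_univ (α := Ω), ← Finset.offDiag_card, ← smul_eq_mul, ← Finset.sum_const]
  apply Finset.sum_congr rfl
  intro p hp
  rw [Finset.mem_offDiag] at hp
  rw [← card_move h2 hab hab hp.2.2]
  congr 1
  ext g
  simp [Prod.ext_iff]

theorem card_stab1 (h2 : MulAction.IsMultiplyPretransitive G Ω 2) {a b : Ω} (hab : a ≠ b)
    (c : Ω) :
    (Finset.univ.filter (fun g : G => g • c = c)).card = (Fintype.card Ω - 1)
      * Nat.card ↥(MulAction.stabilizer G a ⊓ MulAction.stabilizer G b : Subgroup G) := by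
  obtain ⟨d₀, hd₀⟩ : ∃ d₀ : Ω, c ≠ d₀ := by
    by_cases h : c = a
    · exact ⟨b, by rw [h]; exact hab⟩
    · exact ⟨a, h⟩
  have h1 := Finset.card_eq_sum_card_fiberwise
    (s := (Finset.univ.filter (fun g : G => g • c = c)))
    (t := (Finset.univ : Finset Ω).erase c) (f := fun g : G => g • d₀)
    (by
      intro g hg
      rw [Finset.mem_coe, Finset.mem_filter] at hg
      rw [Finset.mem_coe, Finset.mem_erase]
      refine ⟨fun h => ?_, Finset.mem_univ _⟩
      apply hd₀
      have h' : g • d₀ = c := h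
      have : g • d₀ = g • c := by rw [h', hg.2]
      exact (smul_left_cancel g this).symm)
  rw [h1, ← Finset.card_univ (α := Ω), ← Finset.card_erase_of_mem (Finset.mem_univ c),
    ← smul_eq_mul, ← Finset.sum_const]
  apply Finset.sum_congr rfl
  intro d' hd'
  rw [Finset.mem_erase] at hd'
  rw [← card_move h2 hab hd₀ (Ne.symm hd'.1), Finset.filter_filter]

theorem sum_fix (h2 : MulAction.IsMultiplyPretransitive G Ω 2) {a b : Ω} (hab : a ≠ b) :
    ∑ g : G, fixN (Ω := Ω) g = Fintype.card Ω * ((Fintype.card Ω - 1)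
      * Nat.card ↥(MulAction.stabilizer G a ⊓ MulAction.stabilizer G b : Subgroup G)) := by
  unfold fixN
  simp only [Finset.card_filter]
  rw [Finset.sum_comm]
  simp only [← Finset.card_filter]
  rw [Finset.sum_congr rfl (fun c _ => card_stab1 h2 hab c), Finset.sum_const, Finset.card_univ,
    smul_eq_mul]

theorem sum_fix2 (h2 : MulAction.IsMultiplyPretransitive G Ω 2) {a b : Ω} (hab : a ≠ b) :
    ∑ g : G, (fixN (Ω := Ω) g * fixN (Ω := Ω) g - fixN (Ω := Ω) g)
      = (Fintype.card Ω * Fintype.card Ω - Fintype.card Ω)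
      * Nat.card ↥(MulAction.stabilizer G a ⊓ MulAction.stabilizer G b : Subgroup G) := by
  have h1 : ∀ g : G, fixN (Ω := Ω) g * fixN (Ω := Ω) g - fixN (Ω := Ω) g
      = ((Finset.univ : Finset Ω).offDiag.filter
          (fun p : Ω × Ω => g • p.1 = p.1 ∧ g • p.2 = p.2)).card := by
    intro g
    unfold fixN
    rw [← Finset.offDiag_card]
    congr 1
    ext p
    simp only [Finset.mem_offDiag, Finset.mem_filter, Finset.mem_univ, true_and]
    tauto
  simp only [h1, Finset.card_filter]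
  rw [Finset.sum_comm]
  simp only [← Finset.card_filter]
  rw [← Finset.card_univ (α := Ω), ← Finset.offDiag_card, ← smul_eq_mul, ← Finset.sum_const]
  apply Finset.sum_congr rfl
  intro p hp
  rw [Finset.mem_offDiag] at hp
  exact card_move h2 hab hp.2.2 hp.2.2

omit [Fintype G] in
theorem fixN_le_two (hZ : IsZassenhausGroup G Ω) {g : G} (hg : g ≠ 1) : fixN (Ω := Ω) g ≤ 2 := by
  by_contra hcon
  push Not at hcon
  unfold fixN at hcon
  obtain ⟨c₁, c₂, c₃, h₁, h₂, h₃, h12, h13, h23⟩ := Finset.two_lt_card_iff.mp hcon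
  rw [Finset.mem_filter] at h₁ h₂ h₃
  exact hg (hZ.2.2.1 g c₁ c₂ c₃ h12 h23 h13 h₁.2 h₂.2 h₃.2)

theorem class_card_dvd {G : Type*} [Group G] (x₀ : G) :
    Nat.card {g : G // IsConj x₀ g} ∣ Nat.card G := by
  have h1 : Nat.card {g : G // IsConj x₀ g} = (MulAction.orbit (ConjAct G) x₀).ncard := by
    rw [← Nat.card_coe_set_eq]
    apply Nat.card_congr
    exact Equiv.subtypeEquivRight (fun g => by
      rw [ConjAct.mem_orbit_conjAct]
      exact isConj_comm)
  rw [h1, ← MulAction.index_stabilizer]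
  exact Subgroup.index_dvd_card (MulAction.stabilizer (ConjAct G) x₀)

theorem fpf_count (hZ : IsZassenhausGroup G Ω) {a b : Ω} (hab : a ≠ b) :
    (2 * ((Finset.univ.filter (fun g : G => fixN (Ω := Ω) g = 0)).card : ℤ))
      = (Fintype.card Ω : ℤ) * ((Fintype.card Ω : ℤ) - 1)
          * (Nat.card ↥(MulAction.stabilizer G a ⊓ MulAction.stabilizer G b : Subgroup G) : ℤ)
        - ((Fintype.card Ω : ℤ) - 1) * ((Fintype.card Ω : ℤ) - 2) := by
  classical
  have h2 := hZ.2.1
  have hn1 : 1 ≤ Fintype.card Ω := Fintype.card_pos_iff.mpr ⟨a⟩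
  have S0 := card_G h2 hab
  have S1 := sum_fix h2 hab
  have S2 := sum_fix2 h2 hab
  have hnn : Fintype.card Ω ≤ Fintype.card Ω * Fintype.card Ω := Nat.le_mul_self _
  have S0' : (Fintype.card G : ℤ) = ((Fintype.card Ω : ℤ) * (Fintype.card Ω : ℤ)
      - (Fintype.card Ω : ℤ))
      * (Nat.card ↥(MulAction.stabilizer G a ⊓ MulAction.stabilizer G b : Subgroup G) : ℤ) := by
    rw [S0]
    push_cast [Nat.cast_sub hnn]
    ring
  have S1' : ∑ g : G, (fixN (Ω := Ω) g : ℤ) = (Fintype.card Ω : ℤ) * (((Fintype.card Ω : ℤ) - 1)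
      * (Nat.card ↥(MulAction.stabilizer G a ⊓ MulAction.stabilizer G b : Subgroup G) : ℤ)) := by
    have := congrArg (Nat.cast : ℕ → ℤ) S1
    push_cast [Nat.cast_sub hn1] at this
    exact this
  have S2' : ∑ g : G, ((fixN (Ω := Ω) g : ℤ) * (fixN (Ω := Ω) g : ℤ) - (fixN (Ω := Ω) g : ℤ))
      = ((Fintype.card Ω : ℤ) * (Fintype.card Ω : ℤ) - (Fintype.card Ω : ℤ))
      * (Nat.card ↥(MulAction.stabilizer G a ⊓ MulAction.stabilizer G b : Subgroup G) : ℤ) := by
    have := congrArg (Nat.cast : ℕ → ℤ) S2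
    rw [Nat.cast_sum] at this
    have e : ∀ g : G, ((fixN (Ω := Ω) g * fixN (Ω := Ω) g - fixN (Ω := Ω) g : ℕ) : ℤ)
        = (fixN (Ω := Ω) g : ℤ) * (fixN (Ω := Ω) g : ℤ) - (fixN (Ω := Ω) g : ℤ) := by
      intro g
      rw [Nat.cast_sub (Nat.le_mul_self _)]
      push_cast
      ring
    simp only [e] at this
    rw [this]
    push_cast [Nat.cast_sub hnn]
    ring
  have key : ∀ g : G, ((fixN (Ω := Ω) g : ℤ) - 1) * ((fixN (Ω := Ω) g : ℤ) - 2)
      = (if g = 1 then ((Fintype.card Ω : ℤ) - 1) * ((Fintype.card Ω : ℤ) - 2) else 0)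
        + 2 * (if fixN (Ω := Ω) g = 0 then (1 : ℤ) else 0) := by
    intro g
    by_cases hg : g = 1
    · rw [if_pos hg, hg, fixN_one]
      have : Fintype.card Ω ≠ 0 := by omega
      rw [if_neg this]
      ring
    · rw [if_neg hg]
      have hle := fixN_le_two hZ hg
      interval_cases h : fixN (Ω := Ω) g <;> simp
  have hsum : ∑ g : G, ((fixN (Ω := Ω) g : ℤ) - 1) * ((fixN (Ω := Ω) g : ℤ) - 2)
      = ((Fintype.card Ω : ℤ) - 1) * ((Fintype.card Ω : ℤ) - 2)
        + 2 * ((Finset.univ.filter (fun g : G => fixN (Ω := Ω) g = 0)).card : ℤ) := by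
    simp only [key]
    rw [Finset.sum_add_distrib, Finset.sum_ite_eq' Finset.univ (1 : G), if_pos (Finset.mem_univ _),
      ← Finset.mul_sum, Finset.card_filter]
    push_cast
    rfl
  have hsum2 : ∑ g : G, ((fixN (Ω := Ω) g : ℤ) - 1) * ((fixN (Ω := Ω) g : ℤ) - 2)
      = ∑ g : G, ((fixN (Ω := Ω) g : ℤ) * (fixN (Ω := Ω) g : ℤ) - (fixN (Ω := Ω) g : ℤ))
        - 2 * ∑ g : G, (fixN (Ω := Ω) g : ℤ) + 2 * (Fintype.card G : ℤ) := by
    rw [Finset.mul_sum, ← Finset.sum_sub_distrib]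
    have : (2 * (Fintype.card G : ℤ)) = ∑ _g : G, (2 : ℤ) := by
      rw [Finset.sum_const, Finset.card_univ]
      simp
      ring
    rw [this, ← Finset.sum_add_distrib]
    apply Finset.sum_congr rfl
    intro g _
    ring
  rw [hsum2, S2', S1', S0'] at hsum
  linarith

end Cfsg.Agent.Lib.helper2.ZassCount
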