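import Cfsg.Agent.Lib.helper2.ZassCount

set_option autoImplicit false

namespace Cfsg.Agent.Lib.helper2.ZassCount

open Cfsg

variable {G Ω : Type*} [Group G] [Fintype G] [MulAction G Ω] [Fintype Ω] [DecidableEq Ω]

omit [Fintype G] in
theorem fixN_eq_two (hZ : IsZassenhausGroup G Ω) {g : G} (hg : g ≠ 1) {c d : Ω} (hcd : c ≠ d)
    (hc : g • c = c) (hd : g • d = d) : fixN (Ω := Ω) g = 2 := by
  apply le_antisymm (fixN_le_two hZ hg)
  unfold fixN
  have hsub : ({c, d} : Finset Ω) ⊆ Finset.univ.filter (fun x : Ω => g • x = x) := by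
    intro x hx
    rw [Finset.mem_insert, Finset.mem_singleton] at hx
    rw [Finset.mem_filter]
    refine ⟨Finset.mem_univ _, ?_⟩
    rcases hx with rfl | rfl
    · exact hc
    · exact hd
  have := Finset.card_le_card hsub
  rw [Finset.card_pair hcd] at this
  exact this

/-- If the two-point stabiliser has even order then `n - 2 ≤ 2 e`. -/
theorem even_bound [DecidableEq G] (hZ : IsZassenhausGroup G Ω) {a b : Ω} (hab : a ≠ b)
    (heven : Even (Nat.card ↥(MulAction.stabilizer G a ⊓ MulAction.stabilizer G b : Subgroup G))) :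
    Fintype.card Ω - 2
      ≤ 2 * Nat.card ↥(MulAction.stabilizer G a ⊓ MulAction.stabilizer G b : Subgroup G) := by
  have h2 := hZ.2.1
  haveI : Fact (Nat.Prime 2) := ⟨Nat.prime_two⟩
  obtain ⟨t₀, ht₀⟩ := exists_prime_orderOf_dvd_card' 2
    (G := ↥(MulAction.stabilizer G a ⊓ MulAction.stabilizer G b : Subgroup G))
    (even_iff_two_dvd.mp heven)
  have ht₀o : orderOf (t₀ : G) = 2 := by rw [Subgroup.orderOf_coe]; exact ht₀
  have ht₀1 : (t₀ : G) ≠ 1 := by
    intro h
    rw [h, orderOf_one] at ht₀o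
    omega
  have ht₀m := t₀.2
  rw [Subgroup.mem_inf, MulAction.mem_stabilizer_iff, MulAction.mem_stabilizer_iff] at ht₀m
  -- the set of involutions with exactly two fixed points
  obtain ⟨I₂, hI₂⟩ : ∃ I₂ : Finset G,
      I₂ = Finset.univ.filter (fun s : G => orderOf s = 2 ∧ fixN (Ω := Ω) s = 2) := ⟨_, rfl⟩
  have hmem : ∀ s : G, s ∈ I₂ ↔ orderOf s = 2 ∧ fixN (Ω := Ω) s = 2 := by
    intro s
    rw [hI₂, Finset.mem_filter]
    simp
  -- Claim A
  have hA : Fintype.card Ω * Fintype.card Ω - Fintype.card Ω ≤ 2 * I₂.card := by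
    have e1 : ∑ s ∈ I₂, ((Finset.univ : Finset Ω).offDiag.filter
        (fun p : Ω × Ω => s • p.1 = p.1 ∧ s • p.2 = p.2)).card = 2 * I₂.card := by
      rw [mul_comm, ← smul_eq_mul, ← Finset.sum_const]
      apply Finset.sum_congr rfl
      intro s hs
      have hs2 := ((hmem s).mp hs).2
      have : (Finset.univ : Finset Ω).offDiag.filter
          (fun p : Ω × Ω => s • p.1 = p.1 ∧ s • p.2 = p.2)
          = (Finset.univ.filter (fun c : Ω => s • c = c)).offDiag := by
        ext p
        simp only [Finset.mem_offDiag, Finset.mem_filter, Finset.mem_univ, true_and]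
        tauto
      rw [this, Finset.offDiag_card]
      unfold fixN at hs2
      rw [hs2]
    rw [← e1]
    simp only [Finset.card_filter]
    rw [Finset.sum_comm]
    simp only [← Finset.card_filter]
    rw [← Finset.card_univ (α := Ω), ← Finset.offDiag_card, Finset.card_eq_sum_ones]
    apply Finset.sum_le_sum
    intro p hp
    rw [Finset.mem_offDiag] at hp
    obtain ⟨g, hga, hgb⟩ := MulAction.is_two_pretransitive_iff.mp h2 hab hp.2.2
    rw [Nat.succ_le_iff, Finset.card_pos]
    refine ⟨g * (t₀ : G) * g⁻¹, ?_⟩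
    rw [Finset.mem_filter, hmem]
    have hc1 : (g * (t₀ : G) * g⁻¹) • p.1 = p.1 := by
      rw [← hga, mul_smul, mul_smul, inv_smul_smul, ht₀m.1]
    have hc2 : (g * (t₀ : G) * g⁻¹) • p.2 = p.2 := by
      rw [← hgb, mul_smul, mul_smul, inv_smul_smul, ht₀m.2]
    have hne1 : g * (t₀ : G) * g⁻¹ ≠ 1 := by
      intro h
      apply ht₀1
      calc (t₀ : G) = g⁻¹ * (g * (t₀ : G) * g⁻¹) * g := by group
        _ = 1 := by rw [h]; group
    refine ⟨⟨?_, fixN_eq_two hZ hne1 hp.2.2 hc1 hc2⟩, hc1, hc2⟩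
    have : g * (t₀ : G) * g⁻¹ = MulAut.conj g (t₀ : G) := by simp
    rw [this, MulEquiv.orderOf_eq, ht₀o]
  -- Claim B
  have hB : I₂.card * (Fintype.card Ω - 2)
      ≤ (Fintype.card Ω * Fintype.card Ω - Fintype.card Ω)
        * Nat.card ↥(MulAction.stabilizer G a ⊓ MulAction.stabilizer G b : Subgroup G) := by
    have e1 : I₂.card * (Fintype.card Ω - 2) ≤ ∑ s ∈ I₂, ((Finset.univ : Finset Ω).offDiag.filter
        (fun p : Ω × Ω => s • p.1 = p.2 ∧ s • p.2 = p.1)).card := by
      rw [← smul_eq_mul, ← Finset.sum_const]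
      apply Finset.sum_le_sum
      intro s hs
      obtain ⟨hso, hs2⟩ := (hmem s).mp hs
      have hss : ∀ c : Ω, s • s • c = c := by
        intro c
        rw [← mul_smul, ← sq, ← hso, pow_orderOf_eq_one, one_smul]
      have hmoved : (Finset.univ.filter (fun c : Ω => ¬ s • c = c)).card = Fintype.card Ω - 2 := by
        have := Finset.card_filter_add_card_filter_not (s := (Finset.univ : Finset Ω))
          (fun c : Ω => s • c = c)
        unfold fixN at hs2
        rw [hs2, Finset.card_univ] at this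
        omega
      rw [← hmoved]
      apply Finset.card_le_card_of_injOn (fun c => (c, s • c))
      · intro c hc
        rw [Finset.mem_coe, Finset.mem_filter] at hc
        rw [Finset.mem_coe, Finset.mem_filter, Finset.mem_offDiag]
        exact ⟨⟨Finset.mem_univ _, Finset.mem_univ _, fun h => hc.2 h.symm⟩, rfl, hss c⟩
      · intro c _ d _ hcd
        exact (Prod.ext_iff.mp hcd).1
    refine le_trans e1 ?_
    simp only [Finset.card_filter]
    rw [Finset.sum_comm]
    simp only [← Finset.card_filter]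
    rw [← Finset.card_univ (α := Ω), ← Finset.offDiag_card, ← smul_eq_mul, ← Finset.sum_const]
    apply Finset.sum_le_sum
    intro p hp
    rw [Finset.mem_offDiag] at hp
    rw [← card_move h2 hab hp.2.2 (Ne.symm hp.2.2)]
    apply Finset.card_le_card
    intro s hs
    rw [Finset.mem_filter] at hs ⊢
    exact ⟨Finset.mem_univ _, hs.2⟩
  have hn2 : 2 ≤ Fintype.card Ω := Fintype.one_lt_card_iff.mpr ⟨a, b, hab⟩
  have hpos : 0 < Fintype.card Ω * Fintype.card Ω - Fintype.card Ω := by
    have : Fintype.card Ω * 2 ≤ Fintype.card Ω * Fintype.card Ω := Nat.mul_le_mul_left _ hn2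
    omega
  have h3 : (Fintype.card Ω * Fintype.card Ω - Fintype.card Ω) * (Fintype.card Ω - 2)
      ≤ (Fintype.card Ω * Fintype.card Ω - Fintype.card Ω)
        * (2 * Nat.card ↥(MulAction.stabilizer G a ⊓ MulAction.stabilizer G b : Subgroup G)) := by
    calc (Fintype.card Ω * Fintype.card Ω - Fintype.card Ω) * (Fintype.card Ω - 2)
        ≤ (2 * I₂.card) * (Fintype.card Ω - 2) := Nat.mul_le_mul_right _ hA
      _ = 2 * (I₂.card * (Fintype.card Ω - 2)) := by ring
      _ ≤ 2 * ((Fintype.card Ω * Fintype.card Ω - Fintype.card Ω)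
        * Nat.card ↥(MulAction.stabilizer G a ⊓ MulAction.stabilizer G b : Subgroup G)) :=
          Nat.mul_le_mul_left _ hB
      _ = _ := by ring
  exact Nat.le_of_mul_le_mul_left h3 hpos

omit [Fintype G] in
theorem fixN_modEq_two {s : G} (hs : orderOf s = 2) :
    fixN (Ω := Ω) s ≡ Fintype.card Ω [MOD 2] := by
  haveI : Fact (Nat.Prime 2) := ⟨Nat.prime_two⟩
  have hσ : (MulAction.toPermHom G Ω s) ^ 2 ^ 1 = 1 := by
    rw [pow_one, ← map_pow, ← hs, pow_orderOf_eq_one, map_one]
  have h := Equiv.Perm.card_compl_support_modEq hσ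
  have e : (MulAction.toPermHom G Ω s).supportᶜ
      = Finset.univ.filter (fun c : Ω => s • c = c) := by
    ext c
    simp [Equiv.Perm.mem_support]
  rw [e] at h
  exact h

omit [Fintype G] [DecidableEq Ω] in
theorem card_fixedBy_eq [DecidableEq Ω] (s : G) :
    Nat.card (MulAction.fixedBy Ω s) = fixN (Ω := Ω) s := by
  unfold fixN
  rw [← Fintype.card_subtype, ← Nat.card_eq_fintype_card]
  rfl

omit [Fintype G] in
/-- Conjugating an element moving `c` to an element swapping `a` and `b`. -/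
theorem exists_swap_conj (hZ : IsZassenhausGroup G Ω) {a b : Ω} (hab : a ≠ b) {t : G}
    (ht : orderOf t = 2) {c : Ω} (hc : t • c ≠ c) :
    ∃ s : G, orderOf s = 2 ∧ s • a = b ∧ s • b = a ∧ fixN (Ω := Ω) s = fixN (Ω := Ω) t := by
  have h2 := hZ.2.1
  have htt : t • t • c = c := by
    rw [← mul_smul, ← sq, ← ht, pow_orderOf_eq_one, one_smul]
  obtain ⟨g, hgc, hgd⟩ := MulAction.is_two_pretransitive_iff.mp h2 (Ne.symm hc) hab
  refine ⟨g * t * g⁻¹, ?_, ?_, ?_, fixN_conj t g⟩
  · have : g * t * g⁻¹ = MulAut.conj g t := by simp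
    rw [this, MulEquiv.orderOf_eq, ht]
  · rw [← hgc, mul_smul, mul_smul, inv_smul_smul]
    exact hgd
  · rw [← hgd, mul_smul, mul_smul, inv_smul_smul, htt]
    exact hgc

end Cfsg.Agent.Lib.helper2.ZassCount
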