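import Cfsg.Agent.Lib.helper2.ZassZ

set_option autoImplicit false

namespace Cfsg.Agent.Lib.helper2.ZassCount

open Cfsg

universe u v

/-- The two-point stabiliser of a Zassenhaus group is non-trivial. -/
theorem exists_E_ne_one {G Ω : Type*} [Group G] [MulAction G Ω]
    (hZ : IsZassenhausGroup G Ω) {a b : Ω} (hab : a ≠ b) :
    ∃ g ∈ (MulAction.stabilizer G a ⊓ MulAction.stabilizer G b : Subgroup G), g ≠ 1 := by
  have h2t : ∀ {a b c d : Ω}, a ≠ b → c ≠ d → ∃ g : G, g • a = c ∧ g • b = d :=
    MulAction.is_two_pretransitive_iff.mp hZ.2.1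
  obtain ⟨g₀, hg1, a', b', hab', ha', hb'⟩ := hZ.2.2.2.1
  obtain ⟨x, hxa, hxb⟩ := h2t hab' hab
  refine ⟨x * g₀ * x⁻¹, ⟨?_, ?_⟩, ?_⟩
  · show (x * g₀ * x⁻¹) • a = a
    rw [mul_smul, mul_smul, ← hxa, inv_smul_smul, ha']
  · show (x * g₀ * x⁻¹) • b = b
    rw [mul_smul, mul_smul, ← hxb, inv_smul_smul, hb']
  · intro h
    apply hg1
    have : g₀ = x⁻¹ * (x * g₀ * x⁻¹) * x := by group
    rw [this, h]
    group

/-- The order of a two-point stabiliser divides `n - 2`. -/
theorem card_E_dvd {G Ω : Type*} [Group G] [Finite G] [MulAction G Ω] [Fintype Ω]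
    (hZ : IsZassenhausGroup G Ω) {a b : Ω} (hab : a ≠ b) :
    Nat.card ↥(MulAction.stabilizer G a ⊓ MulAction.stabilizer G b : Subgroup G)
      ∣ Fintype.card Ω - 2 := by
  classical
  haveI : Fintype G := Fintype.ofFinite G
  have hburn : ∑ x : ↥(MulAction.stabilizer G a ⊓ MulAction.stabilizer G b : Subgroup G),
      Fintype.card (MulAction.fixedBy Ω x)
      = Fintype.card (Quotient (MulAction.orbitRel
          ↥(MulAction.stabilizer G a ⊓ MulAction.stabilizer G b : Subgroup G) Ω))
        * Fintype.card ↥(MulAction.stabilizer G a ⊓ MulAction.stabilizer G b : Subgroup G) :=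
    MulAction.sum_card_fixedBy_eq_card_orbits_mul_card_group _ Ω
  have hn2 : 2 ≤ Fintype.card Ω := Fintype.one_lt_card_iff.mpr ⟨a, b, hab⟩
  have hterm : ∀ x : ↥(MulAction.stabilizer G a ⊓ MulAction.stabilizer G b : Subgroup G),
      Fintype.card (MulAction.fixedBy Ω x)
        = 2 + (if x = 1 then Fintype.card Ω - 2 else 0) := by
    intro x
    have h1 : Fintype.card (MulAction.fixedBy Ω x) = fixN (Ω := Ω) (x : G) := by
      unfold fixN
      rw [← Fintype.card_subtype]
      rfl
    rw [h1]
    by_cases hx : x = 1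
    · rw [if_pos hx, hx, Subgroup.coe_one, fixN_one]
      omega
    · rw [if_neg hx, add_zero]
      exact fixN_eq_two hZ (fun h => hx (Subtype.ext h)) hab x.2.1 x.2.2
  rw [Finset.sum_congr rfl (fun x _ => hterm x), Finset.sum_add_distrib, Finset.sum_const,
    Finset.sum_ite_eq' Finset.univ (1 : ↥(MulAction.stabilizer G a ⊓ MulAction.stabilizer G b : Subgroup G))
      (fun _ => Fintype.card Ω - 2), if_pos (Finset.mem_univ _), Finset.card_univ, smul_eq_mul] at hburn
  rw [Nat.card_eq_fintype_card]
  have h1 : Fintype.card ↥(MulAction.stabilizer G a ⊓ MulAction.stabilizer G b : Subgroup G)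
      ∣ Fintype.card ↥(MulAction.stabilizer G a ⊓ MulAction.stabilizer G b : Subgroup G) * 2
        + (Fintype.card Ω - 2) := Dvd.intro_left _ hburn.symm
  exact (Nat.dvd_add_right (dvd_mul_right _ 2)).mp h1

/-- A two-point stabiliser of odd order is a Hall subgroup. -/
theorem hall_fact {G Ω : Type*} [Group G] [Finite G] [MulAction G Ω] [Fintype Ω]
    (hZ : IsZassenhausGroup G Ω) {a b : Ω} (hab : a ≠ b)
    (hodd : Odd (Nat.card ↥(MulAction.stabilizer G a ⊓ MulAction.stabilizer G b : Subgroup G)))
    {q : ℕ} (hq : q.Prime)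
    (hqe : q ∣ Nat.card ↥(MulAction.stabilizer G a ⊓ MulAction.stabilizer G b : Subgroup G)) :
    (Nat.card G).factorization q
      = (Nat.card ↥(MulAction.stabilizer G a ⊓ MulAction.stabilizer G b : Subgroup G)).factorization q := by
  classical
  haveI : Fintype G := Fintype.ofFinite G
  have hcard := card_G (G := G) (Ω := Ω) hZ.2.1 hab
  have hdvd := card_E_dvd hZ hab
  have hn2 : 2 ≤ Fintype.card Ω := Fintype.one_lt_card_iff.mpr ⟨a, b, hab⟩
  have hq2 : q ≠ 2 := by
    rintro rfl
    exact (Nat.not_even_iff_odd.mpr hodd) (even_iff_two_dvd.mpr hqe)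
  have hqn2 : q ∣ Fintype.card Ω - 2 := dvd_trans hqe hdvd
  have hnq : ¬ q ∣ Fintype.card Ω * Fintype.card Ω - Fintype.card Ω := by
    intro h
    have h1 : Fintype.card Ω * Fintype.card Ω - Fintype.card Ω
        = Fintype.card Ω * (Fintype.card Ω - 1) := by
      rw [Nat.mul_sub, mul_one]
    rw [h1] at h
    rcases (Nat.Prime.dvd_mul hq).mp h with h2 | h2
    · have : q ∣ 2 := by
        have := Nat.dvd_sub h2 hqn2
        rwa [show Fintype.card Ω - (Fintype.card Ω - 2) = 2 by omega] at this
      exact hq2 ((Nat.prime_dvd_prime_iff_eq hq Nat.prime_two).mp this)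
    · have : q ∣ 1 := by
        have := Nat.dvd_sub h2 hqn2
        rwa [show Fintype.card Ω - 1 - (Fintype.card Ω - 2) = 1 by omega] at this
      exact hq.one_lt.ne' (Nat.dvd_one.mp this)
  have hne1 : Fintype.card Ω * Fintype.card Ω - Fintype.card Ω ≠ 0 := by
    intro h
    apply hnq
    rw [h]
    exact dvd_zero q
  have hne2 : Nat.card ↥(MulAction.stabilizer G a ⊓ MulAction.stabilizer G b : Subgroup G) ≠ 0 :=
    Nat.card_pos.ne'
  rw [Nat.card_eq_fintype_card (α := G), hcard, Nat.factorization_mul hne1 hne2,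
    Finsupp.add_apply, Nat.factorization_eq_zero_of_not_dvd hnq, zero_add]

/-- Without normal `q`-complements for the primes dividing its (odd) order, the two-point
stabiliser lies in the commutator subgroup. -/
theorem E_le_commutator {G : Type u} {Ω : Type v} [Group G] [Finite G] [MulAction G Ω] [Fintype Ω]
    (hZ : IsZassenhausGroup G Ω) {a b : Ω} (hab : a ≠ b)
    (hodd : Odd (Nat.card ↥(MulAction.stabilizer G a ⊓ MulAction.stabilizer G b : Subgroup G)))
    (hnil : ∀ q : ℕ, q.Prime →
      q ∣ Nat.card ↥(MulAction.stabilizer G a ⊓ MulAction.stabilizer G b : Subgroup G) →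
      ¬ ∃ N : Subgroup G, N.Normal ∧ N.index = q ^ (Nat.card G).factorization q) :
    (MulAction.stabilizer G a ⊓ MulAction.stabilizer G b : Subgroup G) ≤ commutator G := by
  haveI := zass_E_zgroup hZ hab hodd
  have key : ((commutator G).subgroupOf
      (MulAction.stabilizer G a ⊓ MulAction.stabilizer G b : Subgroup G)) = ⊤ := by
    apply Cfsg.Agent.Lib.helper1.eq_top_of_sylow_le
    intro q hqF
    have hq := hqF.out
    obtain ⟨Q⟩ : Nonempty (Sylow q ↥(MulAction.stabilizer G a ⊓ MulAction.stabilizer G b : Subgroup G)) :=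
      inferInstance
    refine ⟨Q, ?_⟩
    by_cases hqe : q ∣ Nat.card ↥(MulAction.stabilizer G a ⊓ MulAction.stabilizer G b : Subgroup G)
    · have hcardQ := Sylow.card_eq_multiplicity Q
      have hcardmap : Nat.card ((Q : Subgroup
          ↥(MulAction.stabilizer G a ⊓ MulAction.stabilizer G b : Subgroup G)).map
            (MulAction.stabilizer G a ⊓ MulAction.stabilizer G b : Subgroup G).subtype)
          = q ^ (Nat.card G).factorization q := by
        rw [Subgroup.card_map_of_injective (Subgroup.subtype_injective _), hcardQ,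
          hall_fact hZ hab hodd hq hqe]
      obtain ⟨P, hPcoe⟩ : ∃ P : Sylow q G, (P : Subgroup G) = (Q : Subgroup
          ↥(MulAction.stabilizer G a ⊓ MulAction.stabilizer G b : Subgroup G)).map
            (MulAction.stabilizer G a ⊓ MulAction.stabilizer G b : Subgroup G).subtype :=
        ⟨Sylow.ofCard _ hcardmap, Sylow.coe_ofCard _ _⟩
      haveI : IsCyclic (P : Subgroup G) := by
        rw [hPcoe]
        exact isCyclic_of_surjective
          (Subgroup.equivMapOfInjective _ _ (Subgroup.subtype_injective _))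
          (Subgroup.equivMapOfInjective _ _ (Subgroup.subtype_injective _)).surjective
      rcases Sylow.normalizer_le_centralizer_or_le_commutator P with h1 | h1
      · exfalso
        apply hnil q hq hqe
        refine ⟨(MonoidHom.transferSylow P h1).ker, inferInstance, ?_⟩
        rw [(MonoidHom.ker_transferSylow_isComplement' P h1).symm.index_eq_card, hPcoe]
        exact hcardmap
      · intro x hx
        rw [Subgroup.mem_subgroupOf]
        apply h1
        rw [hPcoe]
        exact Subgroup.mem_map_of_mem _ hx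
    · have hcardQ : Nat.card (Q : Subgroup
          ↥(MulAction.stabilizer G a ⊓ MulAction.stabilizer G b : Subgroup G)) = 1 := by
        rw [Sylow.card_eq_multiplicity Q, Nat.factorization_eq_zero_of_not_dvd hqe, pow_zero]
      rw [Subgroup.eq_bot_of_card_eq _ hcardQ]
      exact bot_le
  intro g hg
  have : (⟨g, hg⟩ : ↥(MulAction.stabilizer G a ⊓ MulAction.stabilizer G b : Subgroup G))
      ∈ (commutator G).subgroupOf
        (MulAction.stabilizer G a ⊓ MulAction.stabilizer G b : Subgroup G) := by
    rw [key]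
    exact Subgroup.mem_top _
  exact Subgroup.mem_subgroupOf.mp this

end Cfsg.Agent.Lib.helper2.ZassCount
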