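import Cfsg.Agent.Lib.helper2.ZassCount2
import Cfsg.Agent.Lib.helper24.ZassBasic

set_option autoImplicit false

namespace Cfsg.Agent.Lib.helper2.ZassCount

open Cfsg

variable {G Ω : Type*} [Group G] [Fintype G] [MulAction G Ω] [Fintype Ω] [DecidableEq Ω]

omit [Fintype Ω] in
/-- All two-point stabilisers have the same order. -/
theorem card_stab2 (h2 : MulAction.IsMultiplyPretransitive G Ω 2) {a b : Ω} (hab : a ≠ b)
    {c d : Ω} (hcd : c ≠ d) :
    Nat.card ↥(MulAction.stabilizer G c ⊓ MulAction.stabilizer G d : Subgroup G)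
      = Nat.card ↥(MulAction.stabilizer G a ⊓ MulAction.stabilizer G b : Subgroup G) := by
  rw [← card_move h2 hab hcd hcd, ← Fintype.card_subtype, ← Nat.card_eq_fintype_card]
  rfl

/-- If two-point stabilisers have odd order, an involution fixes at most one point. -/
theorem invol_fixN_le_one (hZ : IsZassenhausGroup G Ω) {a b : Ω} (hab : a ≠ b)
    (hodd : Odd (Nat.card ↥(MulAction.stabilizer G a ⊓ MulAction.stabilizer G b : Subgroup G)))
    {z : G} (hz : orderOf z = 2) : fixN (Ω := Ω) z ≤ 1 := by
  by_contra hcon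
  push Not at hcon
  unfold fixN at hcon
  obtain ⟨c, hc, d, hd, hcd⟩ := Finset.one_lt_card.mp hcon
  rw [Finset.mem_filter] at hc hd
  have hmem : z ∈ (MulAction.stabilizer G c ⊓ MulAction.stabilizer G d : Subgroup G) :=
    ⟨hc.2, hd.2⟩
  have h1 : orderOf z ∣
      Nat.card ↥(MulAction.stabilizer G c ⊓ MulAction.stabilizer G d : Subgroup G) := by
    have := orderOf_dvd_natCard
      (⟨z, hmem⟩ : ↥(MulAction.stabilizer G c ⊓ MulAction.stabilizer G d : Subgroup G))
    rwa [Subgroup.orderOf_mk] at this
  rw [card_stab2 hZ.2.1 hab hcd, hz] at h1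
  exact (Nat.not_even_iff_odd.mpr hodd) (even_iff_two_dvd.mpr h1)

/-- Double counting moved points of involutions. -/
theorem invol_move_le (h2 : MulAction.IsMultiplyPretransitive G Ω 2) {a b : Ω}
    (hab : a ≠ b) :
    ∑ z ∈ Finset.univ.filter (fun z : G => orderOf z = 2),
        (Fintype.card Ω - fixN (Ω := Ω) z)
      ≤ Fintype.card Ω * ((Fintype.card Ω - 1)
        * Nat.card ↥(MulAction.stabilizer G a ⊓ MulAction.stabilizer G b : Subgroup G)) := by
  classical
  set I := Finset.univ.filter (fun z : G => orderOf z = 2) with hI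
  set e := Nat.card ↥(MulAction.stabilizer G a ⊓ MulAction.stabilizer G b : Subgroup G)
    with he
  have h1 : ∀ z : G, Fintype.card Ω - fixN (Ω := Ω) z
      = (Finset.univ.filter (fun c : Ω => ¬ z • c = c)).card := by
    intro z
    unfold fixN
    have := Finset.card_filter_add_card_filter_not (s := (Finset.univ : Finset Ω))
      (fun c : Ω => z • c = c)
    rw [Finset.card_univ] at this
    omega
  simp only [h1, Finset.card_filter]
  rw [Finset.sum_comm]
  simp only [← Finset.card_filter]
  have h2' : ∀ c : Ω, (I.filter (fun z => ¬ z • c = c)).card ≤ (Fintype.card Ω - 1) * e := by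
    intro c
    have h3 := Finset.card_eq_sum_card_fiberwise (s := I.filter (fun z => ¬ z • c = c))
      (t := Finset.univ.erase c) (f := fun z : G => z • c) (by
        intro z hz
        rw [Finset.mem_coe, Finset.mem_filter] at hz
        rw [Finset.mem_coe, Finset.mem_erase]
        exact ⟨hz.2, Finset.mem_univ _⟩)
    rw [h3]
    calc _ ≤ ∑ d ∈ Finset.univ.erase c, e := Finset.sum_le_sum (fun d hd => ?_)
      _ = (Fintype.card Ω - 1) * e := by
        rw [Finset.sum_const, Finset.card_erase_of_mem (Finset.mem_univ _), Finset.card_univ,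
          smul_eq_mul]
    have hdc : d ≠ c := (Finset.mem_erase.mp hd).1
    rw [he, ← card_move h2 hab (c := c) (d := d) (c' := d) (d' := c) (Ne.symm hdc) hdc]
    apply Finset.card_le_card
    intro z hz
    rw [Finset.mem_filter, Finset.mem_filter, hI, Finset.mem_filter] at hz
    rw [Finset.mem_filter]
    refine ⟨Finset.mem_univ _, hz.2, ?_⟩
    rw [← hz.2, ← mul_smul, ← sq, ← hz.1.1.2, pow_orderOf_eq_one, one_smul]
  calc _ ≤ ∑ c : Ω, (Fintype.card Ω - 1) * e := Finset.sum_le_sum (fun c _ => h2' c)
    _ = _ := by rw [Finset.sum_const, Finset.card_univ, smul_eq_mul]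

omit [Fintype Ω] in
/-- The number of involutions fixing a point does not depend on the point. -/
theorem invol_fix_card (h2 : MulAction.IsMultiplyPretransitive G Ω 2) (a c : Ω) :
    (Finset.univ.filter (fun z : G => orderOf z = 2 ∧ z • c = c)).card
      = (Finset.univ.filter (fun z : G => orderOf z = 2 ∧ z • a = a)).card := by
  haveI : MulAction.IsPretransitive G Ω := by
    haveI := h2
    exact MulAction.isPretransitive_of_is_two_pretransitive (G := G) (α := Ω)
  obtain ⟨g, hg⟩ := MulAction.exists_smul_eq G a c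
  apply Finset.card_bij (fun z _ => g⁻¹ * z * g)
  · intro z hz
    rw [Finset.mem_filter] at hz ⊢
    refine ⟨Finset.mem_univ _, ?_, ?_⟩
    · have : g⁻¹ * z * g = MulAut.conj g⁻¹ z := by simp
      rw [this, MulEquiv.orderOf_eq, hz.2.1]
    · rw [mul_smul, mul_smul, hg, hz.2.2, ← hg, inv_smul_smul]
  · intro z _ z' _ h
    have := congrArg (fun w => g * w * g⁻¹) h
    simpa [mul_assoc] using this
  · intro z hz
    rw [Finset.mem_filter] at hz
    refine ⟨g * z * g⁻¹, ?_, by group⟩
    rw [Finset.mem_filter]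
    refine ⟨Finset.mem_univ _, ?_, ?_⟩
    · have : g * z * g⁻¹ = MulAut.conj g z := by simp
      rw [this, MulEquiv.orderOf_eq, hz.2.1]
    · rw [mul_smul, mul_smul, ← hg, inv_smul_smul, hz.2.2]

/-- Odd degree, odd two-point stabiliser: the involutions are `n` times those fixing `a`. -/
theorem invol_card_eq (hZ : IsZassenhausGroup G Ω) {a b : Ω} (hab : a ≠ b)
    (hodd : Odd (Nat.card ↥(MulAction.stabilizer G a ⊓ MulAction.stabilizer G b : Subgroup G)))
    (hn : Odd (Fintype.card Ω)) :
    (Finset.univ.filter (fun z : G => orderOf z = 2)).card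
      = Fintype.card Ω * (Finset.univ.filter (fun z : G => orderOf z = 2 ∧ z • a = a)).card := by
  classical
  have h1 : ∀ z ∈ Finset.univ.filter (fun z : G => orderOf z = 2), fixN (Ω := Ω) z = 1 := by
    intro z hz
    rw [Finset.mem_filter] at hz
    have h2 := invol_fixN_le_one hZ hab hodd hz.2
    have h3 := fixN_modEq_two (Ω := Ω) hz.2
    have h4 : Fintype.card Ω % 2 = 1 := Nat.odd_iff.mp hn
    unfold Nat.ModEq at h3
    omega
  have h2 : (Finset.univ.filter (fun z : G => orderOf z = 2)).card
      = ∑ z ∈ Finset.univ.filter (fun z : G => orderOf z = 2), fixN (Ω := Ω) z := by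
    rw [Finset.sum_congr rfl h1, Finset.sum_const, smul_eq_mul, mul_one]
  rw [h2]
  unfold fixN
  simp only [Finset.card_filter]
  rw [Finset.sum_comm]
  simp only [← Finset.card_filter]
  have h3 : ∀ c : Ω, ((Finset.univ.filter (fun z : G => orderOf z = 2)).filter
      (fun z => z • c = c)).card
      = (Finset.univ.filter (fun z : G => orderOf z = 2 ∧ z • a = a)).card := by
    intro c
    rw [Finset.filter_filter]
    exact invol_fix_card hZ.2.1 a c
  rw [Finset.sum_congr rfl (fun c _ => h3 c), Finset.sum_const, Finset.card_univ, smul_eq_mul]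

/-- Odd degree, odd two-point stabiliser: at most `e` involutions fix a given point. -/
theorem invol_fix_le (hZ : IsZassenhausGroup G Ω) {a b : Ω} (hab : a ≠ b)
    (hodd : Odd (Nat.card ↥(MulAction.stabilizer G a ⊓ MulAction.stabilizer G b : Subgroup G)))
    (hn : Odd (Fintype.card Ω)) :
    (Finset.univ.filter (fun z : G => orderOf z = 2 ∧ z • a = a)).card
      ≤ Nat.card ↥(MulAction.stabilizer G a ⊓ MulAction.stabilizer G b : Subgroup G) := by
  classical
  have hA := invol_move_le (G := G) (Ω := Ω) hZ.2.1 hab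
  have hB := invol_card_eq hZ hab hodd hn
  have h1 : ∀ z ∈ Finset.univ.filter (fun z : G => orderOf z = 2),
      Fintype.card Ω - fixN (Ω := Ω) z = Fintype.card Ω - 1 := by
    intro z hz
    rw [Finset.mem_filter] at hz
    have h2 := invol_fixN_le_one hZ hab hodd hz.2
    have h3 := fixN_modEq_two (Ω := Ω) hz.2
    have h4 : Fintype.card Ω % 2 = 1 := Nat.odd_iff.mp hn
    unfold Nat.ModEq at h3
    omega
  rw [Finset.sum_congr rfl h1, Finset.sum_const, smul_eq_mul, hB] at hA
  have hn2 : 2 ≤ Fintype.card Ω := by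
    have := Fintype.one_lt_card_iff.mpr ⟨a, b, hab⟩
    omega
  have hpos : 0 < Fintype.card Ω * (Fintype.card Ω - 1) := by
    apply Nat.mul_pos <;> omega
  have h5 : Fintype.card Ω * (Fintype.card Ω - 1)
      * (Finset.univ.filter (fun z : G => orderOf z = 2 ∧ z • a = a)).card
      ≤ Fintype.card Ω * (Fintype.card Ω - 1)
      * Nat.card ↥(MulAction.stabilizer G a ⊓ MulAction.stabilizer G b : Subgroup G) := by
    calc _ = Fintype.card Ω * (Finset.univ.filter (fun z : G => orderOf z = 2 ∧ z • a = a)).card
          * (Fintype.card Ω - 1) := by ring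
      _ ≤ _ := hA
      _ = _ := by ring
  exact Nat.le_of_mul_le_mul_left h5 hpos

omit [Fintype G] [DecidableEq Ω] in
/-- The kernel `H` contains every element of the point stabiliser fixing only `a`. -/
theorem mem_kernel [Finite G] (hZ : IsZassenhausGroup G Ω) {a b : Ω} (hab : a ≠ b)
    (H : Subgroup G) (hHa : H ≤ MulAction.stabilizer G a)
    (hHcard : Nat.card H + 1 = Fintype.card Ω)
    (hHfix : ∀ u ∈ H, u ≠ 1 → ∀ c : Ω, u • c = c → c = a)
    {x : G} (hxa : x • a = a) (hx : ∀ c : Ω, x • c = c → c = a) : x ∈ H := by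
  have hle := Cfsg.Agent.Lib.helper24.zass_kernel_card_le hZ a b hab
  let f : H → {x : MulAction.stabilizer G a // x = 1 ∨ ∀ c : Ω, (x : G) • c = c → c = a} :=
    fun u => ⟨⟨u.1, hHa u.2⟩, by
      by_cases h1 : (u : G) = 1
      · left
        exact Subtype.ext h1
      · right
        exact hHfix u.1 u.2 h1⟩
  have hf : Function.Injective f := by
    intro u v huv
    have := congrArg (fun w => ((w.1 : MulAction.stabilizer G a) : G)) huv
    exact Subtype.ext this
  have hbij := hf.bijective_of_nat_card_le (by omega)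
  obtain ⟨u, hu⟩ := hbij.2 ⟨⟨x, hxa⟩, Or.inr hx⟩
  have := congrArg (fun w => ((w.1 : MulAction.stabilizer G a) : G)) hu
  have h2 : (u : G) = x := this
  rw [← h2]
  exact u.2

end Cfsg.Agent.Lib.helper2.ZassCount
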