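import Cfsg.Agent.Lib.helper2.ZassInv

set_option autoImplicit false

namespace Cfsg.Agent.Lib.helper2.ZassCount

open Cfsg
open scoped commutatorElement

/-- Transfer evaluation when exactly two cosets (`M` and `s M`) are fixed by `x`
and all other contributions die. -/
theorem transfer_two {G : Type*} [Group G] {M : Subgroup G} {A : Type*} [CommGroup A]
    [M.FiniteIndex] (ϕ : M →* A) (x : G) (hx : x ∈ M) (s : G) (hs : s ∉ M)
    (hsx : s⁻¹ * x * s ∈ M)
    (h : ∀ (t : G) (n : ℕ) (hm : t⁻¹ * x ^ n * t ∈ M), t ∉ M → s⁻¹ * t ∉ M →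
      ϕ ⟨t⁻¹ * x ^ n * t, hm⟩ = 1) :
    MonoidHom.transfer ϕ x = ϕ ⟨x, hx⟩ * ϕ ⟨s⁻¹ * x * s, hsx⟩ := by
  classical
  haveI : Fintype (Quotient (MulAction.orbitRel (Subgroup.zpowers x) (G ⧸ M))) :=
    Fintype.ofFinite _
  rw [MonoidHom.transfer_eq_prod_quotient_orbitRel_zpowers_quot]
  have gen : ∀ (r : G) (hr : r⁻¹ * x * r ∈ M)
      (q : Quotient (MulAction.orbitRel (Subgroup.zpowers x) (G ⧸ M))),
      q = Quotient.mk'' (QuotientGroup.mk r : G ⧸ M) →
      (q.out = (QuotientGroup.mk r : G ⧸ M)) ∧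
      ∀ (hm : q.out.out⁻¹ * x ^ Function.minimalPeriod (x • ·) q.out * q.out.out ∈ M),
        ϕ ⟨q.out.out⁻¹ * x ^ Function.minimalPeriod (x • ·) q.out * q.out.out, hm⟩
          = ϕ ⟨r⁻¹ * x * r, hr⟩ := by
    intro r hr q hq
    have hfix : ∀ z ∈ Subgroup.zpowers x,
        z • (QuotientGroup.mk r : G ⧸ M) = QuotientGroup.mk r := by
      intro z hz
      obtain ⟨k, rfl⟩ := Subgroup.mem_zpowers_iff.mp hz
      show (QuotientGroup.mk (x ^ k * r) : G ⧸ M) = QuotientGroup.mk r
      rw [QuotientGroup.eq]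
      have e : (x ^ k * r)⁻¹ * r = ((r⁻¹ * x * r) ^ k)⁻¹ := by
        have := conj_zpow (a := r⁻¹) (b := x) (i := k)
        rw [inv_inv] at this
        rw [this]
        group
      rw [e]
      exact M.inv_mem (M.zpow_mem hr k)
    have hout : q.out = (QuotientGroup.mk r : G ⧸ M) := by
      have h1 : Quotient.mk'' q.out = (Quotient.mk'' (QuotientGroup.mk r : G ⧸ M) :
          Quotient (MulAction.orbitRel (Subgroup.zpowers x) (G ⧸ M))) := by
        rw [Quotient.out_eq', hq]
      have h2 := Quotient.exact' h1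
      obtain ⟨z, hz⟩ := h2
      rw [← hz]
      exact hfix z z.2
    refine ⟨hout, ?_⟩
    have htM : r⁻¹ * q.out.out ∈ M := by
      have h1 : (QuotientGroup.mk r : G ⧸ M) = QuotientGroup.mk q.out.out := by
        rw [QuotientGroup.out_eq', hout]
      rwa [QuotientGroup.eq] at h1
    have hper : Function.minimalPeriod (x • · : G ⧸ M → G ⧸ M) q.out = 1 := by
      rw [Function.minimalPeriod_eq_one_iff_isFixedPt, hout]
      exact hfix x (Subgroup.mem_zpowers x)
    have key : ∀ (n : ℕ) (hm : q.out.out⁻¹ * x ^ n * q.out.out ∈ M), n = 1 →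
        ϕ ⟨q.out.out⁻¹ * x ^ n * q.out.out, hm⟩ = ϕ ⟨r⁻¹ * x * r, hr⟩ := by
      intro n hm hn
      subst hn
      have e : (⟨q.out.out⁻¹ * x ^ 1 * q.out.out, hm⟩ : M) =
          (⟨r⁻¹ * q.out.out, htM⟩ : M)⁻¹ * ⟨r⁻¹ * x * r, hr⟩ * ⟨r⁻¹ * q.out.out, htM⟩ := by
        apply Subtype.ext
        simp only [pow_one, Subgroup.coe_mul, Subgroup.coe_inv]
        group
      rw [e, map_mul, map_mul, map_inv, mul_comm, mul_inv_cancel_left]
    intro hm
    exact key _ hm hper
  have h1x : (1 : G)⁻¹ * x * 1 ∈ M := by simpa using hx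
  obtain ⟨q₀, hq₀⟩ : ∃ q₀ : Quotient (MulAction.orbitRel (Subgroup.zpowers x) (G ⧸ M)),
      q₀ = Quotient.mk'' (QuotientGroup.mk 1 : G ⧸ M) := ⟨_, rfl⟩
  obtain ⟨q₁, hq₁⟩ : ∃ q₁ : Quotient (MulAction.orbitRel (Subgroup.zpowers x) (G ⧸ M)),
      q₁ = Quotient.mk'' (QuotientGroup.mk s : G ⧸ M) := ⟨_, rfl⟩
  have g0 := gen 1 h1x q₀ hq₀
  have g1 := gen s hsx q₁ hq₁
  have hne : q₀ ≠ q₁ := by
    intro heq
    have h1 : (QuotientGroup.mk 1 : G ⧸ M) = QuotientGroup.mk s := by
      rw [← g0.1, ← g1.1, heq]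
    rw [QuotientGroup.eq] at h1
    apply hs
    simpa using h1
  rw [Finset.prod_eq_mul q₀ q₁ hne]
  · rw [g0.2, g1.2]
    congr 2
    apply Subtype.ext
    simp
  · intro q _ hq
    apply h
    · intro htq
      apply hq.1
      have h1 : q.out = (QuotientGroup.mk 1 : G ⧸ M) := by
        rw [← QuotientGroup.out_eq' q.out, QuotientGroup.eq]
        simpa using htq
      rw [hq₀, ← h1, Quotient.out_eq']
    · intro htq
      apply hq.2
      have h1 : q.out = (QuotientGroup.mk s : G ⧸ M) := by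
        rw [← QuotientGroup.out_eq' q.out, QuotientGroup.eq]
        have : q.out.out⁻¹ * s = (s⁻¹ * q.out.out)⁻¹ := by group
        rw [this]
        exact M.inv_mem htq
      rw [hq₁, ← h1, Quotient.out_eq']
  · intro hq; exact absurd (Finset.mem_univ _) hq
  · intro hq; exact absurd (Finset.mem_univ _) hq

/-- Transfer into a point stabiliser of a Zassenhaus group, evaluated on an element of a
two-point stabiliser. -/
theorem zass_transfer {G Ω : Type*} [Group G] [Finite G] [MulAction G Ω]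
    (hZ : IsZassenhausGroup G Ω) {A : Type*} [CommGroup A] {a : Ω}
    (ϕ : MulAction.stabilizer G a →* A) (s : G) (hs : s • a ≠ a) (m : G) (hma : m • a = a)
    (hmc : m • (s • a) = s • a) :
    ∃ hsm : s⁻¹ * m * s ∈ MulAction.stabilizer G a,
      MonoidHom.transfer ϕ m = ϕ ⟨m, hma⟩ * ϕ ⟨s⁻¹ * m * s, hsm⟩ := by
  have hsm : s⁻¹ * m * s ∈ MulAction.stabilizer G a := by
    show (s⁻¹ * m * s) • a = a
    rw [mul_smul, mul_smul, hmc, inv_smul_smul]
  refine ⟨hsm, ?_⟩
  apply transfer_two ϕ m hma s hs hsm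
  intro t n hm ht hst
  have h3 := hZ.2.2.1
  have hta : t • a ≠ a := ht
  have hsta : t • a ≠ s • a := by
    intro h
    apply hst
    show (s⁻¹ * t) • a = a
    rw [mul_smul, h, inv_smul_smul]
  have hmn : (m ^ n) • (t • a) = t • a := by
    have h1 : (t⁻¹ * m ^ n * t) • a = a := hm
    rw [mul_smul, mul_smul, inv_smul_eq_iff] at h1
    exact h1
  have hmna : (m ^ n) • a = a := (MulAction.stabilizer G a).pow_mem hma n
  have hmnc : (m ^ n) • (s • a) = s • a := (MulAction.stabilizer G (s • a)).pow_mem hmc n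
  have h1 : m ^ n = 1 :=
    h3 (m ^ n) a (s • a) (t • a) (Ne.symm hs) (Ne.symm hsta) (Ne.symm hta) hmna hmnc hmn
  have e : (⟨t⁻¹ * m ^ n * t, hm⟩ : MulAction.stabilizer G a) = 1 := by
    apply Subtype.ext
    simp [h1]
  rw [e, map_one]

/-- A simple Zassenhaus group is perfect: homomorphisms to abelian groups are trivial. -/
theorem zass_perfect {G Ω : Type*} [Group G] [MulAction G Ω]
    (hZ : IsZassenhausGroup G Ω) [IsSimpleGroup G] {A : Type*} [CommGroup A] (f : G →* A)
    (g : G) : f g = 1 := by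
  have hn : (commutator G).Normal := inferInstance
  have htop : commutator G = ⊤ := by
    rcases hn.eq_bot_or_eq_top with h | h
    · exfalso
      obtain ⟨g₀, hg1, a', b', hab', ha', hb'⟩ := hZ.2.2.2.1
      have hcomm : ∀ x y : G, x * y = y * x := by
        intro x y
        have h1 : ⁅x, y⁆ ∈ commutator G := by
          rw [commutator_def]
          exact Subgroup.commutator_mem_commutator (Subgroup.mem_top x) (Subgroup.mem_top y)
        rw [h, Subgroup.mem_bot] at h1
        exact commutatorElement_eq_one_iff_mul_comm.mp h1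
      haveI := hZ.1
      haveI : MulAction.IsPretransitive G Ω := by
        haveI := hZ.2.1
        exact MulAction.isPretransitive_of_is_two_pretransitive (G := G) (α := Ω)
      apply hg1
      apply FaithfulSMul.eq_of_smul_eq_smul (α := Ω)
      intro c
      obtain ⟨x, hx⟩ := MulAction.exists_smul_eq G a' c
      rw [one_smul, ← hx, ← mul_smul, hcomm, mul_smul, ha']
    · exact h
  have h1 : g ∈ commutator G := by rw [htop]; exact Subgroup.mem_top g
  exact (Abelianization.commutator_subset_ker f) h1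

/-- The kernel `H` is transitive on the points other than `a`. -/
theorem kernel_trans {G Ω : Type*} [Group G] [Finite G] [MulAction G Ω] [Fintype Ω] {a : Ω}
    (H : Subgroup G) (hHa : H ≤ MulAction.stabilizer G a)
    (hHcard : Nat.card H + 1 = Fintype.card Ω)
    (hHfix : ∀ u ∈ H, u ≠ 1 → ∀ c : Ω, u • c = c → c = a)
    {c d : Ω} (hc : c ≠ a) (hd : d ≠ a) : ∃ u ∈ H, u • c = d := by
  classical
  have hcardc : Nat.card {d : Ω // d ≠ a} = Fintype.card Ω - 1 := by
    rw [Nat.card_eq_fintype_card, Fintype.card_subtype_compl, Fintype.card_subtype_eq]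
  let f : H → {d : Ω // d ≠ a} := fun u => ⟨(u : G) • c, by
    intro h
    apply hc
    have hua : (u : G) • a = a := hHa u.2
    have : (u : G) • c = (u : G) • a := by rw [h, hua]
    exact smul_left_cancel _ this⟩
  have hf : Function.Injective f := by
    intro u v huv
    have h1 : (u : G) • c = (v : G) • c := congrArg Subtype.val huv
    have h2 : ((v : G)⁻¹ * (u : G)) • c = c := by rw [mul_smul, h1, inv_smul_smul]
    by_contra hne
    have h3 : (v : G)⁻¹ * (u : G) ≠ 1 := by
      intro h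
      apply hne
      apply Subtype.ext
      have := inv_mul_eq_one.mp h
      exact this.symm
    exact hc (hHfix _ (H.mul_mem (H.inv_mem v.2) u.2) h3 c h2)
  have hbij := hf.bijective_of_nat_card_le (by omega)
  obtain ⟨u, hu⟩ := hbij.2 ⟨d, hd⟩
  exact ⟨u.1, u.2, congrArg Subtype.val hu⟩

end Cfsg.Agent.Lib.helper2.ZassCount
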