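import Cfsg.Agent.Lib.helper2.ZassTransfer
import Cfsg.Agent.Lib.helper1.FrobChar
import Cfsg.Agent.Lib.helper1.FrobStruct

set_option autoImplicit false

namespace Cfsg.Agent.Lib.helper2.ZassCount

open Cfsg

universe u v

/-- In a Z-group of odd order, an endomorphism inverting the abelianisation has no
non-trivial fixed points. -/
theorem zfix {E : Type*} [Group E] [Finite E] [IsZGroup E] (hodd : Odd (Nat.card E))
    (σ : E →* E) (hσ : ∀ g : E, g * σ g ∈ commutator E) (c : E) (hc : σ c = c) : c = 1 := by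
  have hroot : ∀ (x : E), ∃ k : ℕ, (x ^ 2) ^ k = x := by
    intro x
    have hx : Odd (orderOf x) := Odd.of_dvd_nat hodd (orderOf_dvd_natCard x)
    obtain ⟨k, hk⟩ := hx
    refine ⟨k + 1, ?_⟩
    rw [← pow_mul]
    have : 2 * (k + 1) = orderOf x + 1 := by omega
    rw [this, pow_succ, pow_orderOf_eq_one, one_mul]
  have hD : (commutator E).Normal := inferInstance
  have hcD : c ∈ commutator E := by
    obtain ⟨k, hk⟩ := hroot c
    rw [← hk]
    apply Subgroup.pow_mem
    have := hσ c
    rw [hc] at this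
    rw [sq]
    exact this
  haveI : IsCyclic (commutator E) := IsZGroup.isCyclic_commutator E
  obtain ⟨d₀, hd₀⟩ := IsCyclic.exists_generator (α := ↥(commutator E))
  have hDcomm : ∀ d₁ d₂ : E, d₁ ∈ commutator E → d₂ ∈ commutator E → d₁ * d₂ = d₂ * d₁ := by
    intro d₁ d₂ h1 h2
    obtain ⟨i, hi⟩ := Subgroup.mem_zpowers_iff.mp (hd₀ ⟨d₁, h1⟩)
    obtain ⟨j, hj⟩ := Subgroup.mem_zpowers_iff.mp (hd₀ ⟨d₂, h2⟩)
    have hi' : (d₀ : E) ^ i = d₁ := by
      have := congrArg Subtype.val hi
      simpa using this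
    have hj' : (d₀ : E) ^ j = d₂ := by
      have := congrArg Subtype.val hj
      simpa using this
    rw [← hi', ← hj', ← zpow_add, ← zpow_add, add_comm]
  have hconj : ∀ x : E, ∃ j : ℤ, x * c * x⁻¹ = c ^ j := by
    intro x
    have h1 : x * (d₀ : E) * x⁻¹ ∈ commutator E := hD.conj_mem _ d₀.2 x
    obtain ⟨j, hj⟩ := Subgroup.mem_zpowers_iff.mp (hd₀ ⟨_, h1⟩)
    have hj' : (d₀ : E) ^ j = x * (d₀ : E) * x⁻¹ := by
      have := congrArg Subtype.val hj
      simpa using this
    obtain ⟨i, hi⟩ := Subgroup.mem_zpowers_iff.mp (hd₀ ⟨c, hcD⟩)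
    have hi' : (d₀ : E) ^ i = c := by
      have := congrArg Subtype.val hi
      simpa using this
    refine ⟨j, ?_⟩
    rw [← hi', ← conj_zpow, ← hj', ← zpow_mul, ← zpow_mul, mul_comm]
  have hcent : ∀ x : E, x * c = c * x := by
    intro x
    obtain ⟨j, hj⟩ := hconj x
    have h1 : σ (x * c * x⁻¹) = x * c * x⁻¹ := by
      rw [hj, map_zpow, hc]
    have h2 : σ (x * c * x⁻¹) = x⁻¹ * c * x := by
      rw [map_mul, map_mul, map_inv, hc]
      have hdD : x * σ x ∈ commutator E := hσ x
      have hσx : σ x = x⁻¹ * (x * σ x) := by group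
      have hcm := hDcomm (x * σ x) c hdD hcD
      rw [hσx]
      calc x⁻¹ * (x * σ x) * c * (x⁻¹ * (x * σ x))⁻¹
          = x⁻¹ * ((x * σ x) * c) * (x * σ x)⁻¹ * x := by group
        _ = x⁻¹ * (c * (x * σ x)) * (x * σ x)⁻¹ * x := by rw [hcm]
        _ = x⁻¹ * c * x := by group
    have h3 : x * c * x⁻¹ = x⁻¹ * c * x := by rw [← h1, h2]
    have h4 : x ^ 2 * c = c * x ^ 2 := by
      rw [sq]
      calc x * x * c = x * (x * c * x⁻¹) * x := by group
        _ = x * (x⁻¹ * c * x) * x := by rw [h3]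
        _ = c * (x * x) := by group
    obtain ⟨k, hk⟩ := hroot x
    have h5 : Commute (x ^ 2) c := h4
    have h6 : Commute ((x ^ 2) ^ k) c := h5.pow_left k
    rw [hk] at h6
    exact h6
  letI : CommGroup ↥(commutator E) := IsCyclic.commGroup
  have key : ∀ (k : ℕ) (g₀ : E), g₀⁻¹ * c ^ k * g₀ ∈ commutator E →
      g₀⁻¹ * c ^ k * g₀ = c ^ k := by
    intro k g₀ _
    have hc' : Commute g₀ (c ^ k) := (show Commute g₀ c from hcent g₀).pow_right k
    calc g₀⁻¹ * c ^ k * g₀ = g₀⁻¹ * (c ^ k * g₀) := by group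
      _ = g₀⁻¹ * (g₀ * c ^ k) := by rw [hc'.eq]
      _ = c ^ k := by group
  have htr := MonoidHom.transfer_eq_pow (MonoidHom.id ↥(commutator E)) c key
  have h1 : MonoidHom.transfer (MonoidHom.id ↥(commutator E)) c = 1 :=
    Abelianization.commutator_subset_ker
      (MonoidHom.transfer (MonoidHom.id ↥(commutator E))) hcD
  rw [h1] at htr
  have h2 : c ^ (commutator E).index = 1 := by
    have := congrArg Subtype.val htr
    simpa using this.symm
  have h3 : c ^ Nat.card (commutator E) = 1 := by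
    have h := pow_card_eq_one' (G := ↥(commutator E)) (x := ⟨c, hcD⟩)
    have h' := congrArg Subtype.val h
    rw [Subgroup.coe_pow, Subgroup.coe_one] at h'
    exact h'
  have hcop := IsZGroup.coprime_commutator_index E
  have h4 : orderOf c ∣ (commutator E).index := orderOf_dvd_of_pow_eq_one h2
  have h5 : orderOf c ∣ Nat.card (commutator E) := orderOf_dvd_of_pow_eq_one h3
  have h6 : orderOf c = 1 := Nat.eq_one_of_dvd_coprimes hcop h5 h4
  exact orderOf_eq_one_iff.mp h6

/-- Two-point stabilisers of odd order in a Zassenhaus group are Z-groups (Frobenius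
complements in the point stabiliser). -/
theorem zass_E_zgroup {G : Type u} {Ω : Type v} [Group G] [Finite G] [MulAction G Ω] [Fintype Ω]
    (hZ : IsZassenhausGroup G Ω) {a b : Ω} (hab : a ≠ b)
    (hodd : Odd (Nat.card ↥(MulAction.stabilizer G a ⊓ MulAction.stabilizer G b : Subgroup G))) :
    IsZGroup ↥(MulAction.stabilizer G a ⊓ MulAction.stabilizer G b : Subgroup G) := by
  classical
  have h3 := hZ.2.2.1
  have h2t : ∀ {a b c d : Ω}, a ≠ b → c ≠ d → ∃ g : G, g • a = c ∧ g • b = d :=
    MulAction.is_two_pretransitive_iff.mp hZ.2.1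
  set M := MulAction.stabilizer G a with hM
  set E := (MulAction.stabilizer G a ⊓ MulAction.stabilizer G b : Subgroup G) with hE
  have hEM : E ≤ M := inf_le_left
  set EM : Subgroup M := E.subgroupOf M with hEMdef
  have hEne : ∃ g ∈ E, g ≠ 1 := by
    obtain ⟨g₀, hg1, a', b', hab', ha', hb'⟩ := hZ.2.2.2.1
    obtain ⟨x, hxa, hxb⟩ := h2t hab' hab
    refine ⟨x * g₀ * x⁻¹, ⟨?_, ?_⟩, ?_⟩
    · show (x * g₀ * x⁻¹) • a = a
      rw [mul_smul, mul_smul, ← hxa, inv_smul_smul, ha']
    · show (x * g₀ * x⁻¹) • b = b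
      rw [mul_smul, mul_smul, ← hxb, inv_smul_smul, hb']
    · intro h
      apply hg1
      have : g₀ = x⁻¹ * (x * g₀ * x⁻¹) * x := by group
      rw [this, h]
      group
  obtain ⟨c, hca, hcb⟩ : ∃ c : Ω, c ≠ a ∧ c ≠ b := by
    by_contra hcon
    push Not at hcon
    have : Fintype.card Ω = 2 := by
      have h1 : (Finset.univ : Finset Ω) = {a, b} := by
        ext d
        simp only [Finset.mem_univ, Finset.mem_insert, Finset.mem_singleton, true_iff]
        by_cases hd : d = a
        · left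
          exact hd
        · right
          exact hcon d hd
      rw [← Finset.card_univ, h1, Finset.card_pair hab]
    exact Cfsg.Agent.Lib.helper24.zass_card_ne_two hZ this
  have hfrob : IsFrobeniusComplement EM := by
    refine ⟨?_, ?_, ?_⟩
    · intro h
      obtain ⟨g, hg, hg1⟩ := hEne
      have : (⟨g, hEM hg⟩ : M) ∈ EM := by
        rw [hEMdef, Subgroup.mem_subgroupOf]
        exact hg
      rw [h, Subgroup.mem_bot] at this
      exact hg1 (congrArg Subtype.val this)
    · intro h
      obtain ⟨x, hxa, hxb⟩ := h2t hab (Ne.symm hca)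
      have : (⟨x, hxa⟩ : M) ∈ EM := by
        rw [h]
        exact Subgroup.mem_top _
      rw [hEMdef, Subgroup.mem_subgroupOf] at this
      have h1 : x • b = b := this.2
      exact hcb (by rw [← hxb, h1])
    · intro g hg
      rw [eq_bot_iff]
      intro k hk
      rw [Subgroup.mem_bot]
      obtain ⟨hk1, hk2⟩ := Subgroup.mem_inf.mp hk
      have hk1' : (k : G) ∈ E := by
        have := hk1
        rw [hEMdef, Subgroup.mem_subgroupOf] at this
        exact this
      have hk3 : g⁻¹ * k * g ∈ EM := by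
        rw [Subgroup.mem_pointwise_smul_iff_inv_smul_mem] at hk2
        simpa [MulAut.smul_def, mul_assoc] using hk2
      rw [hEMdef, Subgroup.mem_subgroupOf] at hk3
      have hgb : (g : G) • b ≠ b := by
        intro h
        apply hg
        rw [hEMdef, Subgroup.mem_subgroupOf]
        exact ⟨g.2, h⟩
      have hgba : (g : G) • b ≠ a := by
        intro h
        apply hab
        have : (g : G) • b = (g : G) • a := by rw [h]; exact g.2.symm
        exact (smul_left_cancel _ this).symm
      have hkgb : (k : G) • ((g : G) • b) = (g : G) • b := by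
        have h1 : ((g : G)⁻¹ * (k : G) * (g : G)) • b = b := hk3.2
        rw [mul_smul, mul_smul, inv_smul_eq_iff] at h1
        exact h1
      exact Subtype.ext
        (h3 (k : G) a b ((g : G) • b) hab (Ne.symm hgb) (Ne.symm hgba) hk1'.1 hk1'.2 hkgb)
  obtain ⟨N, hNset, hNn, hNc⟩ := Cfsg.Agent.Lib.helper1.frobenius_theorem EM hfrob
  haveI := hNn
  have hNne : N ≠ ⊥ := by
    intro h
    rw [h] at hNc
    exact hfrob.2.1 (Subgroup.isComplement'_bot_left.mp hNc)
  have hfpf : ∀ h ∈ EM, h ≠ 1 → N ⊓ Subgroup.centralizer {h} = ⊥ := by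
    intro h hh hh1
    rw [eq_bot_iff]
    intro x hx
    rw [Subgroup.mem_bot]
    obtain ⟨hxN, hxc⟩ := Subgroup.mem_inf.mp hx
    have hxK : x ∈ Cfsg.frobeniusKernel EM := by
      rw [← hNset]
      exact hxN
    rcases hxK with h1 | h1
    · exact h1
    · exfalso
      apply h1 1
      rw [map_one, one_smul, hEMdef, Subgroup.mem_subgroupOf]
      refine ⟨x.2, ?_⟩
      by_contra hxb
      apply hh1
      rw [hEMdef, Subgroup.mem_subgroupOf] at hh
      have hcomm : (h : G) * (x : G) = (x : G) * (h : G) := by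
        have := Subgroup.mem_centralizer_iff.mp hxc h (Set.mem_singleton h)
        exact congrArg Subtype.val this
      have hhxb : (h : G) • ((x : G) • b) = (x : G) • b := by
        rw [← mul_smul, hcomm, mul_smul, hh.2]
      have hxba : (x : G) • b ≠ a := by
        intro h'
        apply hab
        have : (x : G) • b = (x : G) • a := by rw [h']; exact x.2.symm
        exact (smul_left_cancel _ this).symm
      exact Subtype.ext
        (h3 (h : G) a b ((x : G) • b) hab (Ne.symm hxb) (Ne.symm hxba) hh.1 hh.2 hhxb)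
  have hcardEM : Nat.card EM = Nat.card E :=
    Nat.card_congr (Subgroup.subgroupOfEquivOfLe hEM).toEquiv
  have hZEM : IsZGroup EM :=
    Cfsg.Agent.Lib.helper1.frob_complement_isZGroup N EM hNc hNne hfpf
      (by rw [hcardEM]; exact hodd)
  exact IsZGroup.of_injective (f := (Subgroup.subgroupOfEquivOfLe hEM).symm.toMonoidHom)
    (Subgroup.subgroupOfEquivOfLe hEM).symm.injective

/-- Transfer into a two-point stabiliser of a Zassenhaus group. -/
theorem transfer_E {G Ω : Type*} [Group G] [Finite G] [MulAction G Ω]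
    (hZ : IsZassenhausGroup G Ω) {a b : Ω} (hab : a ≠ b) {A : Type*} [CommGroup A]
    (ϕ : ↥(MulAction.stabilizer G a ⊓ MulAction.stabilizer G b : Subgroup G) →* A) (s : G)
    (hsa : s • a = b) (hsb : s • b = a) (g : G)
    (hg : g ∈ (MulAction.stabilizer G a ⊓ MulAction.stabilizer G b : Subgroup G)) :
    ∃ hsg : s⁻¹ * g * s ∈ (MulAction.stabilizer G a ⊓ MulAction.stabilizer G b : Subgroup G),
      MonoidHom.transfer ϕ g = ϕ ⟨g, hg⟩ * ϕ ⟨s⁻¹ * g * s, hsg⟩ := by
  have hsia : s⁻¹ • a = b := by rw [inv_smul_eq_iff, hsb]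
  have hsib : s⁻¹ • b = a := by rw [inv_smul_eq_iff, hsa]
  have hsg : s⁻¹ * g * s ∈ (MulAction.stabilizer G a ⊓ MulAction.stabilizer G b : Subgroup G) := by
    refine ⟨?_, ?_⟩
    · show (s⁻¹ * g * s) • a = a
      rw [mul_smul, mul_smul, hsa, hg.2, hsib]
    · show (s⁻¹ * g * s) • b = b
      rw [mul_smul, mul_smul, hsb, hg.1, hsia]
  refine ⟨hsg, ?_⟩
  have hsE : s ∉ (MulAction.stabilizer G a ⊓ MulAction.stabilizer G b : Subgroup G) := by
    intro h
    have : s • a = a := h.1
    rw [hsa] at this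
    exact hab this.symm
  apply transfer_two ϕ g hg s hsE hsg
  intro t n hm ht hst
  have hgn : g ^ n = 1 := by
    by_contra hne
    have hga : (g ^ n) • a = a := (MulAction.stabilizer G a).pow_mem hg.1 n
    have hgb : (g ^ n) • b = b := (MulAction.stabilizer G b).pow_mem hg.2 n
    have hta : (g ^ n) • (t • a) = t • a := by
      have h1 : (t⁻¹ * g ^ n * t) • a = a := hm.1
      rw [mul_smul, mul_smul, inv_smul_eq_iff] at h1
      exact h1
    have htb : (g ^ n) • (t • b) = t • b := by
      have h1 : (t⁻¹ * g ^ n * t) • b = b := hm.2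
      rw [mul_smul, mul_smul, inv_smul_eq_iff] at h1
      exact h1
    rcases Cfsg.Agent.Lib.helper24.zass_perm_of_fix hZ hab (g ^ n) hne hga hgb t hta htb
      with ⟨h1, h2⟩ | ⟨h1, h2⟩
    · exact ht ⟨h1, h2⟩
    · apply hst
      refine ⟨?_, ?_⟩
      · show (s⁻¹ * t) • a = a
        rw [mul_smul, h1, hsib]
      · show (s⁻¹ * t) • b = b
        rw [mul_smul, h2, hsia]
  have e : (⟨t⁻¹ * g ^ n * t, hm⟩ :
      ↥(MulAction.stabilizer G a ⊓ MulAction.stabilizer G b : Subgroup G)) = 1 := by
    apply Subtype.ext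
    simp [hgn]
  rw [e, map_one]

/-- If `g * g^s ∈ E'` for all `g ∈ E`, then the element `s` swapping `a` and `b` is an
involution. -/
theorem swap_sq {G : Type u} {Ω : Type v} [Group G] [Finite G] [MulAction G Ω] [Fintype Ω]
    (hZ : IsZassenhausGroup G Ω) {a b : Ω} (hab : a ≠ b)
    (hodd : Odd (Nat.card ↥(MulAction.stabilizer G a ⊓ MulAction.stabilizer G b : Subgroup G)))
    (s : G) (hsa : s • a = b) (hsb : s • b = a)
    (hP : ∀ (g : G) (hg : g ∈ (MulAction.stabilizer G a ⊓ MulAction.stabilizer G b : Subgroup G))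
      (hsg : s⁻¹ * g * s ∈ (MulAction.stabilizer G a ⊓ MulAction.stabilizer G b : Subgroup G)),
      (⟨g, hg⟩ : ↥(MulAction.stabilizer G a ⊓ MulAction.stabilizer G b : Subgroup G))
        * ⟨s⁻¹ * g * s, hsg⟩
        ∈ commutator ↥(MulAction.stabilizer G a ⊓ MulAction.stabilizer G b : Subgroup G)) :
    s * s = 1 := by
  haveI := zass_E_zgroup hZ hab hodd
  have hsia : s⁻¹ • a = b := by rw [inv_smul_eq_iff, hsb]
  have hsib : s⁻¹ • b = a := by rw [inv_smul_eq_iff, hsa]
  have hconj : ∀ g ∈ (MulAction.stabilizer G a ⊓ MulAction.stabilizer G b : Subgroup G),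
      s⁻¹ * g * s ∈ (MulAction.stabilizer G a ⊓ MulAction.stabilizer G b : Subgroup G) := by
    intro g hg
    refine ⟨?_, ?_⟩
    · show (s⁻¹ * g * s) • a = a
      rw [mul_smul, mul_smul, hsa, hg.2, hsib]
    · show (s⁻¹ * g * s) • b = b
      rw [mul_smul, mul_smul, hsb, hg.1, hsia]
  let σ : ↥(MulAction.stabilizer G a ⊓ MulAction.stabilizer G b : Subgroup G) →*
      ↥(MulAction.stabilizer G a ⊓ MulAction.stabilizer G b : Subgroup G) :=
    { toFun := fun g => ⟨s⁻¹ * g * s, hconj g g.2⟩
      map_one' := by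
        apply Subtype.ext
        simp
      map_mul' := by
        intro x y
        apply Subtype.ext
        simp only [Subgroup.coe_mul]
        group }
  have hssE : s * s ∈ (MulAction.stabilizer G a ⊓ MulAction.stabilizer G b : Subgroup G) := by
    refine ⟨?_, ?_⟩
    · show (s * s) • a = a
      rw [mul_smul, hsa, hsb]
    · show (s * s) • b = b
      rw [mul_smul, hsb, hsa]
  have h1 := zfix hodd σ (fun g => hP g g.2 (hconj g g.2)) ⟨s * s, hssE⟩ (by
    apply Subtype.ext
    show s⁻¹ * (s * s) * s = s * s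
    group)
  exact congrArg Subtype.val h1

end Cfsg.Agent.Lib.helper2.ZassCount
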